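import Cfsg.Prelude.Def_PLocal
import Cfsg.Prelude.Def_LocalEven
import Cfsg.Agent.Fusion.PComplement

/-!
# Images of the centre and of the Thompson subgroup; sections
-/

set_option autoImplicit false

namespace Cfsg.Agent.H59

open Subgroup

universe u v w

variable {G : Type u} [Group G] {H : Type v} [Group H]

theorem isMulCommutative_map (f : G →* H) {A : Subgroup G} (hA : IsMulCommutative A) :
    IsMulCommutative (A.map f : Subgroup H) := by
  refine ⟨⟨fun x y => ?_⟩⟩
  obtain ⟨a, ha, hax⟩ := x.2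
  obtain ⟨b, hb, hby⟩ := y.2
  apply Subtype.ext
  rw [coe_mul, coe_mul, ← hax, ← hby, ← map_mul, ← map_mul]
  exact congrArg f (congrArg (fun z : A => (z : G)) (hA.is_comm.comm ⟨a, ha⟩ ⟨b, hb⟩))

theorem map_thompsonA_le (e : G ≃* H) :
    (thompsonSubgroupA G).map e.toMonoidHom ≤ thompsonSubgroupA H := by
  rw [map_le_iff_le_comap]
  refine sSup_le fun A hA => map_le_iff_le_comap.mp (le_sSup ⟨?_, fun B hB => ?_⟩)
  · exact isMulCommutative_map _ hA.1
  · rw [card_map_of_injective e.injective]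
    have h1 : IsMulCommutative (B.map e.symm.toMonoidHom : Subgroup G) := isMulCommutative_map _ hB
    have := hA.2 _ h1
    rwa [card_map_of_injective e.symm.injective] at this

theorem map_thompsonA (e : G ≃* H) :
    (thompsonSubgroupA G).map e.toMonoidHom = thompsonSubgroupA H := by
  refine le_antisymm (map_thompsonA_le e) fun x hx => ?_
  exact ⟨e.symm x, map_thompsonA_le e.symm ⟨x, hx, rfl⟩, e.apply_symm_apply x⟩

/-- The Thompson subgroup commutes with homomorphisms injective on the subgroup. -/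
theorem thompsonAOf_map (f : G →* H) (P : Subgroup G) (hf : Set.InjOn f (P : Set G)) :
    thompsonSubgroupAOf (P.map f) = (thompsonSubgroupAOf P).map f := by
  have hb : Function.Bijective (f.subgroupMap P) :=
    ⟨fun a b h => Subtype.ext (hf a.2 b.2 (congrArg Subtype.val h)),
      f.subgroupMap_surjective P⟩
  unfold thompsonSubgroupAOf
  rw [← map_thompsonA (MulEquiv.ofBijective _ hb), Subgroup.map_map, Subgroup.map_map]
  rfl

/-- The centre commutes with homomorphisms injective on the subgroup. -/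
theorem center_map (f : G →* H) (P : Subgroup G) (hf : Set.InjOn f (P : Set G)) :
    (P ⊓ centralizer (P : Set G)).map f = P.map f ⊓ centralizer ((P.map f : Subgroup H) : Set H) := by
  ext x
  constructor
  · rintro ⟨a, ⟨ha, hac⟩, rfl⟩
    refine ⟨mem_map_of_mem f ha, ?_⟩
    rintro _ ⟨b, hb, rfl⟩
    rw [← map_mul, ← map_mul, hac b hb]
  · rintro ⟨⟨a, ha, rfl⟩, hc⟩
    refine ⟨a, ⟨ha, fun b hb => ?_⟩, rfl⟩
    apply hf (mul_mem hb ha) (mul_mem ha hb)
    rw [map_mul, map_mul]
    exact hc _ (mem_map_of_mem f hb)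

theorem normalizer_le_normalizer_thompsonAOf (P : Subgroup G) :
    normalizer (P : Set G) ≤ normalizer (thompsonSubgroupAOf P : Set G) := by
  intro x hx
  rw [mem_normalizer_iff_map_conj_eq] at hx ⊢
  rw [← thompsonAOf_map _ P (fun a _ b _ h => (MulAut.conj x).injective h), hx]

theorem normalizer_le_normalizer_center (P : Subgroup G) :
    normalizer (P : Set G) ≤ normalizer ((P ⊓ centralizer (P : Set G) : Subgroup G) : Set G) := by
  intro x hx
  rw [mem_normalizer_iff_map_conj_eq] at hx ⊢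
  rw [center_map _ P (fun a _ b _ h => (MulAut.conj x).injective h), hx]

theorem thompsonAOf_le (P : Subgroup G) : thompsonSubgroupAOf P ≤ P := map_subtype_le _

theorem thompsonAOf_ne_bot [Finite G] {P : Subgroup G} (hP : P ≠ ⊥) :
    thompsonSubgroupAOf P ≠ ⊥ := by
  intro h
  obtain ⟨A, hA, hmax⟩ : ∃ A : Subgroup P, IsMulCommutative A ∧
      ∀ B : Subgroup P, IsMulCommutative B → Nat.card B ≤ Nat.card A := by
    obtain ⟨A, h1, h2⟩ := (Set.toFinite {B : Subgroup P | IsMulCommutative B}).exists_maximalFor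
      (fun B : Subgroup P => Nat.card B) _ ⟨⊥, (inferInstance : IsMulCommutative (⊥ : Subgroup P))⟩
    refine ⟨A, h1, fun B hB => ?_⟩
    rcases le_total (Nat.card B) (Nat.card A) with h | h
    · exact h
    · exact h2 hB h
  have hle : A ≤ thompsonSubgroupA P := le_sSup ⟨hA, hmax⟩
  have hbot : thompsonSubgroupA P = ⊥ := (map_eq_bot_iff_of_injective _ P.subtype_injective).mp h
  rw [hbot, le_bot_iff] at hle
  obtain ⟨x, hx⟩ := (ne_bot_iff_exists_ne_one).mp hP
  have := hmax (zpowers x) inferInstance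
  rw [hle, card_bot] at this
  exact hx (zpowers_eq_bot.mp (eq_bot_of_card_le _ this))

/-- Membership in `maxAbelianSubgroups`, seen in the ambient group. -/
theorem le_thompsonAOf {S A : Subgroup G} (hA : A ≤ S) (hc : IsMulCommutative A)
    (hmax : ∀ B : Subgroup G, B ≤ S → IsMulCommutative B → Nat.card B ≤ Nat.card A) :
    A ≤ thompsonSubgroupAOf S := by
  intro a ha
  refine ⟨⟨a, hA ha⟩, le_sSup (show A.subgroupOf S ∈ maxAbelianSubgroups S from
    ⟨⟨⟨fun x y => Subtype.ext (Subtype.ext (congrArg (fun z : A => (z : G))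
      (hc.is_comm.comm (⟨((x : S) : G), x.2⟩ : A) ⟨((y : S) : G), y.2⟩)))⟩⟩, fun B hB => ?_⟩)
    (show (⟨a, hA ha⟩ : S) ∈ A.subgroupOf S from ha), rfl⟩
  rw [Nat.card_congr (subgroupOfEquivOfLe hA).toEquiv]
  have h1 : IsMulCommutative (B.map S.subtype : Subgroup G) := isMulCommutative_map _ hB
  have := hmax _ (map_subtype_le B) h1
  rwa [card_map_of_injective S.subtype_injective] at this

/-- If the Thompson subgroup of `S` lies in `R ≤ S` then it is the Thompson subgroup of `R`. -/
theorem thompsonAOf_eq_of_le [Finite G] {R S : Subgroup G} (hRS : R ≤ S)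
    (h : thompsonSubgroupAOf S ≤ R) : thompsonSubgroupAOf R = thompsonSubgroupAOf S := by
  have hcomm : ∀ (P : Subgroup G) (B : Subgroup P), IsMulCommutative B →
      IsMulCommutative (B.map P.subtype : Subgroup G) := fun P B hB => isMulCommutative_map _ hB
  have hmaxS : ∀ A : Subgroup S, A ∈ maxAbelianSubgroups S → A.map S.subtype ≤ R :=
    fun A hA => (map_mono (le_sSup hA)).trans h
  have hcardS : ∀ A : Subgroup S, A ∈ maxAbelianSubgroups S → ∀ B : Subgroup G, B ≤ S →
      IsMulCommutative B → Nat.card B ≤ Nat.card (A.map S.subtype) := by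
    intro A hA B hBS hB
    rw [card_map_of_injective S.subtype_injective,
      ← Nat.card_congr (subgroupOfEquivOfLe hBS).toEquiv]
    exact hA.2 _ ⟨⟨fun x y => Subtype.ext (Subtype.ext (congrArg (fun z : B => (z : G))
      (hB.is_comm.comm (⟨((x : S) : G), x.2⟩ : B) ⟨((y : S) : G), y.2⟩)))⟩⟩
  obtain ⟨A0, hA0⟩ : (maxAbelianSubgroups S).Nonempty := by
    obtain ⟨A, h1, h2⟩ := (Set.toFinite {B : Subgroup S | IsMulCommutative B}).exists_maximalFor
      (fun B : Subgroup S => Nat.card B) _ ⟨⊥, (inferInstance : IsMulCommutative (⊥ : Subgroup S))⟩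
    refine ⟨A, h1, fun B hB => ?_⟩
    rcases le_total (Nat.card B) (Nat.card A) with h | h
    · exact h
    · exact h2 hB h
  refine le_antisymm ?_ ?_
  · refine map_le_iff_le_comap.mpr (sSup_le fun B hB => map_le_iff_le_comap.mp ?_)
    refine le_thompsonAOf ((map_subtype_le B).trans hRS) (hcomm R B hB.1) fun C hCS hC => ?_
    refine (hcardS A0 hA0 C hCS hC).trans ?_
    rw [card_map_of_injective R.subtype_injective,
      ← Nat.card_congr (subgroupOfEquivOfLe (hmaxS A0 hA0)).toEquiv]
    exact hB.2 _ ⟨⟨fun x y => Subtype.ext (Subtype.ext (congrArg (fun z : ↥(A0.map S.subtype) => (z : G))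
      ((hcomm S A0 hA0.1).is_comm.comm (⟨((x : R) : G), x.2⟩ : ↥(A0.map S.subtype))
        ⟨((y : R) : G), y.2⟩)))⟩⟩
  · refine map_le_iff_le_comap.mpr (sSup_le fun A hA => map_le_iff_le_comap.mp ?_)
    exact le_thompsonAOf (hmaxS A hA) (hcomm S A hA.1)
      fun C hC hCc => hcardS A hA C (hC.trans hRS) hCc

/-- A group involved in a homomorphic image of a subgroup is involved in the group. -/
theorem involves_of_surjective {X : Type v} [Group X] {Y : Type w} [Group Y] {L : Subgroup G}
    (f : L →* X) (hf : Function.Surjective f) (h : Cfsg.Involves Y X) : Cfsg.Involves Y G := by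
  obtain ⟨K, R, hn, ⟨e⟩⟩ := h
  let K1 : Subgroup G := (K.comap f).map L.subtype
  let R1 : Subgroup G := ((R ⊓ K).comap f).map L.subtype
  have hK1L : K1 ≤ L := map_subtype_le _
  have hmem : ∀ (x : G) (M : Subgroup X) (hx : x ∈ (M.comap f).map L.subtype),
      f ⟨x, map_subtype_le _ hx⟩ ∈ M := by
    rintro x M ⟨l, hl, rfl⟩
    exact hl
  let g : K1 →* K ⧸ R.subgroupOf K :=
    (QuotientGroup.mk' _).comp ((f.comp (inclusion hK1L)).codRestrict K fun x => hmem x K x.2)
  have hg : Function.Surjective g := fun q => by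
    obtain ⟨⟨k, hk⟩, rfl⟩ := QuotientGroup.mk'_surjective _ q
    obtain ⟨l, rfl⟩ := hf k
    exact ⟨⟨l, l, hk, rfl⟩, rfl⟩
  have hker : R1.subgroupOf K1 = g.ker := by
    ext ⟨x, hx⟩
    constructor
    · intro h
      exact (QuotientGroup.eq_one_iff _).mpr (hmem x (R ⊓ K) h).1
    · intro h
      have h' : (⟨f ⟨x, hK1L hx⟩, hmem x K hx⟩ : K) ∈ R.subgroupOf K :=
        (QuotientGroup.eq_one_iff _).mp h
      exact ⟨⟨x, hK1L hx⟩, ⟨h', hmem x K hx⟩, rfl⟩
  have hn1 : (R1.subgroupOf K1).Normal := by rw [hker]; infer_instance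
  exact ⟨K1, R1, hn1, ⟨((QuotientGroup.quotientMulEquivOfEq hker).trans
    (QuotientGroup.quotientKerEquivOfSurjective g hg)).trans e⟩⟩

end Cfsg.Agent.H59
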