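import Cfsg.Agent.H59.OffenderSection

/-!
# Normal p-complement theorem from `C(Z(S))` and `N(J(S))`
-/

set_option autoImplicit false

namespace Cfsg.Agent.H59

open Subgroup

universe u

variable {G : Type u} [Group G] [Finite G] {p : ℕ} [Fact p.Prime]

/-- The hypothesis: `C(Z(S))` and `N(J(S))` have normal `p`-complements. -/
def THyp (p : ℕ) (S : Subgroup G) : Prop :=
  HasNormalPComplement p ↥(centralizer ((S ⊓ centralizer (S : Set G) : Subgroup G) : Set G)) ∧
    HasNormalPComplement p ↥(normalizer (thompsonSubgroupAOf S : Set G))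

theorem mem_centralizer_map {X : Type u} [Group X] (f : G →* X) {P : Subgroup G} {x : G}
    (hx : x ∈ centralizer (P : Set G)) : f x ∈ centralizer ((P.map f : Subgroup X) : Set X) := by
  rintro _ ⟨a, ha, rfl⟩
  rw [← map_mul, ← map_mul, hx a ha]

omit [Fact p.Prime] in
theorem map_sylow_subtype_le {N : Subgroup G} (T : Subgroup N) : T.map N.subtype ≤ N :=
  map_subtype_le T

theorem normal_le_sylow {X : Type u} [Group X] {R : Subgroup X} [R.Normal] (hR : IsPGroup p R)
    (T : Sylow p X) : R ≤ T :=
  (Cores.le_pCore hR).trans (Cores.pCore_le_sylow T)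

theorem THyp.conj {S : Sylow p G} (h : THyp p (S : Subgroup G)) (S' : Sylow p G) :
    THyp p (S' : Subgroup G) := by
  obtain ⟨g, hg⟩ := MulAction.exists_smul_eq G S S'
  set φ : G →* G := (MulAut.conj g).toMonoidHom with hφ
  have hS' : (S' : Subgroup G) = (S : Subgroup G).map φ := by rw [← hg]; rfl
  have hinj : Function.Injective φ := (MulAut.conj g).injective
  refine ⟨map_complement φ h.1 fun x hx => ?_, map_complement φ h.2 fun x hx => ?_⟩
  · refine ⟨(MulAut.conj g).symm x, fun z hz => hinj ?_, (MulAut.conj g).apply_symm_apply x⟩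
    have h1 := hx (φ z) (by rw [hS', ← center_map φ _ hinj.injOn]; exact mem_map_of_mem φ hz)
    rw [map_mul, map_mul]
    simp only [hφ, MulEquiv.toMonoidHom_eq_coe, MonoidHom.coe_coe, MulEquiv.apply_symm_apply]
    exact h1
  · rw [hS', thompsonAOf_map φ _ hinj.injOn,
      ← map_equiv_normalizer_eq _ (MulAut.conj g)] at hx
    exact hx

theorem THyp.sylow_subgroup {N : Subgroup G} (T : Sylow p N)
    (h1 : HasNormalPComplement p ↥(N ⊓ centralizer
      ((((T : Subgroup N).map N.subtype) ⊓ centralizer
        (((T : Subgroup N).map N.subtype : Subgroup G) : Set G) : Subgroup G) : Set G)))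
    (h2 : HasNormalPComplement p
      ↥(N ⊓ normalizer (thompsonSubgroupAOf ((T : Subgroup N).map N.subtype) : Set G))) :
    THyp p (T : Subgroup N) := by
  refine ⟨subgroup_complement h1 ?_, subgroup_complement h2 ?_⟩
  · rintro _ ⟨x, hx, rfl⟩
    refine ⟨x.2, ?_⟩
    rw [← center_map _ _ N.subtype_injective.injOn]
    exact mem_centralizer_map N.subtype hx
  · rintro _ ⟨x, hx, rfl⟩
    refine ⟨x.2, ?_⟩
    rw [thompsonAOf_map _ _ N.subtype_injective.injOn]
    exact le_normalizer_map _ (mem_map_of_mem N.subtype hx)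

theorem THyp.of_le {N : Subgroup G} (S : Sylow p G) (hSN : (S : Subgroup G) ≤ N)
    (h : THyp p (S : Subgroup G)) : THyp p ((S.subtype hSN : Sylow p N) : Subgroup N) := by
  have he : ((S.subtype hSN : Sylow p N) : Subgroup N).map N.subtype = (S : Subgroup G) := by
    rw [Sylow.coe_subtype, subgroupOf_map_subtype, inf_of_le_left hSN]
  refine THyp.sylow_subgroup _ ?_ ?_ <;> rw [he]
  · exact Fusion.hasNormalPComplement_of_le h.1 inf_le_right
  · exact Fusion.hasNormalPComplement_of_le h.2 inf_le_right

theorem THyp.quotient_pPrime {N : Subgroup G} [N.Normal] (hN : (Nat.card N).Coprime p)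
    (S : Sylow p G) (h : THyp p (S : Subgroup G)) :
    THyp p ((S.mapSurjective (QuotientGroup.mk'_surjective N) : Sylow p (G ⧸ N)) :
      Subgroup (G ⧸ N)) := by
  set f := QuotientGroup.mk' N with hf
  have hSN : ∀ x ∈ (S : Subgroup G), x ∈ N → x = 1 := fun x hx hxN => by
    obtain ⟨k, hk⟩ := S.isPGroup' ⟨x, hx⟩
    exact orderOf_eq_one_iff.mp (Nat.eq_one_of_dvd_coprimes (hN.pow_right k)
      (N.orderOf_dvd_natCard hxN) (orderOf_dvd_of_pow_eq_one (congrArg Subtype.val hk)))
  have hinj : Set.InjOn f ((S : Subgroup G) : Set G) := fun x hx y hy hxy => by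
    have : x⁻¹ * y ∈ N := QuotientGroup.eq.mp hxy
    exact inv_mul_eq_one.mp (hSN _ (mul_mem (inv_mem hx) hy) this)
  rw [Sylow.coe_mapSurjective]
  refine ⟨map_complement f h.1 fun x hx => ?_, map_complement f h.2 fun x hx => ?_⟩
  · obtain ⟨g, rfl⟩ := QuotientGroup.mk'_surjective N x
    rw [← center_map f _ hinj] at hx
    set Z : Subgroup G := (S : Subgroup G) ⊓ centralizer ((S : Subgroup G) : Set G)
    have hgz : ∀ z ∈ Z, g * z * g⁻¹ * z⁻¹ ∈ N := fun z hz => by
      refine (QuotientGroup.eq_one_iff _).mp ?_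
      change f (g * z * g⁻¹ * z⁻¹) = 1
      rw [map_mul, map_mul, map_mul, map_inv, map_inv, ← hx _ (mem_map_of_mem f hz),
        mul_inv_cancel_right, mul_inv_cancel]
    obtain ⟨n, hn, hng⟩ := exists_normalizer_mul hN (S.isPGroup'.to_le inf_le_left)
      (g := g) (J := Z) fun z hz => by
        have := mul_mem (mem_sup_left (T := Z) (hgz z hz)) (mem_sup_right (S := N) hz)
        rwa [inv_mul_cancel_right] at this
    refine ⟨n * g, fun z hz => ?_, ?_⟩
    · have h1 : n * g * z * (n * g)⁻¹ ∈ Z := (mem_normalizer_iff.mp hng z).mp hz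
      have h2 : n * g * z * (n * g)⁻¹ * z⁻¹ ∈ N := by
        rw [show n * g * z * (n * g)⁻¹ * z⁻¹ = n * (g * z * g⁻¹ * z⁻¹) * (z * n⁻¹ * z⁻¹) by group]
        exact mul_mem (mul_mem hn (hgz z hz)) (Normal.conj_mem ‹_› _ (inv_mem hn) z)
      have h3 := hSN _ (mul_mem h1 (inv_mem hz)).1 h2
      exact (mul_inv_eq_iff_eq_mul.mp (mul_inv_eq_one.mp h3)).symm
    · rw [map_mul, show f n = 1 from (QuotientGroup.eq_one_iff n).mpr hn, one_mul]
  · obtain ⟨g, rfl⟩ := QuotientGroup.mk'_surjective N x
    rw [thompsonAOf_map f _ hinj] at hx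
    obtain ⟨n, hn, hng⟩ := exists_normalizer_mul hN
      (S.isPGroup'.to_le (thompsonAOf_le (S : Subgroup G))) (g := g) fun z hz => by
        obtain ⟨w, hw, hwe⟩ := (mem_normalizer_iff.mp hx (f z)).mp (mem_map_of_mem f hz)
        have h1 : g * z * g⁻¹ * w⁻¹ ∈ N := by
          refine (QuotientGroup.eq_one_iff _).mp ?_
          change f (g * z * g⁻¹ * w⁻¹) = 1
          rw [map_mul, map_mul, map_mul, map_inv, map_inv, hwe, mul_inv_cancel]
        have := mul_mem (mem_sup_left (T := thompsonSubgroupAOf (S : Subgroup G)) h1)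
          (mem_sup_right (S := N) hw)
        rwa [inv_mul_cancel_right] at this
    exact ⟨n * g, hng, by
      rw [map_mul, show f n = 1 from (QuotientGroup.eq_one_iff n).mpr hn, one_mul]⟩

/-- The facts about a minimal counterexample needed for the last step. -/
theorem false_of_minimal (S : Sylow p G) (hS : THyp p (S : Subgroup G))
    (hfree : p ≠ 2 ∨ ¬ Cfsg.Involves (Equiv.Perm (Fin 4)) G)
    (hnot : ¬ HasNormalPComplement p G) (hcore : pPrimeCore p G = ⊥)
    (R : Subgroup G) [R.Normal] (hRp : IsPGroup p R)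
    (hRmax : ∀ W : Subgroup G, W.Normal → IsPGroup p W → W ≤ R)
    (hquot : HasNormalPComplement p (G ⧸ R))
    (hsub : ∀ M : Subgroup G, (S : Subgroup G) ≤ M → M ≠ ⊤ → HasNormalPComplement p M) :
    False := by
  classical
  have hRS : R ≤ S := normal_le_sylow hRp S
  have hSnot : ¬ ∀ g : G, g ∈ normalizer ((S : Subgroup G) : Set G) := fun h =>
    hnot <| Fusion.hasNormalPComplement_of_surjective
      (Fusion.hasNormalPComplement_of_le (K := (⊤ : Subgroup G)) hS.2
        fun g _ => normalizer_le_normalizer_thompsonAOf _ (h g))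
      (topEquiv : (⊤ : Subgroup G) ≃* G).toMonoidHom topEquiv.surjective
  set f := QuotientGroup.mk' R with hf
  have hfs : Function.Surjective f := QuotientGroup.mk'_surjective R
  let Kb : Subgroup (G ⧸ R) := pResidual p (G ⧸ R)
  have hKb : (Nat.card Kb).Coprime p :=
    ((Nat.Prime.coprime_iff_not_dvd Fact.out).mpr
      (Fusion.hasNormalPComplement_iff_pResidual.mp hquot)).symm
  let K : Subgroup G := Kb.comap f
  have hKpow : ∀ g : G, ∃ k : ℕ, g ^ p ^ k ∈ K := fun g => by
    obtain ⟨k, hk⟩ := Fusion.exists_pow_mem_pResidual (p := p) (f g)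
    exact ⟨k, by rw [mem_comap, map_pow]; exact hk⟩
  have hKR : ∀ g ∈ K, ∀ k : ℕ, g ^ p ^ k ∈ R → g ∈ R := fun g hg k hgk => by
    refine (QuotientGroup.eq_one_iff g).mp (orderOf_eq_one_iff.mp ?_)
    refine Nat.eq_one_of_dvd_coprimes (hKb.pow_right k) (Kb.orderOf_dvd_natCard hg) ?_
    exact orderOf_dvd_of_pow_eq_one (by
      rw [← QuotientGroup.mk_pow]; exact (QuotientGroup.eq_one_iff _).mpr hgk)
  -- `C(R) ≤ R`
  have hCR : centralizer (R : Set G) ≤ R := by
    refine normal_le_of_inf_le hRp hRmax hKpow ?_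
    set M : Subgroup G := centralizer (R : Set G) ⊓ K
    have hP0 : IsPGroup p ((R.subgroupOf M : Subgroup M)) := hRp.comap_subtype
    have hidx : ¬ p ∣ (R.subgroupOf M).index := by
      intro hd
      refine (Nat.Prime.coprime_iff_not_dvd Fact.out).mp hKb.symm (hd.trans ?_)
      have : (R.subgroupOf M).index = Nat.card (f.domRestrict M).range := by
        rw [← index_ker]; congr 1; ext x
        exact (QuotientGroup.eq_one_iff (x : G)).symm
      rw [this, MonoidHom.domRestrict_range]
      exact card_dvd_of_le (map_le_iff_le_comap.mpr inf_le_right)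
    have hcompl : HasNormalPComplement p M := by
      refine Fusion.hasNormalPComplement_of_normalizer_le_centralizer (hP0.toSylow hidx)
        fun x _ r hr => ?_
      exact Subtype.ext (mem_centralizer_iff.mp x.2.1 _ hr)
    have : (pResidual p M).map M.subtype ≤ pPrimeCore p G := by
      refine le_sSup ⟨inferInstance, ?_⟩
      rw [card_map_of_injective M.subtype_injective]
      exact ((Nat.Prime.coprime_iff_not_dvd Fact.out).mpr
        (Fusion.hasNormalPComplement_iff_pResidual.mp hcompl)).symm
    rw [hcore, le_bot_iff, map_eq_bot_iff_of_injective _ M.subtype_injective] at this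
    have hMp : IsPGroup p M := fun x => by
      obtain ⟨k, hk⟩ := Fusion.exists_pow_mem_pResidual (p := p) x
      rw [this, mem_bot] at hk
      exact ⟨k, hk⟩
    exact hRmax M inferInstance hMp
  -- `S` is maximal
  have hSmax : ∀ M : Subgroup G, (S : Subgroup G) ≤ M → M ≠ ⊤ → M ≤ (S : Subgroup G) := by
    intro M hSM hM
    have hc := hsub M hSM hM
    have hbot : pResidual p M = ⊥ := by
      refine (eq_bot_iff_forall _).mpr fun x hx => ?_
      have hxc : (x : G) ∈ centralizer (R : Set G) := fun r hr => by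
        have h1 := Fusion.commute_of_hasNormalPComplement hc (Q := R.subgroupOf M)
          (hQ := hRp.comap_subtype) (g := x)
          ((Fusion.mem_pResidual_iff_of_hasNormalPComplement hc).mp hx)
          (x := (⟨r, hSM (hRS hr)⟩ : M)) hr
        exact (congrArg Subtype.val h1).symm
      obtain ⟨k, hk⟩ := hRp ⟨_, hCR hxc⟩
      have h1 : orderOf x ∣ p ^ k := orderOf_dvd_of_pow_eq_one
        (Subtype.ext (by simpa using congrArg Subtype.val hk))
      exact orderOf_eq_one_iff.mp (Nat.eq_one_of_dvd_coprimes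
        (((Fusion.mem_pResidual_iff_of_hasNormalPComplement hc).mp hx).pow_right k) dvd_rfl h1)
    have hMp : IsPGroup p M := fun x => by
      obtain ⟨k, hk⟩ := Fusion.exists_pow_mem_pResidual (p := p) x
      rw [hbot, mem_bot] at hk
      exact ⟨k, hk⟩
    exact (S.is_maximal' hMp hSM).le
  set Sb : Sylow p (G ⧸ R) := S.mapSurjective hfs with hSb
  have hSb' : ∀ M : Subgroup (G ⧸ R), (Sb : Subgroup (G ⧸ R)) ≤ M →
      M ≠ ⊤ → M ≤ (Sb : Subgroup (G ⧸ R)) := by
    intro M hSM hM
    rw [hSb, Sylow.coe_mapSurjective] at hSM ⊢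
    have h1 := hSmax (M.comap f) (map_le_iff_le_comap.mp hSM)
      (fun h => hM (comap_injective hfs (h.trans (comap_top f).symm)))
    intro x hx
    obtain ⟨g, rfl⟩ := hfs x
    exact mem_map_of_mem f (h1 hx)
  have hSK : ∀ x ∈ (Sb : Subgroup (G ⧸ R)), x ∈ Kb → x = 1 := fun x hx hxK => by
    obtain ⟨k, hk⟩ := Sb.isPGroup' ⟨x, hx⟩
    exact orderOf_eq_one_iff.mp (Nat.eq_one_of_dvd_coprimes (hKb.pow_right k)
      (Kb.orderOf_dvd_natCard hxK) (orderOf_dvd_of_pow_eq_one (congrArg Subtype.val hk)))
  have hKne : Kb ≠ ⊥ := by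
    intro h
    refine hnot (Fusion.hasNormalPComplement_of_isPGroup fun g => ?_)
    obtain ⟨k, hk⟩ := hKpow g
    rw [mem_comap, h, mem_bot] at hk
    obtain ⟨m, hm⟩ := hRp ⟨_, (QuotientGroup.eq_one_iff _).mp hk⟩
    exact ⟨k + m, by rw [pow_add, pow_mul]; exact congrArg Subtype.val hm⟩
  -- `Kb` is abelian
  have hKab : IsMulCommutative Kb := by
    obtain ⟨q, hq, hqd⟩ := Nat.exists_prime_and_dvd
      (n := Nat.card Kb) (fun h => hKne (card_eq_one.mp h))
    have : Fact q.Prime := ⟨hq⟩
    obtain ⟨Q, hQK, hQne, hQq, hSQ⟩ := exists_sylow_invariant Kb hKb Sb hqd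
    have htop : (Sb : Subgroup (G ⧸ R)) ⊔ Q = ⊤ := by
      by_contra h
      have h1 := hSb' _ le_sup_left h
      exact hQne ((eq_bot_iff_forall _).mpr fun x hx => hSK x (h1 (mem_sup_right hx)) (hQK hx))
    have hKQ : Kb ≤ Q := by
      intro x hx
      have h1 : x ∈ (((Sb : Subgroup (G ⧸ R)) ⊔ Q : Subgroup (G ⧸ R)) : Set (G ⧸ R)) := by
        rw [htop]; trivial
      rw [coe_mul_of_left_le_normalizer_right _ _ hSQ] at h1
      obtain ⟨s, hs, z, hz, rfl⟩ := h1
      have h2 := mul_mem hx (inv_mem (hQK hz))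
      rw [mul_inv_cancel_right] at h2
      show s * z ∈ Q
      rw [hSK s hs h2, one_mul]
      exact hz
    have hKq : IsPGroup q Kb := hQq.to_le hKQ
    set D : Subgroup (G ⧸ R) := (commutator Kb).map Kb.subtype
    have hDK : D ≤ Kb := map_subtype_le _
    have hDbot : D = ⊥ := by
      by_contra h
      have htop2 : (Sb : Subgroup (G ⧸ R)) ⊔ D = ⊤ := by
        by_contra h'
        have h1 := hSb' _ le_sup_left h'
        exact h ((eq_bot_iff_forall _).mpr fun x hx => hSK x (h1 (mem_sup_right hx)) (hDK hx))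
      have hKD : Kb ≤ D := by
        intro x hx
        have h1 : x ∈ (((Sb : Subgroup (G ⧸ R)) ⊔ D : Subgroup (G ⧸ R)) : Set (G ⧸ R)) := by
          rw [htop2]; trivial
        rw [coe_mul_of_left_le_normalizer_right _ _ le_normalizer_of_normal] at h1
        obtain ⟨s, hs, z, hz, rfl⟩ := h1
        have h2 := mul_mem hx (inv_mem (hDK hz))
        rw [mul_inv_cancel_right] at h2
        show s * z ∈ D
        rw [hSK s hs h2, one_mul]
        exact hz
      have : Group.IsNilpotent Kb := hKq.isNilpotent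
      have : Nontrivial Kb := (nontrivial_iff_ne_bot Kb).mpr hKne
      have h2 := IsSolvable.commutator_lt_top_of_nontrivial Kb
      refine h2.ne (map_injective Kb.subtype_injective ?_)
      rw [← MonoidHom.range_eq_map, range_subtype]
      exact le_antisymm hDK hKD
    refine ⟨⟨fun a b => ?_⟩⟩
    rw [map_eq_bot_iff_of_injective _ Kb.subtype_injective, _root_.commutator_def,
      commutator_eq_bot_iff_le_centralizer] at hDbot
    exact (mem_centralizer_iff.mp (hDbot (mem_top b)) a (mem_top a))
  -- faithfulness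
  have hfaith : ∀ b ∈ (S : Subgroup G).map f, (∀ x ∈ Kb, b * x = x * b) → b = 1 := by
    intro b hb hbc
    set B := (Sb : Subgroup (G ⧸ R)) ⊓ centralizer (Kb : Set (G ⧸ R)) with hB
    have hBn : B.Normal := by
      refine normalizer_eq_top_iff.mp (top_le_iff.mp ?_)
      rw [← Fusion.sylow_sup_pResidual Sb, sup_le_iff]
      constructor
      · intro x hx
        change x ∈ (Sb : Subgroup (G ⧸ R)) at hx
        refine mem_normalizer_of_forall fun u hu =>
          ⟨(show x * u * x⁻¹ ∈ (Sb : Subgroup (G ⧸ R)) from mul_mem (mul_mem hx hu.1) (inv_mem hx)), ?_⟩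
        exact (normal_centralizer (H := Kb)).conj_mem u hu.2 x
      · intro x hx
        refine mem_normalizer_of_forall fun u hu => ?_
        rw [mem_centralizer_iff.mp hu.2 x hx, mul_inv_cancel_right]
        exact hu
    have hW : (B.comap f) ≤ R := by
      refine hRmax _ (hBn.comap f) ?_
      refine (Sb.isPGroup'.to_le inf_le_left).comap_of_ker_isPGroup f ?_
      rw [hf, QuotientGroup.ker_mk']; exact hRp
    obtain ⟨g, hg, rfl⟩ := hb
    exact (QuotientGroup.eq_one_iff g).mpr (hW ⟨by
      rw [hSb, Sylow.coe_mapSurjective]; exact mem_map_of_mem f hg,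
      mem_centralizer_iff.mpr fun x hx => (hbc x hx).symm⟩)
  -- the module
  set Z : Subgroup G := (S : Subgroup G) ⊓ centralizer ((S : Subgroup G) : Set G) with hZdef
  have hZR : Z ≤ R ⊓ centralizer (R : Set G) := fun z hz =>
    have h1 : z ∈ centralizer (R : Set G) := fun r hr => hz.2 r (hRS hr)
    ⟨hCR h1, h1⟩
  set V : Subgroup G := normalClosure (Z : Set G) with hVdef
  have hVR : V ≤ R ⊓ centralizer (R : Set G) := normalClosure_le_normal hZR
  have hVc : IsMulCommutative V :=
    ⟨⟨fun a b => Subtype.ext (mem_centralizer_iff.mp (hVR b.2).2 _ (hVR a.2).1)⟩⟩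
  have hCZ : centralizer (Z : Set G) ≤ (S : Subgroup G) := by
    refine hSmax _ (fun s hs z hz => (hz.2 s hs).symm) fun h => hnot ?_
    exact Fusion.hasNormalPComplement_of_surjective
      (Fusion.hasNormalPComplement_of_le (K := (⊤ : Subgroup G)) hS.1 h.ge)
      (topEquiv : (⊤ : Subgroup G) ≃* G).toMonoidHom topEquiv.surjective
  let W : Subgroup G :=
    { carrier := {v | v ∈ V ∧ v ^ p = 1}
      one_mem' := ⟨one_mem _, one_pow _⟩
      mul_mem' := fun {a b} ha hb => ⟨mul_mem ha.1 hb.1, by
        rw [(show Commute a b from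
          congrArg Subtype.val (hVc.is_comm.comm (⟨a, ha.1⟩ : V) ⟨b, hb.1⟩)).mul_pow,
          ha.2, hb.2, one_mul]⟩
      inv_mem' := fun {a} ha => ⟨inv_mem ha.1, by rw [inv_pow, ha.2, inv_one]⟩ }
  have hWn : W.Normal := ⟨fun w hw g => ⟨(inferInstance : V.Normal).conj_mem w hw.1 g, by
    rw [conj_pow, hw.2, mul_one, mul_inv_cancel]⟩⟩
  have hCW : centralizer (W : Set G) ≤ R := by
    refine normal_le_of_inf_le hRp hRmax hKpow fun g hg => ?_
    obtain ⟨k, hk⟩ := Fusion.exists_pow_coprime (p := p) g
    refine hKR g hg.2 k ?_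
    have h1 := commute_of_commute_omega hVc (hRp.to_le (hVR.trans inf_le_left))
      (le_normalizer_of_normal (mem_top (g ^ p ^ k))) hk fun w hw hwp =>
        (mem_centralizer_iff.mp (pow_mem hg.1 (p ^ k)) w ⟨hw, hwp⟩).symm
    have h2 : g ^ p ^ k ∈ centralizer (V : Set G) := fun v hv => (h1 v hv).symm
    have h3 : g ^ p ^ k ∈ (S : Subgroup G) :=
      hCZ (centralizer_le subset_normalClosure h2)
    obtain ⟨m, hm⟩ := S.isPGroup' ⟨_, h3⟩
    have h4 : g ^ p ^ k = 1 := orderOf_eq_one_iff.mp (Nat.eq_one_of_dvd_coprimes (hk.pow_right m)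
      dvd_rfl (orderOf_dvd_of_pow_eq_one (congrArg Subtype.val hm)))
    rw [h4]; exact one_mem _
  -- an abelian subgroup of largest order outside `R`
  obtain ⟨A, hAS, hAc, hmax, hAR⟩ : ∃ A : Subgroup G, A ≤ S ∧ IsMulCommutative A ∧
      (∀ B : Subgroup G, B ≤ S → IsMulCommutative B → Nat.card B ≤ Nat.card A) ∧ ¬ A ≤ R := by
    by_contra h
    push Not at h
    have hJR : thompsonSubgroupAOf (S : Subgroup G) ≤ R := by
      refine map_le_iff_le_comap.mpr (sSup_le fun A hA => map_le_iff_le_comap.mp ?_)
      refine h _ (map_subtype_le A) (isMulCommutative_map _ hA.1) fun B hBS hB => ?_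
      rw [card_map_of_injective (subtype_injective _),
        ← Nat.card_congr (subgroupOfEquivOfLe hBS).toEquiv]
      exact hA.2 _ ⟨⟨fun x y => Subtype.ext (Subtype.ext (congrArg (fun z : B => (z : G))
        (hB.is_comm.comm (⟨((x : (S : Subgroup G)) : G), x.2⟩ : B)
          ⟨((y : (S : Subgroup G)) : G), y.2⟩)))⟩⟩
    have hJn : ∀ g : G, g ∈ normalizer (thompsonSubgroupAOf (S : Subgroup G) : Set G) := fun g => by
      rw [← thompsonAOf_eq_of_le hRS hJR]
      exact normalizer_le_normalizer_thompsonAOf R (le_normalizer_of_normal (mem_top g))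
    exact hnot <| Fusion.hasNormalPComplement_of_surjective
      (Fusion.hasNormalPComplement_of_le (K := (⊤ : Subgroup G)) hS.2 fun g _ => hJn g)
      (topEquiv : (⊤ : Subgroup G) ≃* G).toMonoidHom topEquiv.surjective
  obtain ⟨h1, h2⟩ := involves_of_maxAbelian S R W hRS (fun w hw => (hVR hw.1).1)
    (fun w hw => (hVR hw.1).2) (fun w hw => hw.2) hCW Kb hKab hKb hfaith A hAS hAc hmax hAR
  exact hfree.elim (fun h => h h1) fun h => h h2

theorem complement_aux : ∀ n : ℕ, ∀ (G : Type u) [Group G] [Finite G], Nat.card G ≤ n →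
    (p ≠ 2 ∨ ¬ Cfsg.Involves (Equiv.Perm (Fin 4)) G) → ∀ S : Sylow p G,
      THyp p (S : Subgroup G) → HasNormalPComplement p G := by
  intro n
  induction n with
  | zero => intro G _ _ hn; exact absurd hn (by have := Nat.card_pos (α := G); omega)
  | succ n ih =>
    intro G _ _ hn hfree S hS
    by_contra hnot
    have hfree_sub : ∀ N : Subgroup G, p ≠ 2 ∨ ¬ Cfsg.Involves (Equiv.Perm (Fin 4)) N := fun N =>
      hfree.imp id fun h hi => h (involves_of_surjective (MonoidHom.id N) Function.surjective_id hi)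
    have hfree_quot : ∀ (N : Subgroup G) [N.Normal],
        p ≠ 2 ∨ ¬ Cfsg.Involves (Equiv.Perm (Fin 4)) (G ⧸ N) := fun N _ =>
      hfree.imp id fun h hi => h (involves_of_surjective
        ((QuotientGroup.mk' N).comp (⊤ : Subgroup G).subtype)
        (fun q => by obtain ⟨g, rfl⟩ := QuotientGroup.mk'_surjective N q; exact ⟨⟨g, trivial⟩, rfl⟩) hi)
    have hquot_card : ∀ N : Subgroup G, N ≠ ⊥ → Nat.card (G ⧸ N) ≤ n := fun N hN => by
      have h1 := card_eq_card_quotient_mul_card_subgroup N
      have h2 : 1 < Nat.card N := one_lt_card_iff_ne_bot N |>.mpr hN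
      have h3 := Nat.card_pos (α := G ⧸ N)
      nlinarith
    have hsub_card : ∀ N : Subgroup G, N ≠ ⊤ → Nat.card N ≤ n := fun N hN => by
      have h1 := N.card_mul_index
      have h2 : 1 < N.index := Subgroup.one_lt_index_of_ne_top hN
      have h3 := Nat.card_pos (α := N)
      nlinarith
    have hsub : ∀ M : Subgroup G, ∀ S' : Sylow p G, THyp p (S' : Subgroup G) →
        (S' : Subgroup G) ≤ M → M ≠ ⊤ → HasNormalPComplement p M := fun M S' hS' hle hM =>
      ih M (hsub_card M hM) (hfree_sub M) _ (hS'.of_le S' hle)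
    have hp' : (Nat.card (pPrimeCore p G)).Coprime p := Cores.coprime_card_pPrimeCore
    have hcore : pPrimeCore p G = ⊥ := by
      by_contra h
      exact hnot (Fusion.hasNormalPComplement_of_quotient_normal (pPrimeCore p G)
        ((Nat.Prime.coprime_iff_not_dvd Fact.out).mp hp'.symm)
        (ih _ (hquot_card _ h) (hfree_quot _) _ (THyp.quotient_pPrime hp' S hS)))
    -- a bad `p`-subgroup with largest normalizer
    let v : Subgroup G → ℕ := fun H =>
      Nat.card (default : Sylow p (normalizer (H : Set G))) * (Nat.card G + 1) + Nat.card H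
    obtain ⟨R, ⟨hRp, hRne, hRbad⟩, hRmaxv⟩ : ∃ R : Subgroup G,
        (IsPGroup p R ∧ R ≠ ⊥ ∧ ¬ HasNormalPComplement p ↥(normalizer (R : Set G))) ∧
        ∀ H : Subgroup G, IsPGroup p H → H ≠ ⊥ →
          ¬ HasNormalPComplement p ↥(normalizer (H : Set G)) → v H ≤ v R := by
      have hne : {H : Subgroup G | IsPGroup p H ∧ H ≠ ⊥ ∧
          ¬ HasNormalPComplement p ↥(normalizer (H : Set G))}.Nonempty := by
        by_contra h
        rw [Set.not_nonempty_iff_eq_empty, Set.eq_empty_iff_forall_notMem] at h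
        refine hnot (Fusion.frobenius_local.mpr fun Q hQ hQne => ?_)
        by_contra hQc
        exact h Q ⟨hQ, hQne, hQc⟩
      obtain ⟨R, hR, hmax⟩ := Set.exists_max_image _ v (Set.toFinite _) hne
      exact ⟨R, hR, fun H h1 h2 h3 => hmax H ⟨h1, h2, h3⟩⟩
    set N := normalizer (R : Set G) with hNdef
    let T : Sylow p N := default
    let P : Subgroup G := (T : Subgroup N).map N.subtype
    have hPp : IsPGroup p P := T.isPGroup'.map _
    have hPcard : Nat.card P = Nat.card T := card_map_of_injective N.subtype_injective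
    have hbig : ∀ W : Subgroup G, IsPGroup p W → W ≠ ⊥ → ∀ U : Subgroup G, IsPGroup p U →
        U ≤ normalizer (W : Set G) →
        Nat.card P < Nat.card U ∨ (Nat.card P ≤ Nat.card U ∧ Nat.card R < Nat.card W) →
        HasNormalPComplement p ↥(normalizer (W : Set G)) := by
      intro W hWp hW U hUp hUW hcase
      by_contra hWc
      have h1 := hRmaxv W hWp hW hWc
      let TW : Sylow p (normalizer (W : Set G)) := default
      have h2 : Nat.card U ≤ Nat.card TW := by
        obtain ⟨Q, hQ⟩ := (hUp.comap_subtype (K := normalizer (W : Set G))).exists_le_sylow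
        have := card_le_of_le hQ
        refine le_of_eq_of_le (Nat.card_congr (subgroupOfEquivOfLe hUW).toEquiv).symm (this.trans ?_)
        exact (Nat.card_congr (Sylow.equiv Q TW).toEquiv).le
      have hR' : Nat.card R ≤ Nat.card G := Nat.card_le_card_of_injective _ Subtype.val_injective
      have h1' : Nat.card TW * (Nat.card G + 1) + Nat.card W ≤
          Nat.card P * (Nat.card G + 1) + Nat.card R := by rw [hPcard]; exact h1
      rcases hcase with hc | ⟨hc1, hc2⟩
      · have h3 : (Nat.card P + 1) * (Nat.card G + 1) ≤ Nat.card TW * (Nat.card G + 1) :=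
          Nat.mul_le_mul_right _ (by omega)
        rw [Nat.add_mul] at h3
        omega
      · have h3 : Nat.card P * (Nat.card G + 1) ≤ Nat.card TW * (Nat.card G + 1) :=
          Nat.mul_le_mul_right _ (hc1.trans h2)
        omega
    have hNtop : N = ⊤ := by
      by_contra hN
      obtain ⟨S', hS'⟩ := hPp.exists_le_sylow
      have hRP : R ≤ P := fun r hr => by
        have h1 : (R.subgroupOf N).Normal := normal_in_normalizer
        exact ⟨⟨r, le_normalizer hr⟩, normal_le_sylow (R := R.subgroupOf N) hRp.comap_subtype T hr, rfl⟩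
      have hPne : P ≠ ⊥ := fun h => hRne (le_bot_iff.mp (h ▸ hRP))
      by_cases hPS : P = (S' : Subgroup G)
      · exact hRbad (hsub N S' (hS.conj S') (hPS ▸ map_subtype_le _) hN)
      · set U := (S' : Subgroup G) ⊓ normalizer (P : Set G)
        have hPU : Nat.card P < Nat.card U := by
          have h1 : P.subgroupOf (S' : Subgroup G) ≠ ⊤ := fun h => hPS
            (le_antisymm hS' (subgroupOf_eq_top.mp h))
          obtain ⟨x, hx, hxP⟩ := SetLike.exists_of_lt (PGroups.lt_normalizer S'.isPGroup' h1)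
          have hxN : (x : G) ∈ normalizer (P : Set G) := by
            refine mem_normalizer_of_forall fun u hu => ?_
            exact (mem_normalizer_iff.mp hx ⟨u, hS' hu⟩).mp hu
          refine lt_of_le_of_ne (card_le_of_le (le_inf hS' le_normalizer)) fun h => hxP ?_
          show (x : G) ∈ P
          rw [eq_of_le_of_card_ge (le_inf hS' le_normalizer : P ≤ U) h.ge]
          exact ⟨x.2, hxN⟩
        have hJ := hbig _ (hPp.to_le (thompsonAOf_le P)) (thompsonAOf_ne_bot hPne) U
          (S'.isPGroup'.to_le inf_le_left)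
          (inf_le_right.trans (normalizer_le_normalizer_thompsonAOf P)) (Or.inl hPU)
        have hZ := hbig _ (hPp.to_le inf_le_left) (center_ne_bot hPp hPne) U
          (S'.isPGroup'.to_le inf_le_left)
          (inf_le_right.trans (normalizer_le_normalizer_center P)) (Or.inl hPU)
        refine hRbad (ih N (hsub_card N hN) (hfree_sub N) T (THyp.sylow_subgroup T ?_ ?_))
        · exact Fusion.hasNormalPComplement_of_le hZ
            (inf_le_right.trans (centralizer_le_normalizer _))
        · exact Fusion.hasNormalPComplement_of_le hJ inf_le_right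
    have hRn : R.Normal := normalizer_eq_top_iff.mp hNtop
    have hRS : R ≤ S := normal_le_sylow hRp S
    have hPS : Nat.card P = Nat.card S := by
      have h1 : ¬ p ∣ P.index := by
        rw [index_map_of_injective _ N.subtype_injective, range_subtype]
        rw [show N.index = 1 from index_eq_one.mpr hNtop, mul_one]
        exact T.not_dvd_index
      exact Nat.card_congr (Sylow.equiv (hPp.toSylow h1) S).toEquiv
    have hbig' : ∀ W : Subgroup G, IsPGroup p W → R < W →
        (S : Subgroup G) ≤ normalizer (W : Set G) →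
        HasNormalPComplement p ↥(normalizer (W : Set G)) := fun W hW hRW hSW =>
      hbig W hW (ne_bot_of_gt hRW) _ S.isPGroup' hSW (Or.inr ⟨hPS.le, lt_of_le_of_ne
        (card_le_of_le hRW.le) fun h => hRW.ne (eq_of_le_of_card_ge hRW.le h.ge)⟩)
    have hRmax : ∀ W : Subgroup G, W.Normal → IsPGroup p W → W ≤ R := by
      intro W hW hWp
      by_contra h
      have h1 : R < W ⊔ R := lt_of_le_of_ne le_sup_right fun he => h (he ▸ le_sup_left)
      have h2 := hbig' (W ⊔ R) (hWp.to_sup_of_normal_left hRp) h1 le_normalizer_of_normal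
      exact hnot (Fusion.hasNormalPComplement_of_surjective
        (Fusion.hasNormalPComplement_of_le (K := (⊤ : Subgroup G)) h2 le_normalizer_of_normal)
        (topEquiv : (⊤ : Subgroup G) ≃* G).toMonoidHom topEquiv.surjective)
    -- the quotient
    set f := QuotientGroup.mk' R with hf
    have hfs : Function.Surjective f := QuotientGroup.mk'_surjective R
    have hquot : HasNormalPComplement p (G ⧸ R) := by
      set Sb : Sylow p (G ⧸ R) := S.mapSurjective hfs with hSb
      by_cases hSbne : (Sb : Subgroup (G ⧸ R)) = ⊥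
      · exact Fusion.hasNormalPComplement_of_not_dvd fun hd =>
          Sb.ne_bot_of_dvd_card hd hSbne
      have key : ∀ Wb : Subgroup (G ⧸ R), Wb ≠ ⊥ → Wb ≤ (Sb : Subgroup (G ⧸ R)) →
          (Sb : Subgroup (G ⧸ R)) ≤ normalizer (Wb : Set (G ⧸ R)) →
          HasNormalPComplement p ↥(normalizer (Wb : Set (G ⧸ R))) := by
        intro Wb hne hle hnor
        have hW : R < Wb.comap f := by
          refine lt_of_le_of_ne (fun r hr => ?_) fun he => hne ?_
          · rw [mem_comap, show f r = 1 from (QuotientGroup.eq_one_iff r).mpr hr]; exact one_mem _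
          · refine (eq_bot_iff_forall _).mpr fun x hx => ?_
            obtain ⟨g, rfl⟩ := hfs x
            exact (QuotientGroup.eq_one_iff g).mpr (he ▸ hx)
        have hWp : IsPGroup p (Wb.comap f) :=
          (Sb.isPGroup'.to_le hle).comap_of_ker_isPGroup f (by
            rw [hf, QuotientGroup.ker_mk']; exact hRp)
        have hSW : (S : Subgroup G) ≤ normalizer (Wb.comap f : Set G) := fun s hs =>
          le_normalizer_comap f (hnor (by rw [hSb, Sylow.coe_mapSurjective]; exact mem_map_of_mem f hs))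
        refine map_complement f (hbig' _ hWp hW hSW) fun x hx => ?_
        obtain ⟨g, rfl⟩ := hfs x
        exact mem_map_of_mem f (le_normalizer_comap f hx)
      refine ih _ (hquot_card R hRne) (hfree_quot R) Sb ⟨?_, ?_⟩
      · exact Fusion.hasNormalPComplement_of_le
          (key _ (center_ne_bot Sb.isPGroup' hSbne) inf_le_left
            (le_normalizer.trans (normalizer_le_normalizer_center _)))
          (centralizer_le_normalizer _)
      · exact key _ (thompsonAOf_ne_bot hSbne) (thompsonAOf_le _)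
          (le_normalizer.trans (normalizer_le_normalizer_thompsonAOf _))
    exact false_of_minimal S hS hfree hnot hcore R hRp hRmax hquot
      (fun M hle hM => hsub M S hS hle hM)

end Cfsg.Agent.H59
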