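import Mathlib

/-!
# Abelian offenders normalizing an abelian group of order prime to p

An abelian `p`-group of operators `B` on a finite abelian group `A` of exponent `p` with
`|A| ≤ |B| |C_A(B)|`, inside a group which also contains an abelian group `Q` of order prime to `p`
normalized, and centralized only trivially, by `B`: then `p = 2` and a dihedral group of order 6
acts on a subgroup of order 4 of `A` as on its natural module.
-/

set_option autoImplicit false

namespace Cfsg.Agent.H59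

universe u v

variable {H : Type u} [Group H] {A : Type v} [AddCommGroup A]

/-- The operators fixing every element of a set. -/
def stab (ρ : H →* AddMonoid.End A) (S : Set A) : Subgroup H where
  carrier := {h | ∀ a ∈ S, ρ h a = a}
  one_mem' := fun a _ => by simp
  mul_mem' := by
    intro x y hx hy a ha
    rw [map_mul]
    change ρ x (ρ y a) = a
    rw [hy a ha, hx a ha]
  inv_mem' := by
    intro x hx a ha
    conv_lhs => rw [← hx a ha]
    change (ρ x⁻¹ * ρ x) a = a
    rw [← map_mul, inv_mul_cancel, map_one]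
    rfl

/-- The fixed points of a subgroup of operators. -/
def fixed (ρ : H →* AddMonoid.End A) (B : Subgroup H) : AddSubgroup A where
  carrier := {a | ∀ b ∈ B, ρ b a = a}
  zero_mem' := fun b _ => map_zero _
  add_mem' := fun {x y} hx hy b hb => by rw [map_add, hx b hb, hy b hb]
  neg_mem' := fun {x} hx b hb => by rw [map_neg, hx b hb]

theorem mem_fixed {ρ : H →* AddMonoid.End A} {B : Subgroup H} {a : A} :
    a ∈ fixed ρ B ↔ ∀ b ∈ B, ρ b a = a := Iff.rfl

/-- An offender: `|A| ≤ |B| |C_A(B)|`. -/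
def IsOff (ρ : H →* AddMonoid.End A) (B : Subgroup H) : Prop :=
  Nat.card A ≤ Nat.card B * Nat.card (fixed ρ B)

variable [Finite H] [Finite A] {p : ℕ} [Fact p.Prime]

/-- A minimal abelian offender acts quadratically. -/
theorem quadratic_of_minimal (ρ : H →* AddMonoid.End A) (hA : ∀ a : A, p • a = 0) (B : Subgroup H)
    (hB : IsPGroup p B) (hcom : IsMulCommutative B) (hoff : IsOff ρ B)
    (hmin : ∀ B0 : Subgroup H, B0 ≤ B → IsOff ρ B0 → B0 = ⊥ ∨ B0 = B) :
    ∀ b ∈ B, ∀ b' ∈ B, ∀ a : A, ρ b (ρ b' a - a) = ρ b' a - a := by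
  classical
  have hc : ∀ b ∈ B, ∀ b' ∈ B, b * b' = b' * b := fun b hb b' hb' =>
    congrArg Subtype.val (hcom.is_comm.comm (⟨b, hb⟩ : B) ⟨b', hb'⟩)
  have hcc : ∀ b ∈ B, ∀ b' ∈ B, ∀ a, ρ b (ρ b' a) = ρ b' (ρ b a) := by
    intro b hb b' hb' a
    change (ρ b * ρ b') a = (ρ b' * ρ b) a
    rw [← map_mul, ← map_mul, hc b hb b' hb']
  let C := fixed ρ B
  let N : AddSubgroup A :=
    { carrier := {a | ∀ b ∈ B, ρ b a - a ∈ C}
      zero_mem' := fun b _ => by simp [zero_mem]
      add_mem' := fun {x y} hx hy b hb => by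
        have : ρ b (x + y) - (x + y) = (ρ b x - x) + (ρ b y - y) := by rw [map_add]; abel
        rw [this]; exact add_mem (hx b hb) (hy b hb)
      neg_mem' := fun {x} hx b hb => by
        have : ρ b (-x) - (-x) = -(ρ b x - x) := by rw [map_neg]; abel
        rw [this]; exact neg_mem (hx b hb) }
  have hCN : C ≤ N := fun a ha b hb => by rw [ha b hb, sub_self]; exact zero_mem _
  suffices hN : N = ⊤ by
    intro b hb b' hb' a
    have : a ∈ N := hN ▸ AddSubgroup.mem_top a
    exact this b' hb' b hb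
  by_contra hN
  -- a point outside `N` fixed modulo `N`
  obtain ⟨x, hx, hxN⟩ : ∃ x : A, x ∉ N ∧ ∀ b ∈ B, ρ b x - x ∈ N := by
    have hstab : ∀ b ∈ B, N ≤ N.comap (ρ b : A →+ A) := by
      intro b hb a ha b' hb'
      change ρ b' (ρ b a) - ρ b a ∈ C
      rw [hcc b' hb' b hb, ← map_sub, ha b' hb' b hb]
      exact ha b' hb'
    let act : MulAction B (A ⧸ N) :=
      { smul := fun b q => QuotientAddGroup.map N N (ρ (b : H) : A →+ A) (hstab b b.2) q
        one_smul := fun q => by
          induction q using QuotientAddGroup.induction_on with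
          | H a =>
            change QuotientAddGroup.map N N _ _ (a : A ⧸ N) = _
            apply congrArg ((↑) : A → A ⧸ N)
            change ρ ((1 : B) : H) a = a
            rw [Subgroup.coe_one, map_one]; rfl
        mul_smul := fun b c q => by
          induction q using QuotientAddGroup.induction_on with
          | H a =>
            change QuotientAddGroup.map N N _ _ (a : A ⧸ N) =
              QuotientAddGroup.map N N _ _ (QuotientAddGroup.map N N _ _ (a : A ⧸ N))
            simp only [Subgroup.coe_mul, map_mul]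
            rfl }
    have hd : p ∣ Nat.card (A ⧸ N) := by
      obtain ⟨a, ha⟩ : ∃ a, a ∉ N := not_forall.mp fun h => hN (eq_top_iff.mpr fun a _ => h a)
      have h1 : addOrderOf (a : A ⧸ N) = p := addOrderOf_eq_prime
        (by rw [← QuotientAddGroup.mk_nsmul, hA]; rfl)
        (fun h => ha ((QuotientAddGroup.eq_zero_iff a).mp h))
      exact h1 ▸ addOrderOf_dvd_natCard _
    have h0 : (0 : A ⧸ N) ∈ MulAction.fixedPoints B (A ⧸ N) := fun b => by
      change QuotientAddGroup.map N N _ _ (0 : A ⧸ N) = 0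
      exact map_zero _
    obtain ⟨q, hq, hq0⟩ := hB.exists_fixed_point_of_prime_dvd_card_of_fixed_point
      (A ⧸ N) hd h0
    induction q using QuotientAddGroup.induction_on with
    | H a =>
      refine ⟨a, fun h => hq0 ((QuotientAddGroup.eq_zero_iff a).mpr h).symm, fun b hb => ?_⟩
      have h1 : ((ρ b a : A) : A ⧸ N) = (a : A ⧸ N) := hq ⟨b, hb⟩
      exact (QuotientAddGroup.eq_iff_sub_mem).mp h1
  -- the homomorphism `b ↦ [x, b]` modulo `C`
  let β : Additive B →+ A ⧸ C :=
    AddMonoidHom.mk' (fun b => ((ρ ((Additive.toMul b : B) : H) x - x : A) : A ⧸ C)) (by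
      intro b c
      rw [← QuotientAddGroup.mk_add, QuotientAddGroup.eq_iff_sub_mem]
      set b' : H := ((Additive.toMul b : B) : H)
      set c' : H := ((Additive.toMul c : B) : H)
      have : ρ (((Additive.toMul (b + c) : B)) : H) x - x - ((ρ b' x - x) + (ρ c' x - x)) =
          ρ b' (ρ c' x - x) - (ρ c' x - x) := by
        rw [toMul_add, Subgroup.coe_mul, map_mul, map_sub]
        change ρ b' (ρ c' x) - x - _ = _
        abel
      rw [this]
      exact hxN c' (Additive.toMul c).2 b' (Additive.toMul b).2)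
  let B0 : Subgroup H := B ⊓ stab ρ {d | ∃ b' ∈ B, d = ρ b' x - x}
  have hker : Nat.card β.ker ≤ Nat.card B0 := by
    have hm : ∀ z : β.ker, ((Additive.toMul (z : Additive B) : B) : H) ∈ B0 := by
      rintro ⟨z, hz⟩
      refine ⟨(Additive.toMul z).2, ?_⟩
      rintro d ⟨c, hc', rfl⟩
      have h1 : ρ ((Additive.toMul z : B) : H) x - x ∈ C :=
        (QuotientAddGroup.eq_zero_iff _).mp hz
      have h2 := h1 c hc'
      rw [map_sub, ← hcc _ (Additive.toMul z).2 c hc'] at h2
      rw [map_sub]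
      exact sub_eq_sub_iff_add_eq_add.mpr (by
        have := sub_eq_sub_iff_add_eq_add.mp h2
        rw [this]; abel)
    refine Nat.card_le_card_of_injective (fun z => (⟨_, hm z⟩ : B0)) ?_
    intro z z' h
    apply Subtype.ext
    apply Additive.toMul.injective
    apply Subtype.ext
    exact congrArg (fun w : B0 => (w : H)) h
  let K : AddSubgroup A := β.range.comap (QuotientAddGroup.mk' C)
  have hK : ∀ a ∈ K, ∃ b ∈ B, a - (ρ b x - x) ∈ C := by
    rintro a ⟨b, hb⟩
    exact ⟨_, (Additive.toMul b).2, QuotientAddGroup.eq_iff_sub_mem.mp hb.symm⟩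
  have hKN : K ≤ N := fun a ha => by
    obtain ⟨b, hb, h⟩ := hK a ha
    have := add_mem (hCN h) (hxN b hb)
    rwa [sub_add_cancel] at this
  have hKB0 : K ≤ fixed ρ B0 := fun a ha b0 hb0 => by
    obtain ⟨b, hb, h⟩ := hK a ha
    have h1 := h b0 hb0.1
    have h2 : ρ b0 (ρ b x - x) = ρ b x - x := hb0.2 _ ⟨b, hb, rfl⟩
    rw [map_sub, h2] at h1
    exact sub_left_inj.mp h1
  have hcard : Nat.card A ≤ Nat.card B0 * Nat.card K := by
    have h1 : Nat.card K = Nat.card β.range * Nat.card C := by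
      have e1 := AddSubgroup.card_mul_index K
      have e2 := AddSubgroup.card_mul_index C
      have e3 := AddSubgroup.card_mul_index β.range
      have e4 : K.index = β.range.index :=
        AddSubgroup.index_comap_of_surjective _ (QuotientAddGroup.mk'_surjective C)
      rw [e4] at e1
      rw [AddSubgroup.index_eq_card] at e2
      rw [← e3] at e2
      have hpos : 0 < β.range.index := Nat.pos_of_ne_zero AddSubgroup.index_ne_zero_of_finite
      apply Nat.eq_of_mul_eq_mul_right hpos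
      rw [e1, ← e2]; ring
    have h2 : Nat.card B = Nat.card β.ker * Nat.card β.range := by
      rw [Nat.card_congr (Additive.ofMul : B ≃ Additive B), ← AddSubgroup.card_mul_index β.ker,
        AddSubgroup.index_ker]
    calc Nat.card A ≤ Nat.card B * Nat.card C := hoff
      _ = Nat.card β.ker * Nat.card K := by rw [h2, h1]; ring
      _ ≤ Nat.card B0 * Nat.card K := Nat.mul_le_mul_right _ hker
  have hoff0 : IsOff ρ B0 :=
    hcard.trans (Nat.mul_le_mul_left _ (AddSubgroup.card_le_of_le hKB0))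
  rcases hmin B0 inf_le_left hoff0 with h0 | h0
  · rw [h0, Subgroup.card_bot, one_mul] at hcard
    exact hN (AddSubgroup.eq_top_of_le_card _
      (hcard.trans (AddSubgroup.card_le_of_le hKN)))
  · apply hx
    intro b hb b' hb'
    have : b' ∈ B0 := h0 ▸ hb'
    exact this.2 _ ⟨b, hb, rfl⟩

/-- In a ring, if `y` commutes with `m` and `n * y - y * n = m`, then a power of `y` trivial
forces a multiple of `m` to vanish. -/
theorem commute_of_nsmul_cancel {R : Type*} [Ring R] (y n m : R) (hm : n * y - y * n = m)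
    (hym : y * m = m * y) (k : ℕ) (hk : y ^ k = 1) (hc : ∀ r : R, k • r = 0 → r = 0) :
    n * y = y * n := by
  have h : ∀ j : ℕ, y * (n * y ^ j - y ^ j * n) = j • (y ^ j * m) := by
    intro j
    induction j with
    | zero => simp
    | succ j ih =>
      have e : y * (n * y ^ (j + 1) - y ^ (j + 1) * n) =
          y * ((n * y - y * n) * y ^ j) + y * (y * (n * y ^ j - y ^ j * n)) := by
        rw [pow_succ' y j]; noncomm_ring
      rw [e, hm, ih, mul_smul_comm, succ_nsmul']
      have e2 : y * (m * y ^ j) = y ^ (j + 1) * m := by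
        rw [(((show Commute y m from hym)).pow_left j).symm.eq, ← mul_assoc, ← pow_succ']
      rw [e2, ← mul_assoc, ← pow_succ']
  have h1 := h k
  rw [hk, mul_one, one_mul, sub_self, mul_zero, one_mul] at h1
  have h2 := hc m h1.symm
  rwa [h2, sub_eq_zero] at hm

/-- The endomorphism `a ↦ h a - a`. -/
def delta (ρ : H →* AddMonoid.End A) (h : H) : A →+ A :=
  AddMonoidHom.mk' (fun a => ρ h a - a) (fun a b => by rw [map_add]; abel)

/-- An abelian offender normalizing an abelian `p'`-group `Q` and centralizing it only trivially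
forces `p = 2` and yields the natural module for the dihedral group of order 6. -/
theorem exists_dihedral_of_offender (ρ : H →* AddMonoid.End A) (hρ : Function.Injective ρ)
    (hA : ∀ a : A, p • a = 0) (Q : Subgroup H) (hQc : IsMulCommutative Q)
    (hQp : (Nat.card Q).Coprime p) (B : Subgroup H) (hB : IsPGroup p B) (hcom : IsMulCommutative B)
    (hBQ : B ≤ Subgroup.normalizer (Q : Set H))
    (hfaith : ∀ b ∈ B, (∀ x ∈ Q, b * x = x * b) → b = 1)
    (hne : B ≠ ⊥) (hoff : IsOff ρ B) :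
    p = 2 ∧ ∃ b y : H, b ∈ B ∧ y ∈ Q ∧ b * b = 1 ∧ b * y * b⁻¹ = y⁻¹ ∧ y ^ 3 = 1 ∧
      Nat.card (delta ρ y).range = 4 ∧
      (∀ u ∈ (delta ρ y).range, ρ y u = u → u = 0) ∧
      ∃ u ∈ (delta ρ y).range, ρ b u ≠ u := by
  classical
  obtain ⟨Bm, ⟨hle, hne', hoff'⟩, hmin⟩ : ∃ Bm : Subgroup H, (Bm ≤ B ∧ Bm ≠ ⊥ ∧ IsOff ρ Bm) ∧
      ∀ B0 : Subgroup H, B0 ≤ Bm → IsOff ρ B0 → B0 = ⊥ ∨ B0 = Bm := by
    obtain ⟨Bm, hBm⟩ := (Set.toFinite {B0 : Subgroup H | B0 ≤ B ∧ B0 ≠ ⊥ ∧ IsOff ρ B0}).exists_minimal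
      ⟨B, le_rfl, hne, hoff⟩
    refine ⟨Bm, hBm.prop, fun B0 h1 h2 => ?_⟩
    by_cases h : B0 = ⊥
    · exact Or.inl h
    · exact Or.inr (hBm.eq_of_le ⟨h1.trans hBm.prop.1, h, h2⟩ h1)
  have hpB : IsPGroup p Bm := hB.to_le hle
  have hcomm : IsMulCommutative Bm := ⟨⟨fun a b => Subtype.ext (by
    simpa using congrArg (fun w : B => (w : H))
      (hcom.is_comm.comm (⟨(a : H), hle a.2⟩ : B) ⟨(b : H), hle b.2⟩))⟩⟩
  have hq := quadratic_of_minimal ρ hA Bm hpB hcomm hoff' hmin
  have hqm : ∀ b ∈ Bm, ∀ b' ∈ Bm, (ρ b - 1) * (ρ b' - 1) = 0 := by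
    intro b hb b' hb'
    ext a
    exact sub_eq_zero.mpr (hq b hb b' hb' a)
  have hpR : ∀ r : AddMonoid.End A, p • r = 0 := fun r => AddMonoidHom.ext fun a => hA (r a)
  have hcancel : ∀ k : ℕ, k.Coprime p → ∀ r : AddMonoid.End A, k • r = 0 → r = 0 := by
    intro k hk r hr
    rcases Nat.eq_one_of_dvd_coprimes hk (addOrderOf_dvd_of_nsmul_eq_zero hr)
      (addOrderOf_dvd_of_nsmul_eq_zero (hpR r)) with h
    exact AddMonoid.addOrderOf_eq_one_iff.mp h
  have hbp : ∀ b ∈ Bm, b ^ p = 1 := by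
    intro b hb
    apply hρ
    have h : ∀ k : ℕ, ρ b ^ k = 1 + k • (ρ b - 1) := by
      intro k
      induction k with
      | zero => simp
      | succ k ih =>
        have e : ρ b = 1 + (ρ b - 1) := by abel
        rw [pow_succ, ih]
        nth_rw 2 [e]
        rw [add_mul, mul_add, smul_mul_assoc, mul_add, hqm b hb b hb, succ_nsmul]
        simp only [one_mul, mul_one, add_zero]
        abel
    rw [map_pow, h p, hpR, add_zero, map_one]
  have hQcomm : ∀ x ∈ Q, ∀ z ∈ Q, x * z = z * x := fun x hx z hz =>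
    congrArg Subtype.val (hQc.is_comm.comm (⟨x, hx⟩ : Q) ⟨z, hz⟩)
  have hord : ∀ y ∈ Q, (orderOf y).Coprime p := fun y hy =>
    hQp.coprime_dvd_left (Q.orderOf_dvd_natCard hy)
  have hnor : ∀ b ∈ Bm, ∀ x ∈ Q, b * x * b⁻¹ ∈ Q := fun b hb x hx =>
    (Subgroup.mem_normalizer_iff.mp (hBQ (hle hb)) x).mp hx
  by_cases hp2 : p = 2
  swap
  · exfalso
    obtain ⟨b, hb, hb1⟩ : ∃ b ∈ Bm, b ≠ 1 := Subgroup.ne_bot_iff_exists_ne_one.mp hne' |>.elim
      fun b hb => ⟨b, b.2, fun h => hb (Subtype.ext h)⟩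
    refine hb1 (hfaith b (hle hb) fun x hx => hρ ?_)
    rw [map_mul, map_mul]
    set n := ρ b - 1 with hn
    have hn2 : n * n = 0 := hqm b hb b hb
    have hb' : ρ b = 1 + n := by rw [hn]; abel
    have hbi : ρ b⁻¹ = 1 - n := by
      have h1 : ρ b⁻¹ * ρ b = 1 := by rw [← map_mul, inv_mul_cancel, map_one]
      calc ρ b⁻¹ = ρ b⁻¹ * ((1 + n) * (1 - n)) := by
            rw [add_mul, one_mul, mul_sub, mul_one, hn2]; simp
        _ = ρ b⁻¹ * ρ b * (1 - n) := by rw [hb', mul_assoc]
        _ = 1 - n := by rw [h1, one_mul]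
    have hz : ∀ c : H, c ∈ Bm → Commute (ρ x) (ρ c * ρ x * ρ c⁻¹) := fun c hc => by
      rw [← map_mul, ← map_mul]
      exact (Commute.map (hQcomm x hx _ (hnor c hc x hx)) ρ)
    have h1 := hz b hb
    have h2 := hz b⁻¹ (inv_mem hb)
    rw [inv_inv, hbi, hb'] at h2
    rw [hbi, hb'] at h1
    have h3 := h1.sub_right h2
    have e : (1 + n) * ρ x * (1 - n) - (1 - n) * ρ x * (1 + n) =
        (2 : ℕ) • (n * ρ x - ρ x * n) := by rw [two_nsmul]; noncomm_ring
    rw [e, Commute, SemiconjBy, mul_smul_comm, smul_mul_assoc] at h3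
    have h4 : ρ x * (n * ρ x - ρ x * n) = (n * ρ x - ρ x * n) * ρ x := by
      rw [← sub_eq_zero]
      apply hcancel 2 ((Nat.coprime_primes Nat.prime_two Fact.out).mpr (Ne.symm hp2))
      erw [smul_sub, h3, sub_self]
    have h5 := commute_of_nsmul_cancel (ρ x) n _ rfl h4 (orderOf x)
      (by rw [← map_pow, pow_orderOf_eq_one, map_one]) (hcancel _ (hord x hx))
    rw [hb', add_mul, mul_add, one_mul, mul_one, h5]
  subst hp2
  refine ⟨rfl, ?_⟩
  have hbb : ∀ b ∈ Bm, b * b = 1 := fun b hb => by rw [← sq]; exact hbp b hb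
  have hbinv : ∀ b ∈ Bm, b⁻¹ = b := fun b hb => inv_eq_of_mul_eq_one_right (hbb b hb)
  -- `b0` inverts, all of `Bm` inverts or centralizes, some `y`
  have hodd : ∀ y ∈ Q, y * y = 1 → y = 1 := by
    intro y hy h
    have h1 : orderOf y ∣ 2 := orderOf_dvd_of_pow_eq_one (by rw [sq]; exact h)
    exact orderOf_eq_one_iff.mp (Nat.eq_one_of_dvd_coprimes (hord y hy).symm h1 dvd_rfl)
  have hbc : ∀ b ∈ Bm, ∀ c ∈ Bm, b * c = c * b := fun b hb c hc =>
    congrArg Subtype.val (hcomm.is_comm.comm (⟨b, hb⟩ : Bm) ⟨c, hc⟩)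
  obtain ⟨b0, y, hb0, hy, hy1, hinv, hpm⟩ : ∃ b0 y : H, b0 ∈ Bm ∧ y ∈ Q ∧ y ≠ 1 ∧
      b0 * y * b0⁻¹ = y⁻¹ ∧ ∀ b ∈ Bm, b * y * b⁻¹ = y ∨ b * y * b⁻¹ = y⁻¹ := by
    obtain ⟨b0, hb0, hb1⟩ : ∃ b ∈ Bm, b ≠ 1 := Subgroup.ne_bot_iff_exists_ne_one.mp hne' |>.elim
      fun b hb => ⟨b, b.2, fun h => hb (Subtype.ext h)⟩
    refine ⟨b0, ?_⟩
    suffices ∀ s : Finset Bm, ∃ y : H, y ∈ Q ∧ y ≠ 1 ∧ b0 * y * b0⁻¹ = y⁻¹ ∧
        ∀ b ∈ s, (b : H) * y * (b : H)⁻¹ = y ∨ (b : H) * y * (b : H)⁻¹ = y⁻¹ by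
      have hfin := Fintype.ofFinite Bm
      obtain ⟨y, h1, h2, h3, h4⟩ := this Finset.univ
      exact ⟨y, hb0, h1, h2, h3, fun b hb => h4 ⟨b, hb⟩ (Finset.mem_univ _)⟩
    intro s
    induction s using Finset.induction with
    | empty =>
      obtain ⟨x, hx, hne⟩ : ∃ x ∈ Q, b0 * x ≠ x * b0 := by
        by_contra h
        push Not at h
        exact hb1 (hfaith b0 (hle hb0) h)
      refine ⟨x * (b0 * x * b0⁻¹)⁻¹, mul_mem hx (inv_mem (hnor b0 hb0 x hx)), ?_, ?_, by simp⟩
      · intro h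
        exact hne (mul_inv_eq_iff_eq_mul.mp (mul_inv_eq_one.mp h).symm)
      · have hb2 : b0⁻¹ = b0 := hbinv b0 hb0
        have hb3 := hbb b0 hb0
        rw [hb2]
        simp only [mul_inv_rev, inv_inv, hb2, mul_assoc, hb3, mul_one]
        try rw [← mul_assoc b0 b0, hb3, one_mul]
    | insert c s _ ih =>
      obtain ⟨y, hy, hy1, h3, h4⟩ := ih
      set c' : H := (c : H)
      have hcy : c' * y * c'⁻¹ ∈ Q := hnor c' c.2 y hy
      have hsign : ∀ b ∈ Bm, b * y * b⁻¹ = y ∨ b * y * b⁻¹ = y⁻¹ →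
          (∀ w : H, w = c' * y * c'⁻¹ → (b * y * b⁻¹ = y → b * w * b⁻¹ = w) ∧
            (b * y * b⁻¹ = y⁻¹ → b * w * b⁻¹ = w⁻¹)) := by
        rintro b hb - w rfl
        have e : b * (c' * y * c'⁻¹) * b⁻¹ = c' * (b * y * b⁻¹) * c'⁻¹ := by
          calc b * (c' * y * c'⁻¹) * b⁻¹ = (b * c') * y * (b * c')⁻¹ := by group
            _ = (c' * b) * y * (c' * b)⁻¹ := by rw [hbc b hb c' c.2]
            _ = _ := by group
        exact ⟨fun h => by rw [e, h], fun h => by rw [e, h]; group⟩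
      by_cases hcase : y * (c' * y * c'⁻¹) = 1
      · refine ⟨y, hy, hy1, h3, fun b hb => ?_⟩
        rcases Finset.mem_insert.mp hb with rfl | hb
        · exact Or.inr (mul_eq_one_iff_inv_eq.mp hcase).symm
        · exact h4 b hb
      · have hcomm' := hQcomm y hy _ hcy
        refine ⟨y * (c' * y * c'⁻¹), mul_mem hy hcy, hcase, ?_, fun b hb => ?_⟩
        · have h5 := ((hsign b0 hb0 (Or.inr h3)) _ rfl).2 h3
          rw [show b0 * (y * (c' * y * c'⁻¹)) * b0⁻¹ =
            (b0 * y * b0⁻¹) * (b0 * (c' * y * c'⁻¹) * b0⁻¹) by group, h3, h5]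
          rw [← mul_inv_rev, ← hcomm']
        · rcases Finset.mem_insert.mp hb with hbc' | hb
          · rw [hbc']; left
            have e : c' * (y * (c' * y * c'⁻¹)) * c'⁻¹ =
                (c' * y * c'⁻¹) * ((c' * c') * y * (c' * c')⁻¹) := by group
            rw [e, hbb c' c.2, one_mul, inv_one, mul_one, ← hcomm']
          · have e : (b : H) * (y * (c' * y * c'⁻¹)) * (b : H)⁻¹ =
                ((b : H) * y * (b : H)⁻¹) * ((b : H) * (c' * y * c'⁻¹) * (b : H)⁻¹) := by group
            rcases h4 b hb with h | h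
            · left
              rw [e, h, ((hsign b b.2 (Or.inl h)) _ rfl).1 h]
            · right
              rw [e, h, ((hsign b b.2 (Or.inr h)) _ rfl).2 h, ← mul_inv_rev, ← hcomm']
  set Y := ρ y with hY
  set Y' := ρ y⁻¹ with hY'
  have hYY' : Y' * Y = 1 := by rw [hY, hY', ← map_mul, inv_mul_cancel, map_one]
  obtain ⟨k, hk⟩ : ∃ k, y = (y * y) ^ k := by
    obtain ⟨k, hk⟩ := exists_pow_eq_self_of_coprime (x := y) (n := 2) (hord y hy).symm
    exact ⟨k, by rw [← sq]; exact hk.symm⟩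
  have hsq : ∀ r : AddMonoid.End A, r * (Y * Y) = r → r * Y = r := by
    intro r hr
    have : ∀ j, r * (Y * Y) ^ j = r := fun j => by
      induction j with
      | zero => simp
      | succ j ih => rw [pow_succ', ← mul_assoc, hr, ih]
    rw [hY] at this ⊢
    conv_lhs => rw [hk, map_pow, map_mul]
    exact this k
  have hsql : ∀ r : AddMonoid.End A, Y * Y * r = r → Y * r = r := by
    intro r hr
    have : ∀ j, (Y * Y) ^ j * r = r := fun j => by
      induction j with
      | zero => simp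
      | succ j ih => rw [pow_succ, mul_assoc, hr, ih]
    rw [hY] at this ⊢
    conv_lhs => rw [hk, map_pow, map_mul]
    exact this k
  -- `Y - 1` is semisimple
  have hss : ∀ a : A, Y (Y a - a) = Y a - a → Y a = a := by
    intro a ha
    have : ∀ j : ℕ, (Y ^ j) a = a + j • (Y a - a) := by
      intro j
      induction j with
      | zero => simp
      | succ j ih =>
        rw [pow_succ']
        change Y ((Y ^ j) a) = _
        rw [ih, map_add, map_nsmul, ha, succ_nsmul]
        abel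
    have h := this (orderOf y)
    rw [hY, ← map_pow, pow_orderOf_eq_one, map_one] at h
    change a = _ at h
    have h' : orderOf y • (Y a - a) = 0 := by rwa [left_eq_add] at h
    rcases Nat.eq_one_of_dvd_coprimes (hord y hy) (addOrderOf_dvd_of_nsmul_eq_zero h')
      (addOrderOf_dvd_of_nsmul_eq_zero (hA (Y a - a))) with h1
    exact sub_eq_zero.mp (AddMonoid.addOrderOf_eq_one_iff.mp h1)
  have hb0Y : ρ b0 * Y = Y' * ρ b0 := by
    rw [hY, hY', ← map_mul, ← map_mul, ← hinv]; group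
  obtain ⟨a0, ha0⟩ : ∃ a : A, ρ b0 (Y a - a) ≠ Y a - a := by
    by_contra h
    push Not at h
    have h1 : ρ b0 * (Y - 1) = Y - 1 := AddMonoidHom.ext h
    have h2 : Y * Y * (Y - 1) = Y - 1 := by
      have h3 : Y' * (Y - 1) = Y * (Y - 1) := by
        calc Y' * (Y - 1) = Y' * (ρ b0 * (Y - 1)) := by rw [h1]
          _ = ρ b0 * Y * (Y - 1) := by rw [← mul_assoc, hb0Y]
          _ = ρ b0 * (Y - 1) * Y := by noncomm_ring
          _ = (Y - 1) * Y := by rw [h1]
          _ = Y * (Y - 1) := by noncomm_ring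
      rw [mul_assoc, ← h3, ← mul_assoc,
        show Y * Y' = 1 by rw [hY, hY', ← map_mul, mul_inv_cancel, map_one], one_mul]
    have h3 := hsql _ h2
    apply hy1
    apply hρ
    rw [map_one]
    ext a
    exact hss a (DFunLike.congr_fun h3 a)
  let B1 : Subgroup H := Bm ⊓ Subgroup.centralizer {y}
  have hB1 : ∀ b ∈ B1, ∀ a, ρ b (Y a - a) = Y a - a := by
    rintro b ⟨hb, hby⟩
    have hby' : b * y = y * b := Subgroup.mem_centralizer_singleton_iff.mp hby
    set n := ρ b - 1 with hn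
    set n0 := ρ b0 - 1 with hn0
    have h0 : n * n0 = 0 := hqm b hb b0 hb0
    have hnY : n * Y' = Y' * n := by
      have : ρ b * Y' = Y' * ρ b := by
        rw [hY', ← map_mul, ← map_mul]
        congr 1
        exact ((show Commute b y from hby').inv_right).eq
      rw [hn, sub_mul, mul_sub, this, one_mul, mul_one]
    have h1 : Y - Y' = Y' * n0 - n0 * Y := by
      rw [hn0, mul_sub, sub_mul, hb0Y, one_mul, mul_one]; abel
    have h2 : n * (Y - Y') = 0 := by
      rw [h1, mul_sub, ← mul_assoc, ← mul_assoc, hnY, mul_assoc, h0]; simp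
    have h3 : n * (Y * Y) = n := by
      have : n * (Y - Y') * Y = 0 := by rw [h2, zero_mul]
      rw [mul_sub, sub_mul, mul_assoc, mul_assoc, hYY', mul_one, sub_eq_zero] at this
      exact this
    have h4 : n * (Y - 1) = 0 := by rw [mul_sub, hsq n h3, mul_one, sub_self]
    intro a
    exact sub_eq_zero.mp (DFunLike.congr_fun h4 a)
  have hlt : fixed ρ Bm < fixed ρ B1 :=
    lt_of_le_not_ge (fun a ha b hb => ha b hb.1) fun h =>
      ha0 (h (fun b hb => hB1 b hb a0) b0 hb0)
  have hcB : Nat.card Bm ≤ 2 * Nat.card B1 := by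
    have hmem : ∀ b : Bm, ¬ ((b : H) * y * (b : H)⁻¹ = y) → (b : H) * b0 ∈ B1 := fun b hb => by
      refine ⟨mul_mem b.2 hb0, Subgroup.mem_centralizer_singleton_iff.mpr ?_⟩
      have h1 : (b : H) * y * (b : H)⁻¹ = y⁻¹ := (hpm b b.2).resolve_left hb
      have h2 : (b : H) * b0 * y * ((b : H) * b0)⁻¹ = y := by
        rw [show (b : H) * b0 * y * ((b : H) * b0)⁻¹ = (b : H) * (b0 * y * b0⁻¹) * (b : H)⁻¹ by
          group, hinv, show (b : H) * y⁻¹ * (b : H)⁻¹ = ((b : H) * y * (b : H)⁻¹)⁻¹ by group, h1,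
          inv_inv]
      exact mul_inv_eq_iff_eq_mul.mp h2
    have hmem' : ∀ b : Bm, (b : H) * y * (b : H)⁻¹ = y → (b : H) ∈ B1 := fun b hb =>
      ⟨b.2, Subgroup.mem_centralizer_singleton_iff.mpr (mul_inv_eq_iff_eq_mul.mp hb)⟩
    let f : Bm → Bool × B1 := fun b =>
      if h : (b : H) * y * (b : H)⁻¹ = y then (true, ⟨b, hmem' b h⟩) else (false, ⟨_, hmem b h⟩)
    have := Nat.card_le_card_of_injective f (by
      intro b c h
      simp only [f] at h
      apply Subtype.ext
      split_ifs at h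
      · exact congrArg (fun w : Bool × B1 => (w.2 : H)) h
      · exact absurd (congrArg Prod.fst h) (by simp)
      · exact absurd (congrArg Prod.fst h) (by simp)
      · exact mul_right_cancel (congrArg (fun w : Bool × B1 => (w.2 : H)) h))
    simpa using this
  have hcA : ∀ S : AddSubgroup A, ∃ n, Nat.card S = 2 ^ n := fun S => by
    obtain ⟨n, hn⟩ := IsPGroup.iff_card.mp (show IsPGroup 2 (Multiplicative S) from fun a =>
      ⟨1, by
        apply Multiplicative.toAdd.injective
        rw [toAdd_pow, toAdd_one]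
        exact Subtype.ext (by simpa using hA ((Multiplicative.toAdd a : S) : A))⟩)
    exact ⟨n, hn⟩
  have hoff1 : IsOff ρ B1 := by
    refine hoff'.trans ?_
    obtain ⟨i, hi⟩ := hcA (fixed ρ Bm)
    obtain ⟨j, hj⟩ := hcA (fixed ρ B1)
    have h1 : Nat.card (fixed ρ Bm) < Nat.card (fixed ρ B1) := by
      by_contra h
      push Not at h
      exact hlt.ne (AddSubgroup.eq_of_le_of_card_ge hlt.le h)
    rw [hi, hj] at h1
    have h2 : i < j := (Nat.pow_lt_pow_iff_right (by norm_num)).mp h1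
    calc Nat.card Bm * Nat.card (fixed ρ Bm) ≤ 2 * Nat.card B1 * 2 ^ i := by
          rw [hi]; exact Nat.mul_le_mul_right _ hcB
      _ = Nat.card B1 * 2 ^ (i + 1) := by ring
      _ ≤ Nat.card B1 * 2 ^ j := Nat.mul_le_mul_left _ (Nat.pow_le_pow_right (by norm_num) h2)
      _ = _ := by rw [hj]
  have hB1bot : B1 = ⊥ := by
    refine (hmin B1 inf_le_left hoff1).resolve_right fun h => hy1 (hodd y hy ?_)
    have hb : b0 ∈ B1 := h ▸ hb0
    have h1 : b0 * y * b0⁻¹ = y := by
      rw [Subgroup.mem_centralizer_singleton_iff.mp hb.2]; group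
    exact mul_eq_one_iff_eq_inv.mpr (h1.symm.trans hinv)
  have hoff2 : Nat.card A ≤ 2 * Nat.card (fixed ρ Bm) := by
    refine hoff'.trans (Nat.mul_le_mul_right _ ?_)
    rw [hB1bot, Subgroup.card_bot, mul_one] at hcB
    exact hcB
  -- fixed points of `Y`
  let C := fixed ρ Bm
  let U : AddSubgroup A := (delta ρ y).range
  let F : AddSubgroup A := (delta ρ y).ker
  have hmemF : ∀ a, a ∈ F ↔ Y a = a := fun a => by
    rw [AddMonoidHom.mem_ker]; exact sub_eq_zero
  have hUF : Nat.card U * Nat.card F = Nat.card A := by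
    rw [← AddSubgroup.card_mul_index F, AddSubgroup.index_ker, mul_comm]
  have hfix : ∀ u ∈ U, Y u = u → u = 0 := by
    rintro _ ⟨a, rfl⟩ hu
    change Y (Y a - a) = Y a - a at hu
    change Y a - a = 0
    rw [hss a hu, sub_self]
  have hcap : ∀ a ∈ C, ∀ c ∈ C, a = Y c → Y c = c := by
    intro a ha c hc hac
    have h1 : ρ b0 (Y c) = Y c := hac ▸ ha b0 hb0
    have h2 : ρ b0 (Y c) = Y' c := by
      change (ρ b0 * Y) c = _
      rw [hb0Y]; change Y' (ρ b0 c) = _; rw [hc b0 hb0]
    have h3 : Y (Y c) = c := by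
      rw [← h1, h2]; change (Y * Y') c = c
      rw [hY, hY', ← map_mul, mul_inv_cancel, map_one]; rfl
    refine hss c ?_
    rw [map_sub, h3]
    have e := hA (Y c - c)
    rw [two_nsmul] at e
    rw [← neg_sub, neg_eq_of_add_eq_zero_left e]
  have hU4 : Nat.card U ≤ 4 := by
    -- the map `C × C → A`, `(a, c) ↦ a - Y c`, has kernel of order at most `|F|`
    let φ : C × C →+ A := C.subtype.comp (AddMonoidHom.fst C C) -
      (Y : A →+ A).comp (C.subtype.comp (AddMonoidHom.snd C C))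
    have h1 : Nat.card φ.ker ≤ Nat.card F := by
      refine Nat.card_le_card_of_injective
        (fun z => (⟨((z : C × C).2 : A), (hmemF _).mpr
          (hcap _ (z : C × C).1.2 _ (z : C × C).2.2 (sub_eq_zero.mp z.2))⟩ : F)) ?_
      rintro ⟨⟨a, c⟩, hz⟩ ⟨⟨a', c'⟩, hz'⟩ h
      have h2 : (c : A) = (c' : A) := congrArg (fun w : F => (w : A)) h
      have hz1 : (a : A) = Y (c : A) := sub_eq_zero.mp hz
      have hz2 : (a' : A) = Y (c' : A) := sub_eq_zero.mp hz'
      exact Subtype.ext (Prod.ext (Subtype.ext (by rw [hz1, hz2, h2])) (Subtype.ext h2))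
    have h2 : Nat.card C * Nat.card C ≤ Nat.card F * Nat.card A := by
      rw [← Nat.card_prod, ← AddSubgroup.card_mul_index φ.ker, AddSubgroup.index_ker]
      exact Nat.mul_le_mul h1 (Nat.card_le_card_of_injective _ Subtype.val_injective)
    have h3 : Nat.card A * Nat.card A ≤ 4 * Nat.card F * Nat.card A := by
      calc Nat.card A * Nat.card A ≤ (2 * Nat.card C) * (2 * Nat.card C) :=
            Nat.mul_le_mul hoff2 hoff2
        _ = 4 * (Nat.card C * Nat.card C) := by ring
        _ ≤ 4 * (Nat.card F * Nat.card A) := Nat.mul_le_mul_left _ h2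
        _ = _ := by ring
    have h4 := Nat.le_of_mul_le_mul_right h3 Nat.card_pos
    rw [← hUF] at h4
    exact Nat.le_of_mul_le_mul_right h4 Nat.card_pos
  have hUY : ∀ v ∈ U, Y v ∈ U := by
    rintro _ ⟨a, rfl⟩
    exact ⟨Y a, (map_sub Y (Y a) a).symm⟩
  have hYinj : Function.Injective Y := fun a c h => by
    have := congrArg Y' h
    change (Y' * Y) a = (Y' * Y) c at this
    rwa [hYY'] at this
  have hY2 : ∀ v, Y (Y v) = v → Y v = v := fun v h => by
    have : ∀ j, ((Y * Y) ^ j) v = v := fun j => by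
      induction j with
      | zero => simp
      | succ j ih => rw [pow_succ]; change ((Y * Y) ^ j) (Y (Y v)) = v; rw [h, ih]
    have h' := this k
    rw [hY, ← map_mul, ← map_pow, ← hk] at h'
    exact h'
  have hnt : ∀ u ∈ U, u ≠ 0 → Y u ≠ u ∧ Y u ≠ 0 ∧ Y (Y u) ≠ 0 ∧ Y (Y u) ≠ u ∧ Y (Y u) ≠ Y u :=
    fun u hu h0 => ⟨fun h => h0 (hfix u hu h),
      fun h => h0 (hYinj (by rw [h, map_zero])),
      fun h => h0 (hYinj (hYinj (by rw [h, map_zero, map_zero]))),
      fun h => h0 (hfix u hu (hY2 u h)), fun h => h0 (hfix u hu (hYinj h))⟩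
  have hY3 : ∀ u ∈ U, u ≠ 0 → Y (Y (Y u)) = u ∧ 4 ≤ Nat.card U := by
    intro u hu h0
    obtain ⟨h1, h2, h3, h4, h5⟩ := hnt u hu h0
    let f : Fin 4 → U :=
      ![⟨0, zero_mem _⟩, ⟨u, hu⟩, ⟨Y u, hUY u hu⟩, ⟨Y (Y u), hUY _ (hUY u hu)⟩]
    have hf : Function.Injective f := by
      intro i j h
      have := congrArg Subtype.val h
      fin_cases i <;> fin_cases j <;>
        simp [f, h0, h1, h2, h3, h4, h5, Ne.symm h0, Ne.symm h1, Ne.symm h2, Ne.symm h3,
          Ne.symm h4, Ne.symm h5] at this ⊢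
    have hle : 4 ≤ Nat.card U := by simpa using Nat.card_le_card_of_injective f hf
    refine ⟨?_, hle⟩
    obtain ⟨i, hi⟩ := ((Nat.bijective_iff_injective_and_card f).mpr
      ⟨hf, by rw [Nat.card_fin]; omega⟩).2 ⟨Y (Y (Y u)), hUY _ (hUY _ (hUY u hu))⟩
    have := congrArg Subtype.val hi
    fin_cases i <;> simp [f] at this
    · exact absurd (hYinj (this.symm.trans (map_zero Y).symm)) h3
    · exact this.symm
    · exact absurd (hYinj this.symm) h4
    · exact absurd (hYinj this.symm) h5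
  have huU : Y a0 - a0 ∈ U := ⟨a0, rfl⟩
  have hu1 : Y a0 - a0 ≠ 0 := fun h => ha0 (by rw [h, map_zero])
  refine ⟨b0, y, hle hb0, hy, hbb b0 hb0, hinv, ?_,
    le_antisymm hU4 (hY3 _ huU hu1).2, hfix, _, huU, ha0⟩
  apply hρ
  rw [map_pow, map_one, ← hY]
  have key : ∀ a, Y (Y (Y (Y a - a))) = Y a - a := fun a => by
    by_cases h : Y a - a = 0
    · rw [h, map_zero, map_zero, map_zero]
    · exact (hY3 _ ⟨a, rfl⟩ h).1
  ext a
  change Y (Y (Y a)) = a
  have h' : Y (Y (Y (Y a))) - Y (Y (Y a)) = Y a - a := by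
    have := key a
    simpa only [map_sub] using this
  set d := Y (Y (Y a)) - a with hd'
  have hd : Y d = d := by
    rw [hd', map_sub, sub_eq_sub_iff_sub_eq_sub.mp h']
  have hdU : d ∈ U := by
    have e : d = (Y (Y (Y a)) - Y (Y a)) + (Y (Y a) - Y a) + (Y a - a) := by
      rw [hd']; abel
    rw [e]
    exact add_mem (add_mem ⟨_, rfl⟩ ⟨_, rfl⟩) ⟨a, rfl⟩
  exact sub_eq_zero.mp (hfix d hdU hd)

end Cfsg.Agent.H59
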