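import Cfsg.Prelude.Def_LocalEven
import Mathlib

/-!
# A section isomorphic to the symmetric group of degree 4
-/

set_option autoImplicit false

open scoped Pointwise

namespace Cfsg.Agent.H59

universe u

variable {G : Type u} [Group G] [Finite G]

/-- A subgroup of order 4 and exponent 2, an element of order 3 acting without fixed points on it
and an element inverting this one and inducing an involution on it yield a section isomorphic to
the symmetric group of degree 4. -/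
theorem involves_perm_four (U : Subgroup G) (hU : Nat.card U = 4) 
    (y b : G) (hy : y ∈ Subgroup.normalizer (U : Set G)) (hb : b ∈ Subgroup.normalizer (U : Set G))
    (hy3 : y ^ 3 = 1) (hfix : ∀ u ∈ U, y * u * y⁻¹ = u → u = 1)
    (hinv : b * y * b⁻¹ = y⁻¹) (hb2 : ∀ u ∈ U, (b * b) * u * (b * b)⁻¹ = u)
    (hbne : ∃ u ∈ U, b * u * b⁻¹ ≠ u) :
    Cfsg.Involves (Equiv.Perm (Fin 4)) G := by
  classical
  obtain ⟨u0, hu0, hu0ne⟩ := hbne
  have hu01 : u0 ≠ 1 := fun h => hu0ne (by rw [h]; group)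
  have hy1 : y ≠ 1 := fun h => hu01 (hfix u0 hu0 (by rw [h]; group))
  have hord : orderOf y = 3 := orderOf_eq_prime hy3 hy1
  let H : Subgroup G :=
    Subgroup.normalizer (Subgroup.zpowers y : Set G) ⊓ Subgroup.normalizer (U : Set G)
  have hcy : Nat.card (Subgroup.zpowers y) = 3 := by rw [Nat.card_zpowers, hord]
  have hUy : ∀ z ∈ U, z ∈ Subgroup.zpowers y → z = 1 := fun z hz hz' => by
    have h1 : orderOf z ∣ 3 := hcy ▸ (Subgroup.zpowers y).orderOf_dvd_natCard hz'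
    have h2 : orderOf z ∣ 4 := hU ▸ U.orderOf_dvd_natCard hz
    exact orderOf_eq_one_iff.mp (Nat.eq_one_of_dvd_coprimes (by norm_num) h1 h2)
  have hHU : ∀ u ∈ U, u ∈ H → u = 1 := by
    intro u hu huH
    refine hfix u hu ?_
    have h1 : u * y * u⁻¹ ∈ Subgroup.zpowers y :=
      (Subgroup.mem_normalizer_iff.mp huH.1 y).mp (Subgroup.mem_zpowers y)
    have h2 := mul_mem h1 (inv_mem (Subgroup.mem_zpowers y))
    have h3 : u * (y * u⁻¹ * y⁻¹) ∈ U :=
      mul_mem hu ((Subgroup.mem_normalizer_iff.mp hy _).mp (inv_mem hu))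
    have h4 := hUy _ h3 (by rwa [show u * (y * u⁻¹ * y⁻¹) = u * y * u⁻¹ * y⁻¹ by group])
    rw [mul_eq_one_iff_eq_inv] at h4
    conv_rhs => rw [h4]
    group
  have hyH : y ∈ H := ⟨Subgroup.le_normalizer (Subgroup.mem_zpowers y), hy⟩
  have hbH : b ∈ H := by
    refine ⟨?_, hb⟩
    show b ∈ Subgroup.normalizer (Subgroup.zpowers y : Set G)
    rw [Subgroup.mem_normalizer_iff_map_conj_eq, MonoidHom.map_zpowers]
    simp [hinv]
  let L : Subgroup G := U ⊔ H
  have hHL : H ≤ L := le_sup_right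
  have hUL : U ≤ L := le_sup_left
  let H' : Subgroup L := H.subgroupOf L
  let e : U → L ⧸ H' := fun u => ((⟨u, hUL u.2⟩ : L) : L ⧸ H')
  have he : Function.Bijective e := by
    refine ⟨fun u v h => ?_, fun q => ?_⟩
    · have h0 := QuotientGroup.eq.mp h
      have h1 : (u : G)⁻¹ * (v : G) ∈ H := h0
      exact Subtype.ext (inv_mul_eq_one.mp (hHU _ (mul_mem (inv_mem u.2) v.2) h1))
    · obtain ⟨⟨l, hl⟩, rfl⟩ := QuotientGroup.mk_surjective q
      have hl' : l ∈ ((U : Set G) * (H : Set G)) := by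
        rw [← Subgroup.coe_mul_of_right_le_normalizer_left U H inf_le_right]
        exact hl
      obtain ⟨u, hu, h, hh, rfl⟩ := hl'
      refine ⟨⟨u, hu⟩, QuotientGroup.eq.mpr ?_⟩
      change u⁻¹ * (u * h) ∈ H
      rwa [inv_mul_cancel_left]
  have hcard : Nat.card (L ⧸ H') = 4 := by rw [← Nat.card_congr (Equiv.ofBijective e he), hU]
  let f : L →* Equiv.Perm (L ⧸ H') := MulAction.toPermHom L (L ⧸ H')
  have hconj : ∀ (g : G) (hg : g ∈ H) (u : U),
      f ⟨g, hHL hg⟩ (e u) = e ⟨g * u * g⁻¹, (Subgroup.mem_normalizer_iff.mp hg.2 _).mp u.2⟩ := by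
    intro g hg u
    change (((⟨g, hHL hg⟩ : L) * ⟨u, hUL u.2⟩ : L) : L ⧸ H') = _
    refine QuotientGroup.eq.mpr ?_
    change (g * (u : G))⁻¹ * (g * u * g⁻¹) ∈ H
    rw [show (g * (u : G))⁻¹ * (g * u * g⁻¹) = g⁻¹ by group]
    exact inv_mem hg
  let I : Subgroup (Equiv.Perm (L ⧸ H')) := f.range
  let pt : L ⧸ H' := ((1 : L) : L ⧸ H')
  let S : Subgroup I := MulAction.stabilizer I pt
  have horb : MulAction.orbit I pt = Set.univ := Set.eq_univ_of_forall fun q => by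
    obtain ⟨l, rfl⟩ := QuotientGroup.mk_surjective q
    refine ⟨⟨f l, l, rfl⟩, ?_⟩
    change ((l * 1 : L) : L ⧸ H') = _
    rw [mul_one]
  have hS : ∀ g : G, ∀ hg : g ∈ H, (⟨f ⟨g, hHL hg⟩, _, rfl⟩ : I) ∈ S := fun g hg => by
    change (((⟨g, hHL hg⟩ : L) * 1 : L) : L ⧸ H') = _
    refine QuotientGroup.eq.mpr ?_
    change ((⟨g, hHL hg⟩ : L) * 1)⁻¹ * 1 ∈ H'
    rw [mul_one, mul_one]
    exact inv_mem (show (⟨g, hHL hg⟩ : L) ∈ H' from hg)
  have hne : ∀ (g : G) (hg : g ∈ H), (∃ u ∈ U, g * u * g⁻¹ ≠ u) →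
      (⟨⟨f ⟨g, hHL hg⟩, _, rfl⟩, hS g hg⟩ : S) ≠ 1 := by
    rintro g hg ⟨u, hu, hne⟩ h
    have h1 : f ⟨g, hHL hg⟩ = 1 := congrArg (fun z : S => ((z : I) : Equiv.Perm (L ⧸ H'))) h
    have h2 := hconj g hg ⟨u, hu⟩
    rw [h1] at h2
    exact hne (congrArg Subtype.val (he.1 h2)).symm
  have h3 : 3 ∣ Nat.card S := by
    have h1 : (⟨⟨f ⟨y, hHL hyH⟩, _, rfl⟩, hS y hyH⟩ : S) ^ 3 = 1 := by
      apply Subtype.ext
      apply Subtype.ext
      change f ⟨y, hHL hyH⟩ ^ 3 = 1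
      rw [← map_pow, show (⟨y, hHL hyH⟩ : L) ^ 3 = 1 from Subtype.ext hy3, map_one]
    rw [← orderOf_eq_prime h1 (hne y hyH ⟨u0, hu0, fun h => hu01 (hfix u0 hu0 h)⟩)]
    exact orderOf_dvd_natCard _
  have h2 : 2 ∣ Nat.card S := by
    have h1 : (⟨⟨f ⟨b, hHL hbH⟩, _, rfl⟩, hS b hbH⟩ : S) ^ 2 = 1 := by
      apply Subtype.ext
      apply Subtype.ext
      change f ⟨b, hHL hbH⟩ ^ 2 = 1
      refine Equiv.ext fun q => ?_
      obtain ⟨u, rfl⟩ := he.2 q
      rw [sq, Equiv.Perm.mul_apply, hconj b hbH, hconj b hbH, Equiv.Perm.one_apply]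
      congr 1
      apply Subtype.ext
      change b * (b * (u : G) * b⁻¹) * b⁻¹ = u
      rw [show b * (b * (u : G) * b⁻¹) * b⁻¹ = (b * b) * u * (b * b)⁻¹ by group]
      exact hb2 u u.2
    rw [← orderOf_eq_prime h1 (hne b hbH ⟨u0, hu0, hu0ne⟩)]
    exact orderOf_dvd_natCard _
  have hI : Nat.card I = 4 * Nat.card S := by
    have h := Subgroup.card_mul_index S
    rw [MulAction.index_stabilizer, horb, Set.ncard_univ, hcard] at h
    rw [← h]; ring
  have hP : Nat.card (Equiv.Perm (L ⧸ H')) = 24 := by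
    rw [Nat.card_perm, hcard]; rfl
  have htop : I = ⊤ := by
    apply Subgroup.eq_top_of_le_card
    have h6 : 6 ≤ Nat.card S :=
      Nat.le_of_dvd Nat.card_pos (Nat.Coprime.mul_dvd_of_dvd_of_dvd (by norm_num) h2 h3)
    omega
  have hR : (f.ker.map L.subtype).subgroupOf L = f.ker :=
    Subgroup.comap_map_eq_self_of_injective L.subtype_injective _
  have hn : ((f.ker.map L.subtype).subgroupOf L).Normal := by rw [hR]; infer_instance
  refine ⟨L, f.ker.map L.subtype, hn, ?_⟩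
  obtain ⟨eq4⟩ : Nonempty ((L ⧸ H') ≃ Fin 4) :=
    ⟨(Finite.equivFin _).trans (finCongr hcard)⟩
  exact ⟨((QuotientGroup.quotientMulEquivOfEq hR).trans
    (QuotientGroup.quotientKerEquivOfSurjective f (MonoidHom.range_eq_top.mp htop))).trans
      eq4.permCongrHom⟩

end Cfsg.Agent.H59
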