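import Cfsg.Agent.H59.ThompsonMap
import Cfsg.Agent.H59.Offender
import Cfsg.Agent.H59.S4Section
import Cfsg.Agent.Fusion.Frobenius
import Cfsg.Agent.Coprime.SchurZassenhaus
import Cfsg.Agent.Cores.PCore
import Cfsg.Agent.PGroups.Basic

/-!
# Normal p-complements from `C(Z(S))` and `N(J(S))`
-/

set_option autoImplicit false

namespace Cfsg.Agent.H59

open Subgroup

universe u

variable {G : Type u} [Group G] [Finite G] {p : ℕ} [Fact p.Prime]

theorem map_complement {X : Type u} [Group X] [Finite X] (f : G →* X) {K : Subgroup G}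
    {L : Subgroup X} (hK : HasNormalPComplement p K) (hL : L ≤ K.map f) :
    HasNormalPComplement p L :=
  Fusion.hasNormalPComplement_of_le
    (Fusion.hasNormalPComplement_of_surjective hK _ (f.subgroupMap_surjective K)) hL

theorem subgroup_complement {N : Subgroup G} {L : Subgroup G} (hL : HasNormalPComplement p L)
    {K : Subgroup N} (hK : K.map N.subtype ≤ L) : HasNormalPComplement p K :=
  (Fusion.hasNormalPComplement_congr (K.equivMapOfInjective _ N.subtype_injective)).mpr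
    (Fusion.hasNormalPComplement_of_le hL hK)

theorem mem_normalizer_of_forall {U : Subgroup G} {g : G} (h : ∀ u ∈ U, g * u * g⁻¹ ∈ U) :
    g ∈ normalizer (U : Set G) := by
  rw [mem_normalizer_iff_map_conj_eq]
  refine eq_of_le_of_card_ge ?_ (card_map_of_injective (MulEquiv.injective _)).ge
  rintro _ ⟨u, hu, rfl⟩
  exact h u hu

theorem center_ne_bot {P : Subgroup G} (hP : IsPGroup p P) (hne : P ≠ ⊥) :
    P ⊓ centralizer (P : Set G) ≠ ⊥ := by
  have : Nontrivial P := (nontrivial_iff_ne_bot P).mpr hne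
  obtain ⟨z, hz⟩ := (nontrivial_iff_exists_ne (1 : center P)).mp hP.center_nontrivial
  intro h
  have hmem : ((z : P) : G) ∈ P ⊓ centralizer (P : Set G) :=
    ⟨(z : P).2, fun x hx => congrArg Subtype.val (mem_center_iff.mp z.2 ⟨x, hx⟩)⟩
  rw [h, mem_bot] at hmem
  exact hz (Subtype.ext (Subtype.ext hmem))

theorem center_comm (P : Subgroup G) : IsMulCommutative ↥(P ⊓ centralizer (P : Set G)) :=
  ⟨⟨fun a b => Subtype.ext (mem_centralizer_iff.mp b.2.2 _ a.2.1)⟩⟩

/-- A `p`-subgroup conjugated into its product with a normal `p'`-subgroup. -/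
theorem exists_normalizer_mul {N J : Subgroup G} [N.Normal] (hN : (Nat.card N).Coprime p)
    (hJ : IsPGroup p J) {g : G} (hg : ∀ j ∈ J, g * j * g⁻¹ ∈ N ⊔ J) :
    ∃ n ∈ N, n * g ∈ normalizer (J : Set G) := by
  have : Group.IsNilpotent J := hJ.isNilpotent
  obtain ⟨k, hk⟩ := IsPGroup.iff_card.mp hJ
  obtain ⟨n, hn, heq⟩ := Coprime.exists_conj_of_le_sup (N := N) (H₁ := J)
    (H₂ := J.map (MulAut.conj g).toMonoidHom) le_normalizer_of_normal
    (by rintro _ ⟨j, hj, rfl⟩; exact hg j hj) (card_map_of_injective (MulEquiv.injective _))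
    (by rw [hk]; exact hN.symm.pow_left k) (Or.inl inferInstance)
  refine ⟨n⁻¹, inv_mem hn, mem_normalizer_of_forall fun j hj => ?_⟩
  obtain ⟨j', hj', h⟩ := heq ▸ mem_map_of_mem (MulAut.conj g).toMonoidHom hj
  simp only [MulEquiv.toMonoidHom_eq_coe, MonoidHom.coe_coe, MulAut.conj_apply] at h
  rw [show n⁻¹ * g * j * (n⁻¹ * g)⁻¹ = n⁻¹ * (g * j * g⁻¹) * n by group, ← h,
    show n⁻¹ * (n * j' * n⁻¹) * n = j' by group]
  exact hj'

/-- An automorphism of coprime order fixing all elements of order `p` of an abelian `p`-group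
fixes it. -/
theorem commute_of_commute_omega {V : Subgroup G} (hVc : IsMulCommutative V) (hVp : IsPGroup p V)
    {h : G} (hh : h ∈ normalizer (V : Set G)) (hord : (orderOf h).Coprime p)
    (hw : ∀ w ∈ V, w ^ p = 1 → h * w = w * h) : ∀ v ∈ V, h * v = v * h := by
  suffices ∀ k : ℕ, ∀ v ∈ V, v ^ p ^ k = 1 → h * v = v * h by
    intro v hv
    obtain ⟨k, hk⟩ := hVp ⟨v, hv⟩
    exact this k v hv (congrArg Subtype.val hk)
  intro k
  induction k with
  | zero => intro v _ hv; rw [pow_zero, pow_one] at hv; subst hv; simp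
  | succ k ih =>
    intro v hv hvk
    have hvp : h * v ^ p = v ^ p * h :=
      ih _ (pow_mem hv p) (by rw [← pow_mul, ← pow_succ']; exact hvk)
    set w := h * v * h⁻¹ * v⁻¹ with hwdef
    have hw1 : h * v * h⁻¹ ∈ V := (mem_normalizer_iff.mp hh v).mp hv
    have hwV : w ∈ V := mul_mem hw1 (inv_mem hv)
    have hcm : Commute (h * v * h⁻¹) v⁻¹ :=
      congrArg Subtype.val (hVc.is_comm.comm (⟨_, hw1⟩ : V) ⟨_, inv_mem hv⟩)
    have hwp : w ^ p = 1 := by
      rw [hwdef, hcm.mul_pow, conj_pow, hvp, mul_inv_cancel_right, inv_pow, mul_inv_cancel]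
    have hhw : h * w * h⁻¹ = w := by rw [hw w hwV hwp, mul_inv_cancel_right]
    have key : ∀ m : ℕ, h ^ m * v * (h ^ m)⁻¹ = w ^ m * v := by
      intro m
      induction m with
      | zero => simp
      | succ m ihm =>
        rw [pow_succ' h, mul_inv_rev,
          show h * h ^ m * v * ((h ^ m)⁻¹ * h⁻¹) = h * (h ^ m * v * (h ^ m)⁻¹) * h⁻¹ by group, ihm,
          show h * (w ^ m * v) * h⁻¹ = (h * w ^ m * h⁻¹) * (h * v * h⁻¹) by group,
          ← conj_pow, hhw, show h * v * h⁻¹ = w * v by rw [hwdef]; group,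
          ← mul_assoc, ← pow_succ]
    have h1 := key (orderOf h)
    rw [pow_orderOf_eq_one] at h1
    simp only [one_mul, inv_one, mul_one] at h1
    have h2 : w ^ orderOf h = 1 := mul_eq_right.mp h1.symm
    have h3 : w = 1 := orderOf_eq_one_iff.mp (Nat.eq_one_of_dvd_coprimes hord
      (orderOf_dvd_of_pow_eq_one h2) (orderOf_dvd_of_pow_eq_one hwp))
    exact mul_inv_eq_iff_eq_mul.mp (mul_inv_eq_one.mp (hwdef.symm.trans h3))

theorem normal_le_of_inf_le {R K N : Subgroup G} [R.Normal] (hR : IsPGroup p R)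
    (hRmax : ∀ W : Subgroup G, W.Normal → IsPGroup p W → W ≤ R)
    (hK : ∀ g : G, ∃ k : ℕ, g ^ p ^ k ∈ K) [hN : N.Normal] (h : N ⊓ K ≤ R) : N ≤ R := by
  refine hRmax N hN fun x => ?_
  obtain ⟨k, hk⟩ := hK (x : G)
  obtain ⟨m, hm⟩ := hR ⟨_, h ⟨pow_mem x.2 _, hk⟩⟩
  exact ⟨k + m, Subtype.ext (by
    rw [SubgroupClass.coe_pow, pow_add, pow_mul]
    exact congrArg Subtype.val hm)⟩

/-- The conclusion of the last step. -/
theorem exists_sylow_invariant (K : Subgroup G) [K.Normal] (hK : (Nat.card K).Coprime p)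
    (S : Sylow p G) {q : ℕ} [Fact q.Prime] (hq : q ∣ Nat.card K) :
    ∃ Q : Subgroup G, Q ≤ K ∧ Q ≠ ⊥ ∧ IsPGroup q Q ∧ (S : Subgroup G) ≤ normalizer (Q : Set G) := by
  let Q0 : Sylow q K := default
  let Q1 : Subgroup G := (Q0 : Subgroup K).map K.subtype
  have hfr : normalizer (Q1 : Set G) ⊔ K = ⊤ := Sylow.normalizer_sup_eq_top Q0
  have hidx : ¬ p ∣ (normalizer (Q1 : Set G)).index := by
    intro hd
    have h1 := Cores.card_sup_mul_card_inf (normalizer (Q1 : Set G)) K
    rw [hfr, card_top, ← card_mul_index (normalizer (Q1 : Set G)), mul_assoc] at h1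
    have h2 : (normalizer (Q1 : Set G)).index ∣ Nat.card K :=
      ⟨_, (Nat.eq_of_mul_eq_mul_left Nat.card_pos h1).symm⟩
    exact (Nat.Prime.coprime_iff_not_dvd Fact.out).mp hK.symm (hd.trans h2)
  let T : Sylow p (normalizer (Q1 : Set G)) := default
  have hT : ¬ p ∣ ((T : Subgroup (normalizer (Q1 : Set G))).map (normalizer (Q1 : Set G)).subtype).index := by
    rw [index_map_of_injective _ (subtype_injective _), range_subtype]
    exact Nat.Prime.not_dvd_mul Fact.out T.not_dvd_index hidx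
  obtain ⟨g, hg⟩ := MulAction.exists_smul_eq G ((T.isPGroup'.map _).toSylow hT) S
  refine ⟨Q1.map (MulAut.conj g).toMonoidHom, ?_, ?_, (Q0.isPGroup'.map _).map _, ?_⟩
  · rintro _ ⟨x, ⟨y, -, rfl⟩, rfl⟩
    exact Normal.conj_mem ‹K.Normal› _ y.2 g
  · rw [Ne, map_eq_bot_iff_of_injective _ (MulEquiv.injective _),
      map_eq_bot_iff_of_injective _ K.subtype_injective]
    exact Q0.ne_bot_of_dvd_card hq
  · rw [← hg]
    rintro _ ⟨x, ⟨y, -, rfl⟩, rfl⟩
    refine mem_normalizer_of_forall ?_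
    rintro _ ⟨z, hz, rfl⟩
    refine ⟨(y : G) * z * (y : G)⁻¹, (mem_normalizer_iff.mp y.2 z).mp hz, ?_⟩
    simp only [MulEquiv.toMonoidHom_eq_coe, MonoidHom.coe_coe, MulAut.conj_apply,
      Subgroup.coe_subtype, MulDistribMulAction.toMonoidEnd_apply, MulDistribMulAction.toMonoidHom_apply,
      MulAut.smul_def]
    group

end Cfsg.Agent.H59
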