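import Cfsg.Agent.H60.FrakM
import Cfsg.Agent.H61.CharP
import Cfsg.Agent.Fusion.PResidual
import Cfsg.Agent.Cores.PCore
import Cfsg.Agent.H59.ThompsonComplement

/-!
# p-reduced normal subgroups, p-residuals of subnormal subgroups
-/

set_option autoImplicit false

namespace Cfsg.Agent.H59

open Subgroup

universe u

variable {G : Type u} [Group G] {p : ℕ}

/-- p-reduced means that every normal subgroup all of whose elements have a p-power power
centralizing `V` centralizes `V`. -/
theorem isPReducedNormal_iff {V : Subgroup G} [V.Normal] :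
    Cfsg.IsPReducedNormal p V ↔ Cfsg.IsElementaryAbelian p V ∧
      ∀ N : Subgroup G, N.Normal → (∀ x ∈ N, ∃ k, x ^ p ^ k ∈ centralizer (V : Set G)) →
        N ≤ centralizer (V : Set G) := by
  set C := centralizer (V : Set G) with hC
  have hCn : C.Normal := normal_centralizer
  constructor
  · rintro ⟨-, hel, hn, hq⟩
    refine ⟨hel, fun N hN hpow => ?_⟩
    have : (N.map (QuotientGroup.mk' C)).Normal := hN.map _ (QuotientGroup.mk'_surjective C)
    have h1 : N.map (QuotientGroup.mk' C) ≤ Cfsg.pCore p (G ⧸ C) := by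
      refine Cores.le_pCore ?_
      rintro ⟨_, x, hx, rfl⟩
      obtain ⟨k, hk⟩ := hpow x hx
      exact ⟨k, Subtype.ext ((QuotientGroup.eq_one_iff _).mpr hk)⟩
    intro x hx
    have h2 := h1 (mem_map_of_mem _ hx)
    rw [hq, mem_bot] at h2
    exact (QuotientGroup.eq_one_iff x).mp h2
  · rintro ⟨hel, h⟩
    refine ⟨inferInstance, hel, hCn, (eq_bot_iff_forall _).mpr fun q hq => ?_⟩
    obtain ⟨x, rfl⟩ := QuotientGroup.mk'_surjective C q
    refine (QuotientGroup.eq_one_iff x).mpr
      (h ((Cfsg.pCore p (G ⧸ C)).comap (QuotientGroup.mk' C)) inferInstance (fun y hy => ?_) hq)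
    obtain ⟨k, hk⟩ := Cores.pCore_isPGroup (⟨_, hy⟩ : Cfsg.pCore p (G ⧸ C))
    exact ⟨k, (QuotientGroup.eq_one_iff _).mp (congrArg Subtype.val hk)⟩

/-- The elements of order dividing `p` of a subgroup centralizing itself. -/
def omegaAb (p : ℕ) (A : Subgroup G) (h : A ≤ centralizer (A : Set G)) : Subgroup G where
  carrier := {v | v ∈ A ∧ v ^ p = 1}
  one_mem' := ⟨one_mem _, one_pow _⟩
  mul_mem' := fun {a b} ha hb => ⟨mul_mem ha.1 hb.1, by
    rw [(show Commute a b from h hb.1 a ha.1).mul_pow, ha.2, hb.2, one_mul]⟩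
  inv_mem' := fun {a} ha => ⟨inv_mem ha.1, by rw [inv_pow, ha.2, inv_one]⟩

theorem mem_omegaAb {A : Subgroup G} {h : A ≤ centralizer (A : Set G)} {v : G} :
    v ∈ omegaAb p A h ↔ v ∈ A ∧ v ^ p = 1 := Iff.rfl

theorem isElementaryAbelian_omegaAb (A : Subgroup G) (h : A ≤ centralizer (A : Set G)) :
    Cfsg.IsElementaryAbelian p (omegaAb p A h) :=
  ⟨⟨⟨fun a b => Subtype.ext (mem_centralizer_iff.mp (h b.2.1) _ a.2.1)⟩⟩, fun _ ha => ha.2⟩

theorem omegaOne_eq_omegaAb (A : Subgroup G) (h : A ≤ centralizer (A : Set G)) :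
    Cfsg.omegaOne p A = omegaAb p A h :=
  le_antisymm ((closure_le _).mpr fun _ hx => hx) fun _ hx => subset_closure hx

theorem isElementaryAbelian_mono {A B : Subgroup G} (hB : Cfsg.IsElementaryAbelian p B)
    (h : A ≤ B) : Cfsg.IsElementaryAbelian p A :=
  ⟨⟨⟨fun a b => Subtype.ext (congrArg (fun z : B => (z : G))
    (hB.1.is_comm.comm (⟨a, h a.2⟩ : B) ⟨b, h b.2⟩))⟩⟩, fun a ha => hB.2 a (h ha)⟩

theorem le_centralizer_self {A : Subgroup G} (hA : IsMulCommutative A) :
    A ≤ centralizer (A : Set G) := fun a ha b hb =>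
  congrArg Subtype.val (hA.is_comm.comm (⟨b, hb⟩ : A) ⟨a, ha⟩)

/-- The intersection of a Sylow subgroup with a subgroup it normalizes is Sylow in that subgroup. -/
theorem not_dvd_relIndex_inf [Finite G] [Fact p.Prime] (T : Sylow p G) {C : Subgroup G}
    (h : (T : Subgroup G) ≤ normalizer (C : Set G)) :
    ¬ p ∣ ((T : Subgroup G) ⊓ C).relIndex C := by
  set M := normalizer (C : Set G) with hM
  set T' : Subgroup M := (T : Subgroup G).subgroupOf M with hT'
  set C' : Subgroup M := C.subgroupOf M with hC'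
  have : C'.Normal := normal_in_normalizer
  have h1 := Cores.card_sup_mul_card_inf T' C'
  have h2 : T'.relIndex C' ∣ T'.index := by
    refine (dvd_of_eq ?_).trans (relIndex_dvd_index_of_le (le_sup_left (b := C')))
    have e1 := card_mul_index (T'.subgroupOf C')
    have e2 := card_mul_index (T'.subgroupOf (T' ⊔ C'))
    rw [Nat.card_congr (subgroupOfEquivOfLe (le_sup_left (a := T') (b := C'))).toEquiv] at e2
    rw [← inf_subgroupOf_right, Nat.card_congr (subgroupOfEquivOfLe inf_le_right).toEquiv,
      inf_subgroupOf_right] at e1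
    change Nat.card ↥(T' ⊓ C') * T'.relIndex C' = Nat.card C' at e1
    change Nat.card T' * T'.relIndex (T' ⊔ C') = Nat.card ↥(T' ⊔ C') at e2
    rw [← e2, ← e1, mul_assoc, mul_comm (T'.relIndex (T' ⊔ C'))] at h1
    exact (Nat.eq_of_mul_eq_mul_left Nat.card_pos
      (Nat.eq_of_mul_eq_mul_left Nat.card_pos h1)).symm
  intro hd
  rw [inf_relIndex_right, ← relIndex_subgroupOf (Subgroup.le_normalizer : C ≤ M)] at hd
  exact (T.subtype h).not_dvd_index (hd.trans h2)

theorem exists_sylow_eq_inf [Finite G] [Fact p.Prime] (T : Sylow p G) {C : Subgroup G}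
    (h : (T : Subgroup G) ≤ normalizer (C : Set G)) :
    ∃ P : Sylow p C, (P : Subgroup C) = ((T : Subgroup G) ⊓ C).subgroupOf C :=
  ⟨((T.isPGroup'.to_le inf_le_left).comap_subtype).toSylow (not_dvd_relIndex_inf T h), rfl⟩

/-- The normal closure of a p-reduced normal subgroup of an overgroup of a Sylow subgroup. -/
theorem isPReducedNormal_normalClosure [Finite G] [Fact p.Prime]
    (hchar : centralizer (Cfsg.pCore p G : Set G) ≤ Cfsg.pCore p G) (T : Sylow p G)
    (R : Subgroup G) (hTR : (T : Subgroup G) ≤ R) (X : Subgroup R)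
    (hX : Cfsg.IsPReducedNormal p X) :
    Cfsg.IsPReducedNormal p (normalClosure ((X.map R.subtype : Subgroup G) : Set G)) := by
  set Xg : Subgroup G := X.map R.subtype with hXg
  set Y := normalClosure (Xg : Set G) with hY
  have hQR : Cfsg.pCore p G ≤ R := (Cores.pCore_le_sylow T).trans hTR
  have hXC : Xg ≤ centralizer (Cfsg.pCore p G : Set G) := by
    rintro _ ⟨x, hx, rfl⟩ q hq
    have h1 := H60.preduced_pCore_le_centralizer hX
      (Cores.subgroupOf_pCore_le R (show (⟨q, hQR hq⟩ : R) ∈ (Cfsg.pCore p G).subgroupOf R from hq))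
    exact (congrArg Subtype.val (mem_centralizer_iff.mp h1 x hx)).symm
  set A := centralizer (Cfsg.pCore p G : Set G) with hA
  have hAn : A.Normal := normal_centralizer
  have hAA : A ≤ centralizer (A : Set G) := fun a ha b hb =>
    mem_centralizer_iff.mp ha b (hchar hb)
  have hOn : (omegaAb p A hAA).Normal := ⟨fun v hv g => ⟨hAn.conj_mem v hv.1 g, by
    rw [conj_pow, hv.2, mul_one, mul_inv_cancel]⟩⟩
  have hYO : Y ≤ omegaAb p A hAA := normalClosure_le_normal fun x hx => by
    refine ⟨hXC hx, ?_⟩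
    obtain ⟨x', hx', rfl⟩ := hx
    exact congrArg Subtype.val (hX.2.1.2 x' hx')
  have hXn : X.Normal := hX.1
  refine isPReducedNormal_iff.mpr
    ⟨isElementaryAbelian_mono (isElementaryAbelian_omegaAb A hAA) hYO, fun N hN hpow => ?_⟩
  have hcy : centralizer (Y : Set G) ≤ centralizer (Xg : Set G) :=
    centralizer_le subset_normalClosure
  have hX' := (isPReducedNormal_iff.mp hX).2
  -- the intersection with `R` centralizes `X`
  have hNR : N.subgroupOf R ≤ centralizer (X : Set R) := by
    refine hX' _ inferInstance fun x hx => ?_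
    obtain ⟨k, hk⟩ := hpow _ hx
    exact ⟨k, fun y hy => Subtype.ext (by
      simpa using mem_centralizer_iff.mp (hcy hk) _ (mem_map_of_mem R.subtype hy))⟩
  have hCn : (centralizer (Y : Set G)).Normal := normal_centralizer
  set f := QuotientGroup.mk' (centralizer (Y : Set G)) with hf
  have hNle : N ≤ centralizer (Xg : Set G) := by
    intro n hn
    have h1 : f n ∈ ((T.mapSurjective (f := f) (QuotientGroup.mk'_surjective _) :
        Sylow p (G ⧸ centralizer (Y : Set G))) : Subgroup (G ⧸ centralizer (Y : Set G))) := by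
      refine Cores.pCore_le_sylow _ (Cores.le_pCore (N := N.map f) (hN :=
        hN.map _ (QuotientGroup.mk'_surjective _)) ?_ (mem_map_of_mem f hn))
      rintro ⟨_, x, hx, rfl⟩
      obtain ⟨k, hk⟩ := hpow x hx
      exact ⟨k, Subtype.ext ((QuotientGroup.eq_one_iff _).mpr hk)⟩
    rw [Sylow.coe_mapSurjective] at h1
    obtain ⟨t, ht, htn⟩ := h1
    have hc : t⁻¹ * n ∈ centralizer (Y : Set G) := QuotientGroup.eq.mp htn
    obtain ⟨n0, rfl⟩ : ∃ c, n = t * c := ⟨t⁻¹ * n, by group⟩
    rw [inv_mul_cancel_left] at hc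
    -- replace `N` by its product with the centralizer
    have hN' : t ∈ N ⊔ centralizer (Y : Set G) := by
      have := mul_mem (mem_sup_left (T := centralizer (Y : Set G)) hn)
        (mem_sup_right (S := N) (inv_mem hc))
      rwa [mul_inv_cancel_right] at this
    have hNR' : (N ⊔ centralizer (Y : Set G)).subgroupOf R ≤ centralizer (X : Set R) := by
      refine hX' _ inferInstance fun x hx => ?_
      have hxm : f (x : G) ∈ N.map f := by
        have := mem_map_of_mem f (show (x : G) ∈ N ⊔ centralizer (Y : Set G) from hx)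
        rwa [Subgroup.map_sup, (Subgroup.map_eq_bot_iff _).mpr (le_of_eq (QuotientGroup.ker_mk' _).symm),
          sup_bot_eq] at this
      obtain ⟨m, hm, hmx⟩ := hxm
      obtain ⟨k, hk⟩ := hpow m hm
      refine ⟨k, fun y hy => Subtype.ext ?_⟩
      have h2 : (x : G) ^ p ^ k ∈ centralizer (Y : Set G) := by
        refine (QuotientGroup.eq_one_iff _).mp ?_
        change f ((x : G) ^ p ^ k) = 1
        rw [map_pow, ← hmx, ← map_pow]
        exact (QuotientGroup.eq_one_iff _).mpr hk
      simpa using mem_centralizer_iff.mp (hcy h2) _ (mem_map_of_mem R.subtype hy)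
    have htc : t ∈ centralizer (Xg : Set G) := by
      rintro _ ⟨x, hx, rfl⟩
      exact congrArg Subtype.val (hNR' (x := (⟨t, hTR ht⟩ : R)) hN' x hx)
    exact mul_mem htc (hcy hc)
  rw [← le_centralizer_iff]
  exact normalClosure_le_normal fun x hx => le_centralizer_iff.mp hNle hx

/-- A subnormal subgroup of p-power index equal to its p-residual is the p-residual. -/
theorem pResidual_eq_of_subnormal_aux [Fact p.Prime] : ∀ (n : ℕ) (G : Type u) [Group G] [Finite G],
    Nat.card G ≤ n → ∀ B : Subgroup G, B.IsSubnormal → (∃ k, B.index ∣ p ^ k) →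
      pResidual p B = ⊤ → pResidual p G = B := by
  intro n
  induction n with
  | zero => intro G _ _ hn; exact absurd hn (by have := Nat.card_pos (α := G); omega)
  | succ n ih =>
    intro G _ _ hn B hB hidx hres
    have hle : B ≤ pResidual p G := by
      have := Fusion.pResidual_subgroup_le (p := p) B
      rwa [hres, ← MonoidHom.range_eq_map, range_subtype] at this
    by_cases htop : B = ⊤
    · exact le_antisymm (htop ▸ le_top) hle
    obtain ⟨K, hKn, hBK, hK⟩ := (hB.lt_normal).resolve_left htop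
    obtain ⟨k, hk⟩ := hidx
    have h1 : pResidual p G ≤ K :=
      Fusion.pResidual_le_of_quotient (IsPGroup.of_card_dvd_pow
        (n := k) (by rw [← index_eq_card]; exact (index_dvd_of_le hBK).trans hk))
    have hlt : Nat.card K < Nat.card G := by
      refine lt_of_le_of_ne (Nat.card_le_card_of_injective _ Subtype.val_injective) fun h => ?_
      exact hK.ne (eq_top_of_card_eq K h)
    have h2 := ih K (by omega) (B.subgroupOf K) hB.subgroupOf
      ⟨k, (relIndex_dvd_index_of_le hBK).trans hk⟩ (by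
        rw [← Fusion.map_pResidual_equiv (subgroupOfEquivOfLe hBK).symm, hres]
        exact Subgroup.map_top_of_surjective _ (subgroupOfEquivOfLe hBK).symm.surjective)
    refine le_antisymm (Fusion.pResidual_le.mpr fun g hg => ?_) hle
    have h3 := Fusion.mem_pResidual (p := p) (g := (⟨g, h1 (Fusion.mem_pResidual hg)⟩ : K))
      (by rwa [Subgroup.orderOf_mk])
    rw [h2] at h3
    exact h3

theorem pResidual_eq_of_subnormal [Finite G] [Fact p.Prime] {B : Subgroup G} (hB : B.IsSubnormal)
    (hidx : ∃ k, B.index ∣ p ^ k) (hres : pResidual p B = ⊤) : pResidual p G = B :=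
  pResidual_eq_of_subnormal_aux (Nat.card G) G le_rfl B hB hidx hres

/-- A subnormal p-subgroup normalizes a subnormal subgroup equal to its p-residual. -/
theorem normalizes_of_subnormal [Finite G] [Fact p.Prime] {A B : Subgroup G}
    (hA : A.IsSubnormal) (hB : B.IsSubnormal) (hAp : IsPGroup p A)
    (hres : (pResidual p B).map B.subtype = B) :
    A ≤ normalizer (B : Set G) ∧ (pResidual p ↥(A ⊔ B)).map (A ⊔ B).subtype = B := by
  set Q := Cfsg.pCore p G with hQ
  have hAQ : A ≤ Q := Cores.le_pCore_of_isSubnormal hA hAp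
  set L := B ⊔ Q with hL
  have hBL : B ≤ L := le_sup_left
  obtain ⟨k, hk⟩ := IsPGroup.iff_card.mp (Cores.pCore_isPGroup (p := p) (G := G))
  have hres' : pResidual p B = ⊤ := by
    apply map_injective B.subtype_injective
    rw [hres, ← MonoidHom.range_eq_map, range_subtype]
  have hidx : (B.subgroupOf L).index ∣ p ^ k := by
    have h1 := Cores.card_sup_mul_card_inf B Q
    have h2 := (B.subgroupOf L).card_mul_index
    rw [Nat.card_congr (subgroupOfEquivOfLe hBL).toEquiv] at h2
    refine ⟨Nat.card ↥(B ⊓ Q), ?_⟩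
    rw [← hL, ← h2, mul_assoc] at h1
    rw [← hk]
    exact (Nat.eq_of_mul_eq_mul_left Nat.card_pos h1).symm
  have key : pResidual p L = B.subgroupOf L :=
    pResidual_eq_of_subnormal hB.subgroupOf ⟨k, hidx⟩ (by
      rw [← Fusion.map_pResidual_equiv (subgroupOfEquivOfLe hBL).symm, hres']
      exact Subgroup.map_top_of_surjective _ (subgroupOfEquivOfLe hBL).symm.surjective)
  have hn : (B.subgroupOf L).Normal := key ▸ inferInstance
  have hAL : A ≤ L := hAQ.trans le_sup_right
  refine ⟨hAL.trans ((normal_subgroupOf_iff_le_normalizer hBL).mp hn), le_antisymm ?_ ?_⟩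
  · rintro _ ⟨x, hx, rfl⟩
    have h := Fusion.map_pResidual_le (p := p) (inclusion (sup_le hAL hBL)) (mem_map_of_mem _ hx)
    rw [key] at h
    exact h
  · conv_lhs => rw [← hres]
    rintro _ ⟨x, hx, rfl⟩
    exact ⟨_, Fusion.map_pResidual_le (inclusion (le_sup_right : B ≤ A ⊔ B)) (mem_map_of_mem _ hx), rfl⟩

end Cfsg.Agent.H59
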