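import Cfsg.Prelude.Def_LocalEven
import Cfsg.Agent.Fusion.Alperin
import Cfsg.Agent.Fusion.PResidual
import Cfsg.Agent.H59.PReduced
import Cfsg.Agent.H61.CharP

/-!
# A strongly closed abelian subgroup controls strong fusion
-/

set_option autoImplicit false

namespace Cfsg.Agent.H59

open Subgroup

universe u

variable {G : Type u} [Group G] [Finite G] {p : ℕ} [Fact p.Prime]

/-- The right-conjugation by `g` on the set `A0` is induced by an element normalizing `A`. -/
def Induced (A : Subgroup G) (A0 : Set G) (g : G) : Prop :=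
  ∃ t ∈ normalizer (A : Set G), ∀ a ∈ A0, g⁻¹ * a * g = t⁻¹ * a * t

theorem induced_of_conn (S : Sylow p G) (A : Subgroup G) {A0 : Set G} {g : G}
    (h : Fusion.Conn S A0 g)
    (key : ∀ Q : Sylow p G, Fusion.IsTame S Q →
      Nat.card A0 ≤ Nat.card ↥((S : Subgroup G) ⊓ (Q : Subgroup G)) →
      ∀ x ∈ normalizer ((((S : Subgroup G) ⊓ (Q : Subgroup G)) : Subgroup G) : Set G),
        Induced A (((S : Subgroup G) ⊓ (Q : Subgroup G) : Subgroup G) : Set G) x) :
    Induced A A0 g := by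
  induction h with
  | refl A0 => exact ⟨1, one_mem _, fun a _ => rfl⟩
  | step A0 g x Q hQ hA hx _ ih =>
    have hc : Nat.card A0 ≤ Nat.card ↥((S : Subgroup G) ⊓ (Q : Subgroup G)) :=
      Nat.card_le_card_of_injective (Set.inclusion hA) (Set.inclusion_injective hA)
    obtain ⟨t, ht, h1⟩ := key Q hQ hc x hx
    have hcard : Nat.card ↥((fun a => x⁻¹ * a * x) '' A0) = Nat.card A0 :=
      Nat.card_image_of_injective (fun a b h => by simpa using h) A0
    obtain ⟨s, hs, h2⟩ := ih fun Q' h3 h4 => key Q' h3 (hcard ▸ h4)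
    refine ⟨t * s, mul_mem ht hs, fun a ha => ?_⟩
    calc (x * g)⁻¹ * a * (x * g) = g⁻¹ * (x⁻¹ * a * x) * g := by group
      _ = s⁻¹ * (x⁻¹ * a * x) * s := h2 _ ⟨a, ha, rfl⟩
      _ = (t * s)⁻¹ * a * (t * s) := by rw [h1 a (hA ha)]; group

theorem induced_tame (S : Sylow p G) (A : Subgroup G) (hA : IsMulCommutative A)
    (hsc : Cfsg.IsStronglyClosed A (S : Subgroup G)) : ∀ (n : ℕ) (Q : Sylow p G),
    Fusion.IsTame S Q → Nat.card G < Nat.card ↥((S : Subgroup G) ⊓ (Q : Subgroup G)) + n →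
      ∀ x ∈ normalizer ((((S : Subgroup G) ⊓ (Q : Subgroup G)) : Subgroup G) : Set G),
        Induced A (((S : Subgroup G) ⊓ (Q : Subgroup G) : Subgroup G) : Set G) x := by
  intro n
  induction n with
  | zero =>
    intro Q _ h
    exact absurd h (not_lt.mpr (Nat.card_le_card_of_injective _ Subtype.val_injective))
  | succ n ih =>
    intro Q hQ hn x hx
    set H : Subgroup G := (S : Subgroup G) ⊓ (Q : Subgroup G) with hH
    have hHS : H ≤ S := inf_le_left
    set N := normalizer (H : Set G) with hN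
    by_cases hAH : A ≤ H
    · refine ⟨x, mem_normalizer_of_forall fun a ha => ?_, fun a _ => rfl⟩
      exact hsc.2 a ha x (hHS ((mem_normalizer_iff.mp hx a).mp (hAH ha)))
    have hSA : (S : Subgroup G) ≤ normalizer (A : Set G) := fun s hs =>
      mem_normalizer_of_forall fun a ha =>
        hsc.2 a ha s (mul_mem (mul_mem hs (hsc.1 ha)) (inv_mem hs))
    have hcl : ∀ g ∈ N, ∀ a ∈ A, a ∈ H → g * a * g⁻¹ ∈ A ∧ g * a * g⁻¹ ∈ H := fun g hg a ha haH =>
      have h1 := (mem_normalizer_iff.mp hg a).mp haH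
      ⟨hsc.2 a ha g (hHS h1), h1⟩
    -- the stabilizer of the series `H ≥ A ⊓ H ≥ 1`
    let M : Subgroup G :=
      { carrier := {g | g ∈ N ∧ (∀ a ∈ A, a ∈ H → g * a * g⁻¹ = a) ∧
          ∀ h ∈ H, g * h * g⁻¹ * h⁻¹ ∈ A}
        one_mem' := ⟨one_mem _, fun a _ _ => by group, fun h _ => by simp [one_mem]⟩
        mul_mem' := by
          rintro g g' ⟨hg, hga, hgh⟩ ⟨hg', hga', hgh'⟩
          refine ⟨mul_mem hg hg', fun a ha haH => ?_, fun h hh => ?_⟩
          · rw [show g * g' * a * (g * g')⁻¹ = g * (g' * a * g'⁻¹) * g⁻¹ by group, hga' a ha haH,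
              hga a ha haH]
          · have h1 := (mem_normalizer_iff.mp hg' h).mp hh
            have h2 := hgh' h hh
            rw [show g * g' * h * (g * g')⁻¹ * h⁻¹ =
              (g * (g' * h * g'⁻¹) * g⁻¹ * (g' * h * g'⁻¹)⁻¹) * (g' * h * g'⁻¹ * h⁻¹) by group]
            exact mul_mem (hgh _ h1) h2
        inv_mem' := by
          rintro g ⟨hg, hga, hgh⟩
          refine ⟨inv_mem hg, fun a ha haH => ?_, fun h hh => ?_⟩
          · conv_lhs => rw [← hga a ha haH]
            group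
          · have h1 := (mem_normalizer_iff.mp (inv_mem hg) h).mp hh
            have h2 := inv_mem (hgh _ h1)
            convert h2 using 1
            group }
    have hMN : M ≤ N := fun g hg => hg.1
    have hMn : (M.subgroupOf N).Normal := ⟨by
      rintro ⟨m, hm⟩ ⟨-, hma, hmh⟩ ⟨g, hg⟩
      refine ⟨mul_mem (mul_mem hg hm) (inv_mem hg), fun a ha haH => ?_, fun h hh => ?_⟩
      · obtain ⟨h1, h2⟩ := hcl _ (inv_mem hg) a ha haH
        have h3 : m * (g⁻¹ * a * g⁻¹⁻¹) * m⁻¹ = g⁻¹ * a * g⁻¹⁻¹ := hma _ h1 h2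
        change g * m * g⁻¹ * a * (g * m * g⁻¹)⁻¹ = a
        rw [show g * m * g⁻¹ * a * (g * m * g⁻¹)⁻¹ = g * (m * (g⁻¹ * a * g⁻¹⁻¹) * m⁻¹) * g⁻¹ by
          group, h3]
        group
      · have h1 := (mem_normalizer_iff.mp (inv_mem hg) h).mp hh
        have h2 : m * (g⁻¹ * h * g⁻¹⁻¹) * m⁻¹ * (g⁻¹ * h * g⁻¹⁻¹)⁻¹ ∈ A := hmh _ h1
        have h3 : m * (g⁻¹ * h * g⁻¹⁻¹) * m⁻¹ * (g⁻¹ * h * g⁻¹⁻¹)⁻¹ ∈ H :=
          mul_mem ((mem_normalizer_iff.mp hm _).mp h1) (inv_mem h1)
        change g * m * g⁻¹ * h * (g * m * g⁻¹)⁻¹ * h⁻¹ ∈ A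
        convert (hcl g hg _ h2 h3).1 using 1
        group⟩
    have hAN : A ⊓ N ≤ M := by
      rintro a ⟨ha, haN⟩
      refine ⟨haN, fun b hb _ => ?_, fun h hh => ?_⟩
      · exact mul_inv_eq_iff_eq_mul.mpr
          (congrArg Subtype.val (hA.is_comm.comm (⟨a, ha⟩ : A) ⟨b, hb⟩))
      · rw [show a * h * a⁻¹ * h⁻¹ = a * (h * a⁻¹ * h⁻¹) by group]
        exact mul_mem ha ((mem_normalizer_iff.mp (hSA (hHS hh)) _).mp (inv_mem ha))
    -- elements of `M` of order prime to `p` centralize `H`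
    have hMC : ∀ g ∈ M, (orderOf g).Coprime p → g ∈ centralizer (H : Set G) := by
      intro g hg hgp h hh
      have h1 : g * h * g⁻¹ * h⁻¹ ∈ H :=
        mul_mem ((mem_normalizer_iff.mp hg.1 h).mp hh) (inv_mem hh)
      refine (H61.commute_of_comm_mem (S.isPGroup'.to_le hHS) hgp h1 ?_).symm
      exact mul_inv_eq_iff_eq_mul.mp (hg.2.1 _ (hg.2.2 h hh) h1)
    let U : Subgroup N := ((S : Subgroup G) ⊓ N).subgroupOf N
    let P : Sylow p N := ((S.isPGroup'.to_le inf_le_left).comap_subtype (K := N)).toSylow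
      (show ¬ p ∣ U.index from hQ.1)
    obtain ⟨PM, hPM⟩ := exists_sylow_eq_inf P (C := M.subgroupOf N) le_normalizer_of_normal
    have hfr := Sylow.normalizer_sup_eq_top PM
    rw [hPM, subgroupOf_map_subtype, inf_of_le_left inf_le_right] at hfr
    have hUM : ∀ g : N, g ∈ ((P : Subgroup N) ⊓ M.subgroupOf N) ↔
        (g : G) ∈ (S : Subgroup G) ∧ (g : G) ∈ M := fun g =>
      ⟨fun h => ⟨h.1.1, h.2⟩, fun h => ⟨⟨h.1, g.2⟩, h.2⟩⟩
    have hx' : (⟨x, hx⟩ : N) ∈ (⊤ : Subgroup N) := mem_top _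
    rw [← hfr, sup_comm, ← SetLike.mem_coe, normal_mul] at hx'
    obtain ⟨m, hm, n0, hn0, hmn⟩ := hx'
    -- `m` is an element of `S ⊓ M` times an element centralizing `H`
    obtain ⟨c, hc, u, hu, hcu⟩ : ∃ c ∈ centralizer (H : Set G), ∃ u, u ∈ (S : Subgroup G) ⊓ M ∧
        (m : G) = c * u := by
      have hidx : ¬ p ∣ (((S : Subgroup G) ⊓ M).subgroupOf M).index := by
        have h1 := not_dvd_relIndex_inf P (C := M.subgroupOf N) le_normalizer_of_normal
        have e : (P : Subgroup N) ⊓ M.subgroupOf N = ((S : Subgroup G) ⊓ M).subgroupOf N := by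
          ext g; exact hUM g
        rw [e, relIndex_subgroupOf hMN] at h1
        exact h1
      have h2 : (⟨m, hm⟩ : M) ∈ pResidual p M ⊔ (((S : Subgroup G) ⊓ M).subgroupOf M) := by
        rw [sup_comm, Fusion.sup_pResidual_eq_top hidx]; trivial
      rw [← SetLike.mem_coe, normal_mul] at h2
      obtain ⟨c, hc, u, hu, hcu⟩ := h2
      refine ⟨c, ?_, u, hu, (congrArg Subtype.val hcu).symm⟩
      have : pResidual p M ≤ (centralizer (H : Set G)).comap M.subtype :=
        Fusion.pResidual_le.mpr fun g hg => hMC g g.2 (by rwa [Subgroup.orderOf_coe])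
      exact this hc
    -- the larger subgroup
    let H' : Subgroup G := H ⊔ (A ⊓ N)
    have hH'S : H' ≤ S := sup_le hHS (inf_le_left.trans hsc.1)
    have hlt : Nat.card H < Nat.card H' := by
      by_contra h
      have he : A ⊓ N ≤ H := by
        rw [eq_of_le_of_card_ge (le_sup_left : H ≤ H') (not_lt.mp h)]
        exact le_sup_right
      let K : Subgroup G := A ⊔ H
      have hKS : K ≤ S := sup_le hsc.1 hHS
      have h1 : H.subgroupOf K ≠ ⊤ := fun h' =>
        hAH (le_sup_left.trans (subgroupOf_eq_top.mp h'))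
      obtain ⟨k, hk, hkH⟩ :=
        SetLike.exists_of_lt (PGroups.lt_normalizer (S.isPGroup'.to_le hKS) h1)
      have hkK : (k : G) ∈ ((A ⊔ H : Subgroup G) : Set G) := k.2
      rw [coe_mul_of_right_le_normalizer_left A H (hHS.trans hSA)] at hkK
      obtain ⟨a, ha, h', hh', hak⟩ := hkK
      refine hkH (show (k : G) ∈ H from hak ▸ mul_mem (he ⟨ha, ?_⟩) hh')
      have hkN : (k : G) ∈ N := mem_normalizer_of_forall fun u hu =>
        (mem_normalizer_iff.mp hk ⟨u, (le_sup_right : H ≤ K) hu⟩).mp hu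
      have := mul_mem hkN (inv_mem (le_normalizer hh' : h' ∈ N))
      rwa [← hak, mul_inv_cancel_right] at this
    have hnor : ∀ g ∈ N, (∀ y, y ∈ (S : Subgroup G) → y ∈ M → g * y * g⁻¹ ∈ (S : Subgroup G)) →
        g ∈ normalizer (H' : Set G) := by
      intro g hg hgS
      rw [mem_normalizer_iff_map_conj_eq]
      refine eq_of_le_of_card_ge ?_ (card_map_of_injective (MulEquiv.injective _)).ge
      rw [Subgroup.map_sup]
      refine sup_le_sup ?_ ?_
      · rintro _ ⟨y, hy, rfl⟩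
        exact (mem_normalizer_iff.mp hg y).mp hy
      · rintro _ ⟨y, hy, rfl⟩
        exact ⟨hsc.2 y hy.1 g (hgS y (hsc.1 hy.1) (hAN hy)),
          (show g * y * g⁻¹ ∈ N from mul_mem (mul_mem hg hy.2) (inv_mem hg))⟩
    set w : G := u * n0 with hw
    have hwN : w ∈ N := mul_mem (hMN hu.2) n0.2
    have hwH' : w ∈ normalizer (H' : Set G) := by
      refine hnor w hwN fun y hy hyM => ?_
      have h1 : (n0 : G) * y * (n0 : G)⁻¹ ∈ (S : Subgroup G) := by
        have := (mem_normalizer_iff.mp hn0 (⟨y, hMN hyM⟩ : N)).mp ((hUM _).mpr ⟨hy, hyM⟩)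
        exact ((hUM _).mp this).1
      rw [hw, show u * n0 * y * (u * n0)⁻¹ = u * (n0 * y * (n0 : G)⁻¹) * u⁻¹ by group]
      exact mul_mem (mul_mem hu.1 h1) (inv_mem hu.1)
    have hP : Induced A (H' : Set G) w := by
      have himg : (fun a => w⁻¹ * a * w) '' (H' : Set G) ⊆ ((S : Subgroup G) : Set G) := by
        rintro _ ⟨a, ha, rfl⟩
        refine hH'S ?_
        have := (mem_normalizer_iff.mp (inv_mem hwH') a).mp ha
        simpa using this
      refine induced_of_conn S A (Fusion.alperin S hH'S himg) fun Q' hQ' hc' => ih Q' hQ' ?_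
      have : Nat.card H' ≤ Nat.card ↥((S : Subgroup G) ⊓ (Q' : Subgroup G)) := hc'
      omega
    obtain ⟨t, ht, hta⟩ := hP
    refine ⟨t, ht, fun h hh => ?_⟩
    have hxe : x = c * w := by
      rw [hw, ← mul_assoc, ← hcu, ← Subgroup.coe_mul]
      exact (congrArg Subtype.val hmn).symm
    rw [← hta h (mem_sup_left hh), hxe]
    have hch : c⁻¹ * h * c = h := by
      rw [mul_assoc, mem_centralizer_iff.mp hc h hh, inv_mul_cancel_left]
    calc (c * w)⁻¹ * h * (c * w) = w⁻¹ * (c⁻¹ * h * c) * w := by group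
      _ = w⁻¹ * h * w := by rw [hch]

/-- A strongly closed abelian subgroup controls strong fusion. -/
theorem controlsStrongFusion_of_stronglyClosed (S : Sylow p G) (A : Subgroup G)
    (hA : IsMulCommutative A) (hsc : Cfsg.IsStronglyClosed A (S : Subgroup G)) :
    Cfsg.ControlsStrongFusion p A := by
  refine ⟨S, hsc.1, fun A0 hA0 => ⟨hA0, fun g hg => ?_⟩⟩
  have hg' : (fun a => g⁻¹⁻¹ * a * g⁻¹) '' A0 ⊆ ((S : Subgroup G) : Set G) := by
    simpa using hg
  obtain ⟨t, ht, h⟩ := induced_of_conn S A (Fusion.alperin S hA0 hg') fun Q hQ _ =>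
    induced_tame S A hA hsc (Nat.card G + 1) Q hQ (by omega)
  exact ⟨t⁻¹, inv_mem ht, fun a ha => by simpa using h a ha⟩

end Cfsg.Agent.H59
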