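import Cfsg.Agent.H59.YoshidaWreath
import Cfsg.Agent.H90.Tate

/-!
# Yoshida's theorem for saturated fusion systems
-/

set_option autoImplicit false

namespace Cfsg.Agent.H59

open Cfsg Cfsg.FusionSystem MulAction
open scoped commutatorElement

universe u

variable {Ω : Type u} [Group Ω] {S : Subgroup Ω} {F : FusionSystem S} {p : ℕ}

/-- `[S, Aut_F(S)]`. -/
def topFocal (F : FusionSystem S) : Subgroup Ω :=
  Subgroup.closure {y : Ω | ∃ φ ∈ F.Hom S, ∃ x : S, y = (x : Ω)⁻¹ * φ x}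

theorem topFocal_le_normalizer [Finite S] {N : FusionSystem (normalizerIn S S)}
    (hN : F.IsNormalizerSystem S N) : topFocal F ≤ N.focalSubgroup := by
  refine (Subgroup.closure_le _).2 ?_
  rintro _ ⟨φ, hφ, x, rfl⟩
  refine Subgroup.subset_closure ⟨S, φ, x, ?_, rfl⟩
  rw [hN S]
  refine ⟨hφ, le_inf le_rfl Subgroup.le_normalizer,
    fun y => ⟨(F.le_of_mem hφ).2 y, Subgroup.le_normalizer ((F.le_of_mem hφ).2 y)⟩,
    H90.res φ (sup_le le_rfl le_rfl), H90.res_mem F hφ _, fun y => rfl, ?_⟩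
  have hr : φ.range = S := by
    refine H90.eq_of_le_card le_rfl (H90.range_le F hφ) ?_
    exact (Nat.card_congr (MonoidHom.ofInjective (F.injective_of_mem hφ)).toEquiv).le
  ext y
  constructor
  · rintro ⟨z, -, rfl⟩
    exact (F.le_of_mem hφ).2 _
  · intro hy
    obtain ⟨z, rfl⟩ := (hr.symm ▸ hy : y ∈ φ.range)
    exact ⟨⟨z, Subgroup.mem_sup_left z.2⟩, z.2, rfl⟩

/-- A map of `S` to the group of order `p` fixed by `Aut_F(S)` and not killing the focal subgroup. -/
theorem exists_hom_of_focal [Finite S] [hp : Fact p.Prime] (hS : IsPGroup p S)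
    (hF : F.IsSaturated p) (hne : ¬ F.focalSubgroup ≤ topFocal F) :
    ∃ μ : ↥S →* Multiplicative (ZMod p),
      (∀ φ, ∀ hφ : φ ∈ F.Hom S, ∀ x : S, μ ⟨φ x, (F.le_of_mem hφ).2 x⟩ = μ x) ∧
      ∃ x : S, (x : Ω) ∈ F.focalSubgroup ∧ μ x ≠ 1 := by
  by_contra hcon
  push Not at hcon
  apply hne
  set K := Subgroup.closure {y : Ω | ∃ (α : F.autGroup S) (x : S),
    α ∈ pResidual p (F.autGroup S) ∧ y = (x : Ω)⁻¹ * ((α : MulAut S) x : S)} with hK
  have hKS : K ≤ S := (Subgroup.closure_le _).2 (by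
    rintro _ ⟨α, x, -, rfl⟩
    exact S.mul_mem (S.inv_mem x.2) ((α : MulAut S) x).2)
  have hKh : K ≤ F.hyperfocalSubgroup p := (Subgroup.closure_le _).2 (by
    rintro _ ⟨α, x, hα, rfl⟩
    exact H90.mem_hyp F le_rfl hα x)
  have hKn : ∀ g ∈ S, ∀ y ∈ K, g * y * g⁻¹ ∈ K := by
    intro g hg
    suffices H : K ≤ K.comap (MulAut.conj g).toMonoidHom from fun y hy => H hy
    refine (Subgroup.closure_le _).2 ?_
    rintro _ ⟨α, x, hα, rfl⟩
    have h1 : (((x * ⟨g, hg⟩⁻¹ : S) : Ω))⁻¹ * ((α : MulAut S) (x * ⟨g, hg⟩⁻¹) : S) ∈ K :=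
      Subgroup.subset_closure ⟨α, _, hα, rfl⟩
    have h2 : (((⟨g, hg⟩⁻¹ : S) : Ω))⁻¹ * ((α : MulAut S) (⟨g, hg⟩⁻¹) : S) ∈ K :=
      Subgroup.subset_closure ⟨α, _, hα, rfl⟩
    have h3 := K.mul_mem h1 (K.inv_mem h2)
    show g * ((x : Ω)⁻¹ * ((α : MulAut S) x : S)) * g⁻¹ ∈ K
    convert h3 using 1
    simp [mul_assoc]
  have hKt : K ≤ topFocal F := (Subgroup.closure_le _).2 (by
    rintro _ ⟨α, x, -, rfl⟩
    exact Subgroup.subset_closure ⟨_, H90.hom_of_aut_mem F le_rfl α.2, x, rfl⟩)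
  have hCt : ⁅S, S⁆ ≤ topFocal F := by
    refine Subgroup.commutator_le.2 fun a ha b hb => Subgroup.subset_closure
      ⟨_, F.conj_mem le_rfl hb, ⟨a⁻¹, S.inv_mem ha⟩, ?_⟩
    simp [conjHom, commutatorElement_def, mul_assoc]
  have hΦ : ⁅S, S⁆ ≤ (frattini ↥S).map S.subtype := H90.commutator_le_frattini_map hS
  have htK : topFocal F ≤ (frattini ↥S).map S.subtype ⊔ K := by
    refine (Subgroup.closure_le _).2 ?_
    rintro _ ⟨φ, hφ, x, rfl⟩
    obtain ⟨T, hT⟩ := (H90.top_fullyAutomized hF).1.2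
    set a : F.autGroup S := ⟨_, H90.toAut_mem F hφ (F.le_of_mem hφ).2⟩ with ha
    have hmem : a ∈ pResidual p ↥(F.autGroup S) ⊔ (T : Subgroup ↥(F.autGroup S)) := by
      rw [H90.pResidual_sup_sylow T]; trivial
    rw [← SetLike.mem_coe, Subgroup.normal_mul, hT] at hmem
    obtain ⟨m, hm, c, hc, hmc⟩ := hmem
    obtain ⟨g, hg, hgc⟩ := (H90.mem_autInducedBy_iff le_rfl).1 (Subgroup.mem_subgroupOf.1 hc)
    set w := (c : MulAut S) x with hw
    have e : φ x = (((m : MulAut S) w : S) : Ω) := by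
      have h1 : ((a : MulAut S) x : Ω) = φ x := H90.toAut_coe F hφ _ x
      rw [← h1, ← hmc]; rfl
    show (x : Ω)⁻¹ * φ x ∈ _
    rw [e, show (x : Ω)⁻¹ * (((m : MulAut S) w : S) : Ω) =
      ((x : Ω)⁻¹ * (w : Ω)) * ((w : Ω)⁻¹ * (((m : MulAut S) w : S) : Ω)) by group]
    refine Subgroup.mul_mem _ (Subgroup.mem_sup_left (hΦ ?_))
      (Subgroup.mem_sup_right (Subgroup.subset_closure ⟨m, w, hm, rfl⟩))
    rw [hw, hgc, show (x : Ω)⁻¹ * (g * x * g⁻¹) = ⁅(x : Ω)⁻¹, g⁆ by rw [commutatorElement_def]; group]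
    exact Subgroup.commutator_mem_commutator (S.inv_mem x.2) hg
  set X : Subgroup S := frattini ↥S ⊔ (topFocal F).subgroupOf S with hX
  have hfocX : ∀ y : S, (y : Ω) ∈ F.focalSubgroup → y ∈ X := by
    intro y hy
    by_contra hyX
    haveI : X.Normal := Subgroup.Normal.of_commutator_le _ <|
      (PGroups.commutator_le_frattini hS).trans le_sup_left
    have hfr : frattini (↥S ⧸ X) = ⊥ := le_bot_iff.mp (PGroups.frattini_le_of_commutator_le (p := p) ⊥
      (by
        rw [commutator_def, Subgroup.commutator_le]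
        intro a _ b _
        obtain ⟨a, rfl⟩ := QuotientGroup.mk'_surjective X a
        obtain ⟨b, rfl⟩ := QuotientGroup.mk'_surjective X b
        rw [Subgroup.mem_bot, ← map_commutatorElement, QuotientGroup.mk'_apply, QuotientGroup.eq_one_iff]
        exact Subgroup.mem_sup_left (PGroups.commutator_le_frattini hS
          (Subgroup.commutator_mem_commutator trivial trivial)))
      fun a => by
        obtain ⟨a, rfl⟩ := QuotientGroup.mk'_surjective X a
        rw [Subgroup.mem_bot, ← map_pow, QuotientGroup.mk'_apply, QuotientGroup.eq_one_iff]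
        exact Subgroup.mem_sup_left (PGroups.pow_mem_frattini hS a))
    have hyb : QuotientGroup.mk' X y ∉ frattini (↥S ⧸ X) := by
      rw [hfr, Subgroup.mem_bot, QuotientGroup.mk'_apply, QuotientGroup.eq_one_iff]; exact hyX
    obtain ⟨M, hM, hyM⟩ : ∃ M : Subgroup (↥S ⧸ X), IsCoatom M ∧ QuotientGroup.mk' X y ∉ M := by
      by_contra hc
      push Not at hc
      refine hyb ?_
      change _ ∈ Order.radical (Subgroup (↥S ⧸ X))
      rw [Order.radical, Subgroup.mem_iInf]; intro M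
      rw [Subgroup.mem_iInf]; intro hM; exact hc M hM
    have hQ : IsPGroup p (↥S ⧸ X) := hS.to_quotient X
    haveI := PGroups.normal_of_isCoatom hQ hM
    have hcard : Nat.card ((↥S ⧸ X) ⧸ M) = p := by
      rw [← Subgroup.index_eq_card, PGroups.index_eq_of_isCoatom hQ hM]
    let e : (↥S ⧸ X) ⧸ M ≃* Multiplicative (ZMod p) := mulEquivOfPrimeCardEq (p := p) hcard (by simp)
    let μ : ↥S →* Multiplicative (ZMod p) :=
      e.toMonoidHom.comp ((QuotientGroup.mk' M).comp (QuotientGroup.mk' X))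
    have hμ : ∀ z ∈ X, μ z = 1 := fun z hz => by
      show e (QuotientGroup.mk' M (QuotientGroup.mk' X z)) = 1
      rw [show QuotientGroup.mk' X z = 1 from (QuotientGroup.eq_one_iff z).2 hz, map_one, map_one]
    refine hyM ((QuotientGroup.eq_one_iff _).1 (e.injective ((hcon μ (fun φ hφ x => ?_) y hy).trans
      e.map_one.symm)))
    have h1 : μ (x⁻¹ * ⟨φ x, (F.le_of_mem hφ).2 x⟩) = 1 :=
      hμ _ (Subgroup.mem_sup_right (Subgroup.subset_closure ⟨φ, hφ, x, rfl⟩))
    rwa [map_mul, map_inv, inv_mul_eq_one, eq_comm] at h1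
  have hle : F.focalSubgroup ≤ (frattini ↥S).map S.subtype ⊔ K := by
    intro y hy
    have h1 : y ∈ X.map S.subtype :=
      ⟨⟨y, H90.focal_le F hy⟩, hfocX ⟨y, H90.focal_le F hy⟩ hy, rfl⟩
    rw [hX, Subgroup.map_sup, Subgroup.subgroupOf_map_subtype] at h1
    exact sup_le (a := (frattini ↥S).map S.subtype) le_sup_left (inf_le_left.trans htK) h1
  have hh : F.hyperfocalSubgroup p = K :=
    H90.hyp_eq_of_le_sup hS hF hKn hKh ((H90.hyp_le_focal F p).trans hle)
  rw [H90.focal_eq hS hF, hh]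
  exact sup_le hKt hCt

open Classical in
theorem wreath_of_core_top {H : Type u} [Group H] [Finite H] [Fact p.Prime] (hH : IsPGroup p H) {R : Subgroup H}
    [R.Normal] (φ : R →* Multiplicative (ZMod p)) (x z : H) (hind : R.index = p)
    (hz : z ∉ R) (hx : x ∈ R) (hzp : z ^ p ∈ R)
    (hprod : (∏ i : Fin p, if h : (z ^ (i : ℕ))⁻¹ * x * z ^ (i : ℕ) ∈ R then φ ⟨_, h⟩ else 1) ≠ 1) :
    ∃ (P : Sylow p (Equiv.Perm (Fin (p ^ 2))))
      (f : H →* ↥(P : Subgroup (Equiv.Perm (Fin (p ^ 2))))), Function.Surjective f := by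
  obtain ⟨P, f, hf⟩ := wreath_of_core (S := (⊤ : Subgroup H)) (hH.to_subgroup ⊤) φ x z le_top
    (by rw [Subgroup.relIndex_top_right, hind]) Subgroup.le_normalizer_of_normal (Subgroup.mem_top z)
    hz hx hzp hprod
  refine ⟨P, f.comp (Subgroup.topEquiv (G := H)).symm.toMonoidHom, fun y => ?_⟩
  obtain ⟨s, rfl⟩ := hf y
  exact ⟨Subgroup.topEquiv s, congrArg f (Subgroup.topEquiv.symm_apply_apply s)⟩

/-- Yoshida's theorem for fusion systems. -/
theorem yoshida_fusion [Finite S] [hp : Fact p.Prime] (hS : IsPGroup p S) (hF : F.IsSaturated p)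
    (hne : ¬ F.focalSubgroup ≤ topFocal F) :
    ∃ (P : Sylow p (Equiv.Perm (Fin (p ^ 2))))
      (f : ↥S →* ↥(P : Subgroup (Equiv.Perm (Fin (p ^ 2))))), Function.Surjective f := by
  classical
  obtain ⟨μ, hμα, x₀, hx₀, hμx₀⟩ := exists_hom_of_focal hS hF hne
  let U : Set S := {y | (y : Ω) ∈ F.focalSubgroup ∧ μ y ≠ 1}
  obtain ⟨x, ⟨hxf, hμx⟩, hxmin⟩ :=
    Set.Finite.exists_minimalFor (fun y : S => orderOf y) U (Set.toFinite U) ⟨x₀, hx₀, hμx₀⟩
  obtain ⟨ι, hι, D, hD, hk, hstab⟩ := H90.exists_biset hS hF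
  choose φ hφ hφD using hD
  let P : ι → Subgroup ↥S := fun i => (H90.src (D i)).subgroupOf S
  let φ' : ∀ i, ↥(P i) →* ↥S := fun i =>
    ((φ i).comp ((S.subtype.comp (P i).subtype).codRestrict _ fun v => v.2)).codRestrict S
      fun v => (F.le_of_mem (hφ i)).2 _
  have hmem : ∀ i (v : ↥(P i)), ((v : ↥S), φ' i v) ∈ D i := by
    intro i v
    obtain ⟨k, hk', he⟩ : ((v : ↥S) : Ω) ∈ H90.src (D i) := v.2
    have h1 : k.1 = v := Subtype.ext he
    have h2 : k.2 = φ' i v :=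
      Subtype.ext ((hφD i k hk').symm.trans (congrArg (φ i) (Subtype.ext he)))
    have h3 : k = ((v : ↥S), φ' i v) := Prod.ext h1 h2
    rwa [← h3]
  have huniq : ∀ i (a b : ↥S), (a, b) ∈ D i → ∃ ha : a ∈ P i, b = φ' i ⟨a, ha⟩ :=
    fun i a b h => ⟨H90.fst_mem_src h, Subtype.ext (hφD i _ h).symm⟩
  -- the transfer
  let t : ↥S →* Multiplicative (ZMod p) := ∏ i, MonoidHom.transfer (μ.comp (φ' i))
  have ht : ∀ s, t s = ∏ i, MonoidHom.transfer (μ.comp (φ' i)) s :=
    fun s => MonoidHom.finsetProd_apply _ _ _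
  have hu : ∀ i (y : ↥S) (q : ↥S ⧸ P i), (y • q).out⁻¹ * y * q.out ∈ P i := by
    intro i y q
    rw [mul_assoc, ← QuotientGroup.eq, QuotientGroup.out_eq']
    conv_lhs => rw [← q.out_eq']
    rfl
  let lab : ∀ i, ↥S → ↥S ⧸ P i → ↥S := fun i y q => φ' i ⟨_, hu i y q⟩
  let Q := Σ i, ↥S ⧸ P i
  letI : ∀ i, Fintype (↥S ⧸ P i) := fun i => Subgroup.fintypeQuotientOfFiniteIndex
  have hC : ∀ y ∈ (⊤ : Subgroup ↥S), μ y ∈ Subgroup.center (Multiplicative (ZMod p)) :=
    fun y _ => Subgroup.mem_center_iff.2 fun g => mul_comm g _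
  let can : ∀ y : ↥S, H90.Monomial (X := H90.BiSet D) (⊤ : Subgroup ↥S) y Q := fun y =>
    { σ := fun q => ⟨q.1, QuotientGroup.mk (q.2.out, 1)⟩
      e := Equiv.sigmaCongrRight fun _ => MulAction.toPerm y
      l := fun q => (lab q.1 y q.2)⁻¹
      mem := fun _ => trivial
      unique := by
        rintro ⟨i, ω⟩
        induction ω using QuotientGroup.induction_on with
        | _ ab =>
          obtain ⟨a, b⟩ := ab
          have hv : (QuotientGroup.mk a : ↥S ⧸ P i).out⁻¹ * a ∈ P i :=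
            QuotientGroup.eq.1 (QuotientGroup.out_eq' _)
          refine ⟨(⟨i, QuotientGroup.mk a⟩, b * (φ' i ⟨_, hv⟩)⁻¹), ?_, ?_⟩
          · refine congrArg (Sigma.mk i) (QuotientGroup.eq.2 ?_)
            convert hmem i ⟨_, hv⟩ using 1
            simp
          · rintro ⟨⟨j, q⟩, s⟩ hy
            obtain ⟨rfl, h⟩ := Sigma.mk.inj hy
            have h' := QuotientGroup.eq.1 (eq_of_heq h)
            obtain ⟨ha, hb⟩ := huniq _ ((1 * q.out)⁻¹ * a) ((s * 1)⁻¹ * b) h'
            have hq : q = QuotientGroup.mk a := by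
              rw [← q.out_eq']
              exact QuotientGroup.eq.2 (by simpa using ha)
            subst hq
            refine Prod.ext rfl ?_
            simp only [one_mul, mul_one] at hb
            show s = b * (φ' j ⟨_, hv⟩)⁻¹
            rw [show (⟨_, hv⟩ : P j) = ⟨_, ha⟩ from Subtype.ext (by simp)]
            simp only [one_mul, ← hb]
            group
      step := fun q => by
        refine congrArg (Sigma.mk q.1) (QuotientGroup.eq.2 ?_)
        have h := (D q.1).inv_mem (hmem q.1 ⟨_, hu q.1 y q.2⟩)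
        convert h using 1
        refine Prod.ext ?_ ?_
        · show (y * q.2.out)⁻¹ * (1 * (y • q.2).out) = _
          simp [mul_assoc]
        · show ((1 : ↥S) * 1)⁻¹ * ((lab q.1 y q.2)⁻¹ * 1) = _
          simp [lab] }
  have hW : ∀ y : ↥S, (∏ q, (⟨μ ((can y).l q), hC _ ((can y).mem q)⟩ :
      ↥(Subgroup.center (Multiplicative (ZMod p))))).1 = (t y)⁻¹ := by
    intro y
    rw [← Subgroup.coe_subtype, map_prod]
    show ∏ q : Q, μ (lab q.1 y q.2)⁻¹ = _
    rw [Fintype.prod_sigma, ht, ← Finset.prod_inv_distrib]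
    refine Finset.prod_congr rfl fun i _ => ?_
    let T₀ : (P i).LeftTransversal :=
      ⟨Set.range (fun q : ↥S ⧸ P i => q.out), Subgroup.isComplement_range_left (fun q => q.out_eq')⟩
    rw [MonoidHom.transfer_def (μ.comp (φ' i)) T₀]
    simp only [Subgroup.leftTransversals.diff]
    rw [← Finset.prod_inv_distrib]
    refine Fintype.prod_equiv (MulAction.toPerm y) _ _ fun q => ?_
    rw [map_inv]
    refine congrArg _ (congrArg (μ.comp (φ' i)) (Subtype.ext ?_))
    show (y • q).out⁻¹ * y * q.out = _⁻¹ * _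
    rw [Subgroup.smul_apply_eq_smul_apply_inv_smul, MulAction.toPerm_apply, inv_smul_smul,
      smul_eq_mul, Subgroup.IsComplement.leftQuotientEquiv_apply (fun q : ↥S ⧸ P i => q.out_eq') q,
      Subgroup.IsComplement.leftQuotientEquiv_apply (fun q : ↥S ⧸ P i => q.out_eq') (y • q), mul_assoc]
  have hinv : ∀ (R : Subgroup Ω) (ψ : ↥R →* Ω) (hψ : ψ ∈ F.Hom R) (v : ↥R),
      t ⟨ψ v, (F.le_of_mem hψ).2 v⟩ = t ⟨v, H90.src_le F hψ v.2⟩ := by
    intro R ψ hψ v
    obtain ⟨θ₀, hθ₀⟩ := hstab R (H90.src_le F hψ) ψ hψ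
    have hone : ∀ (s : ↥S) (ω : H90.BiSet D), θ₀ (((1 : ↥S), s) • ω) = ((1 : ↥S), s) • θ₀ ω := by
      intro s ω
      have := hθ₀ 1 s ω
      simp only [map_one, OneMemClass.coe_one] at this
      exact this
    let m := can ⟨v, H90.src_le F hψ v.2⟩
    let m' : H90.Monomial (X := H90.BiSet D) (⊤ : Subgroup ↥S)
        (⟨ψ v, (F.le_of_mem hψ).2 v⟩ : ↥S) Q :=
      { σ := fun q => θ₀ (m.σ q)
        e := m.e
        l := m.l
        mem := m.mem
        unique := fun ω => by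
          obtain ⟨y, hy, hy'⟩ := m.unique (θ₀.symm ω)
          refine ⟨y, ?_, fun z hz => hy' z ?_⟩
          · show ((1 : ↥S), y.2) • θ₀ (m.σ y.1) = ω
            rw [← hone, hy, Equiv.apply_symm_apply]
          · show ((1 : ↥S), z.2) • m.σ z.1 = θ₀.symm ω
            rw [← hz, ← hone, Equiv.symm_apply_apply]
        step := fun q => by rw [← hθ₀, m.step, hone] }
    have h := congrArg Subtype.val (H90.monomial_prod_eq μ hC (can _) m')
    rw [hW] at h
    exact (inv_injective (h.trans (hW _))).symm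
  have ht0 : t x = 1 := by
    suffices H : F.focalSubgroup ≤ t.ker.map S.subtype by
      obtain ⟨y, hy, hyx⟩ := H hxf
      rwa [Subtype.ext hyx] at hy
    refine (Subgroup.closure_le _).2 ?_
    rintro _ ⟨R, ψ, v, hψ, rfl⟩
    refine ⟨(⟨v, H90.src_le F hψ v.2⟩ : S)⁻¹ * ⟨ψ v, (F.le_of_mem hψ).2 v⟩, ?_, rfl⟩
    show t _ = 1
    rw [map_mul, map_inv, hinv R ψ hψ v, inv_mul_cancel]
  -- closure of the focal subgroup under the maps of `F`
  have hfocmap : ∀ (R : Subgroup Ω) (ψ : ↥R →* Ω), ψ ∈ F.Hom R → ∀ v : ↥R,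
      (v : Ω) ∈ F.focalSubgroup → ψ v ∈ F.focalSubgroup := by
    intro R ψ hψ v hv
    have h1 : (v : Ω)⁻¹ * ψ v ∈ F.focalSubgroup := Subgroup.subset_closure ⟨R, ψ, v, hψ, rfl⟩
    simpa using F.focalSubgroup.mul_mem hv h1
  have hconj : ∀ (g y : ↥S), (y : Ω) ∈ F.focalSubgroup → ((g⁻¹ * y * g : ↥S) : Ω) ∈ F.focalSubgroup := by
    intro g y hy
    have h1 := hfocmap S _ (F.conj_mem le_rfl (S.inv_mem g.2)) y hy
    simpa [conjHom, mul_assoc] using h1
  have hsmall : ∀ i (g : ↥S) (n : ℕ) (y : ↥S) (h : g⁻¹ * y ^ n * g ∈ P i),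
      (y : Ω) ∈ F.focalSubgroup → orderOf y = orderOf x → n ∣ orderOf y → 1 < n →
      μ (φ' i ⟨_, h⟩) = 1 := by
    intro i g n y h hy hyo hn hn1
    by_contra hne'
    have hmemf : ((φ' i ⟨_, h⟩ : ↥S) : Ω) ∈ F.focalSubgroup := by
      refine hfocmap _ _ (hφ i) _ (hconj g (y ^ n) ?_)
      simpa using F.focalSubgroup.pow_mem hy n
    have hinj : Function.Injective (φ' i) := fun a b hab => by
      have h1 := F.injective_of_mem (hφ i) (congrArg Subtype.val hab)
      exact Subtype.ext (Subtype.ext (congrArg (fun z : H90.src (D i) => (z : Ω)) h1))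
    have ho : orderOf (φ' i ⟨_, h⟩) = orderOf (y ^ n) := by
      rw [orderOf_injective (φ' i) hinj, ← Subgroup.orderOf_coe]
      exact (MulAut.conj g⁻¹).orderOf_eq (y ^ n) |> fun e => by simpa using e
    have hlt : orderOf (φ' i ⟨_, h⟩) < orderOf x := by
      rw [ho, ← hyo, orderOf_pow_of_dvd (by omega) hn]
      exact Nat.div_lt_self (orderOf_pos y) hn1
    have h2 := hxmin (j := φ' i ⟨_, h⟩) ⟨hmemf, hne'⟩
      (show orderOf (φ' i ⟨_, h⟩) ≤ orderOf x from hlt.le)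
    simp only at h2
    omega
  have htop : ∀ i, P i = ⊤ → MonoidHom.transfer (μ.comp (φ' i)) x = μ x := by
    intro i hi
    have hsrc : S ≤ H90.src (D i) := Subgroup.subgroupOf_eq_top.1 hi
    haveI : Subsingleton (↥S ⧸ P i) := by rw [hi]; exact QuotientGroup.subsingleton_quotient_top
    have hxP : x ∈ P i := hi ▸ Subgroup.mem_top x
    rw [transfer_eq_prod_fixTerm (μ.comp (φ' i)) x
      fun g n h hn hn1 => hsmall i g n x h hxf rfl hn hn1,
      Fintype.prod_subsingleton _ (QuotientGroup.mk 1 : ↥S ⧸ P i), fixTerm_out, fixTerm,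
      dif_pos (by simpa using hxP)]
    have h1 := hμα _ (H90.res_mem F (hφ i) hsrc) x
    refine (congrArg μ (Subtype.ext ?_)).trans h1
    show φ i _ = φ i _
    exact congrArg (φ i) (Subtype.ext (by
      change (((1 : ↥S)⁻¹ * x * 1 : ↥S) : Ω) = _
      simp))
  have hbad : ∃ i, P i ≠ ⊤ ∧ MonoidHom.transfer (μ.comp (φ' i)) x ≠ 1 := by
    by_contra hcon
    push Not at hcon
    apply hk
    have h1 : ∀ i, MonoidHom.transfer (μ.comp (φ' i)) x = μ x ^ (P i).index := by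
      intro i
      by_cases hi : P i = ⊤
      · rw [htop i hi, hi, Subgroup.index_top, pow_one]
      · rw [hcon i hi]
        obtain ⟨n, hn⟩ := hS.index (P i)
        have hp1 : μ x ^ p = 1 := by
          have h := pow_card_eq_one' (G := Multiplicative (ZMod p)) (x := μ x)
          rwa [Nat.card_eq_fintype_card, Fintype.card_multiplicative, ZMod.card] at h
        rcases n with _ | n
        · exact absurd (Subgroup.index_eq_one.1 hn) hi
        · rw [hn, pow_succ', pow_mul, hp1, one_pow]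
    rw [ht, Finset.prod_congr rfl fun i _ => h1 i, Finset.prod_pow_eq_pow_sum] at ht0
    have h2 : orderOf (μ x) = p := orderOf_eq_prime
      (by
        have h := pow_card_eq_one' (G := Multiplicative (ZMod p)) (x := μ x)
        rwa [Nat.card_eq_fintype_card, Fintype.card_multiplicative, ZMod.card] at h) hμx
    exact h2 ▸ orderOf_dvd_of_pow_eq_one ht0
  obtain ⟨i, hiP, hiV⟩ := hbad
  obtain ⟨R, hR, hPR⟩ := (eq_top_or_exists_le_coatom (P i)).resolve_left hiP
  haveI := PGroups.normal_of_isCoatom hS hR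
  have hind : R.index = p := PGroups.index_eq_of_isCoatom hS hR
  obtain ⟨z, hz⟩ : ∃ z, z ∉ R := by
    by_contra hc
    push Not at hc
    exact hR.1 (eq_top_iff.2 fun y _ => hc y)
  rw [transfer_eq_prod_fixTerm (μ.comp (φ' i)) x
    fun g n h hn hn1 => hsmall i g n x h hxf rfl hn hn1] at hiV
  have hxR : x ∈ R := by
    obtain ⟨q, -, hq⟩ := Finset.exists_ne_one_of_prod_ne_one hiV
    have h1 : q.out⁻¹ * x * q.out ∈ P i := by
      by_contra hc
      exact hq (dif_neg hc)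
    have h2 := (inferInstance : R.Normal).conj_mem _ (hPR h1) q.out
    simpa [mul_assoc] using h2
  have hzp : z ^ p ∈ R := hind ▸ R.pow_index_mem z
  haveI : Fintype (↥R ⧸ (P i).subgroupOf R) := Fintype.ofFinite _
  let τ : (P i).subgroupOf R →* Multiplicative (ZMod p) :=
    { toFun := fun r => μ (φ' i ⟨(r : R), r.2⟩)
      map_one' := by
        rw [show (⟨((1 : (P i).subgroupOf R) : R), (1 : (P i).subgroupOf R).2⟩ : P i) = 1 from rfl,
          map_one, map_one]
      map_mul' := fun a b => by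
        rw [show (⟨((a * b : (P i).subgroupOf R) : R), (a * b : (P i).subgroupOf R).2⟩ : P i) =
          ⟨(a : R), a.2⟩ * ⟨(b : R), b.2⟩ from rfl, map_mul, map_mul] }
  have hy : ∀ j : ℕ, (z ^ j)⁻¹ * x * z ^ j ∈ R := fun j => by
    simpa using (inferInstance : R.Normal).conj_mem x hxR (z ^ j)⁻¹
  have hterm : ∀ (j : Fin p), (if h : (z ^ (j : ℕ))⁻¹ * x * z ^ (j : ℕ) ∈ R then
      MonoidHom.transfer τ ⟨_, h⟩ else 1) =
      ∏ c : ↥R ⧸ (P i).subgroupOf R, fixTerm (μ.comp (φ' i)) x (z ^ (j : ℕ) * (c.out : S)) := by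
    intro j
    rw [dif_pos (hy j), transfer_eq_prod_fixTerm]
    · refine Finset.prod_congr rfl fun c _ => ?_
      have e : (z ^ (j : ℕ) * (c.out : S))⁻¹ * x * (z ^ (j : ℕ) * (c.out : S)) =
          (c.out : S)⁻¹ * ((z ^ (j : ℕ))⁻¹ * x * z ^ (j : ℕ)) * c.out := by group
      by_cases hc : c.out⁻¹ * (⟨_, hy j⟩ : R) * c.out ∈ (P i).subgroupOf R
      · have hc' : (c.out : S)⁻¹ * ((z ^ (j : ℕ))⁻¹ * x * z ^ (j : ℕ)) * c.out ∈ P i := hc
        rw [fixTerm, fixTerm, dif_pos hc, dif_pos (e ▸ hc')]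
        exact congrArg (μ.comp (φ' i)) (Subtype.ext e.symm)
      · rw [fixTerm, fixTerm, dif_neg hc, dif_neg]
        intro h'
        exact hc (show (c.out : S)⁻¹ * ((z ^ (j : ℕ))⁻¹ * x * z ^ (j : ℕ)) * c.out ∈ P i from e ▸ h')
    · intro a n h hn hn1
      have hyf : (((z ^ (j : ℕ))⁻¹ * x * z ^ (j : ℕ) : ↥S) : Ω) ∈ F.focalSubgroup :=
        hconj (z ^ (j : ℕ)) x hxf
      have hordy : orderOf ((z ^ (j : ℕ))⁻¹ * x * z ^ (j : ℕ)) = orderOf x := by
        have h1 : orderOf ((z ^ (j : ℕ))⁻¹ * x * ((z ^ (j : ℕ))⁻¹)⁻¹) = orderOf x :=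
          (MulAut.conj (z ^ (j : ℕ))⁻¹).orderOf_eq x
        simpa using h1
      have h1 := hsmall i (a : S) n _ (show (a : S)⁻¹ * ((z ^ (j : ℕ))⁻¹ * x * z ^ (j : ℕ)) ^ n * a ∈ P i
        from h) hyf hordy (by rw [← Subgroup.orderOf_coe] at hn; exact hn) hn1
      exact h1
  refine wreath_of_core_top hS (MonoidHom.transfer τ) x z hind hz hxR hzp ?_
  rw [Finset.prod_congr rfl fun j _ => hterm j, ← Fintype.prod_prod_type']
  refine ne_of_eq_of_ne ?_ hiV
  refine Fintype.prod_bijective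
    (fun q : Fin p × (↥R ⧸ (P i).subgroupOf R) =>
      (QuotientGroup.mk (z ^ (q.1 : ℕ) * (q.2.out : S)) : ↥S ⧸ P i)) ?_ _ _
    (fun q => (fixTerm_out _ _ _).symm)
  refine (Nat.bijective_iff_injective_and_card _).2 ⟨?_, ?_⟩
  · rintro ⟨j, c⟩ ⟨k, d⟩ he
    have h1 : (z ^ (j : ℕ) * (c.out : S))⁻¹ * (z ^ (k : ℕ) * (d.out : S)) ∈ P i := QuotientGroup.eq.1 he
    have h3 : (z ^ (j : ℕ))⁻¹ * z ^ (k : ℕ) ∈ R := by
      have h2 := R.mul_mem (R.mul_mem c.out.2 (hPR h1)) (R.inv_mem d.out.2)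
      simpa [mul_assoc] using h2
    have hjk : j = k := by
      have h4 : (QuotientGroup.mk' R z) ^ (j : ℕ) = (QuotientGroup.mk' R z) ^ (k : ℕ) := by
        rw [← map_pow, ← map_pow]; exact QuotientGroup.eq.2 h3
      have hoz : orderOf (QuotientGroup.mk' R z) = p := orderOf_eq_prime
        (by rw [← map_pow]; exact (QuotientGroup.eq_one_iff _).2 hzp)
        (fun e => hz ((QuotientGroup.eq_one_iff _).1 e))
      exact Fin.ext (pow_injOn_Iio_orderOf (by rw [hoz]; exact j.2) (by rw [hoz]; exact k.2) h4)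
    subst hjk
    refine Prod.ext rfl ?_
    rw [← QuotientGroup.out_eq' c, ← QuotientGroup.out_eq' d]
    refine QuotientGroup.eq.mpr (show (c.out : S)⁻¹ * d.out ∈ P i from ?_)
    simpa [mul_assoc] using h1
  · rw [Nat.card_prod, Nat.card_fin, ← Subgroup.index_eq_card, ← Subgroup.index_eq_card,
      ← Subgroup.relIndex_mul_index hPR, hind, mul_comm]
    rfl
end Cfsg.Agent.H59
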