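import Cfsg.Agent.Compute.MatRep
import Cfsg.Agent.H45.SuzJ416
import Cfsg.Agent.H45.SuzJ280
import Cfsg.Agent.H45.SuzJ2160
import Cfsg.Agent.H59.SuzG2Data

/-!
Kernel checks: six involutory matrices generate `G₂(4)` and satisfy the relations of the subgroup
`⟨a, …, f⟩` of the presented Suzuki group.
-/

set_option autoImplicit false
set_option maxRecDepth 100000
set_option Elab.async false

namespace Cfsg.Agent.H59.SuzG2Checks

open Cfsg.Agent.Compute SuzG2Data

/-- packed operations -/
noncomputable def o : Ops ℕ := matOps 5 28 2

/-- value of a word -/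
noncomputable def evM (g : List ℕ) (w : List ℕ) : ℕ :=
  List.rec o.one (fun l _ ih => o.mul (nth o.one g l) ih) w

theorem gens_ok : lall gens (fun a => o.okInv a a) = true := by decide +kernel

/-- a relator holds -/
noncomputable def relOK (w : List ℕ) : Bool := o.eqv (evM gens w) o.one

theorem rel416 : lall Cfsg.Agent.H45.SuzJ416.relWords relOK = true := by decide +kernel

theorem rel280 : lall Cfsg.Agent.H45.SuzJ280.relWords relOK = true := by decide +kernel

theorem rel2160 : lall Cfsg.Agent.H45.SuzJ2160.relWords relOK = true := by decide +kernel

theorem roots_ok : lall roots (fun a => o.okInv a a) = true := by decide +kernel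

theorem seeds_ok : lall seeds (fun p => o.eqv (evM gens p.2) (nth o.one roots p.1)) = true := by
  decide +kernel

/-- conjugation steps certified -/
noncomputable def stepsOK : List (ℕ × ℕ × ℕ) → List ℕ → Bool :=
  fun st => List.rec (fun known => allN 12 fun r =>
      decide (3 * r ∈ known) && decide (3 * r + 1 ∈ known))
    (fun p _ ih known => decide (p.2.2 ∈ known) &&
      (o.eqv (o.mul (evM roots (nth [] weyl p.2.1)) (o.mul (nth o.one roots p.2.2)
          (evM roots (nth [] weyl p.2.1)))) (nth o.one roots p.1) &&
        ih (p.1 :: known))) st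

theorem steps_ok : stepsOK steps (seeds.map (·.1)) = true := by decide +kernel

theorem weyl_known : lall weyl (fun w => lall w fun x => decide (x ∈ seeds.map (·.1))) = true := by
  decide +kernel

theorem third_ok : allN 12 (fun r => o.eqv (o.mul (nth o.one roots (3 * r)) (nth o.one roots (3 * r + 1)))
    (nth o.one roots (3 * r + 2))) = true := by decide +kernel

end Cfsg.Agent.H59.SuzG2Checks
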