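import Cfsg.Agent.H44.GF4

/-! A computable field with four elements. -/

set_option autoImplicit false

namespace Cfsg.Agent.H59.HeSp4

open Cfsg.Agent.H44

/-- The field with four elements. -/
def F4 : Type := K4

instance : DecidableEq F4 := inferInstanceAs (DecidableEq K4)
instance : Fintype F4 := inferInstanceAs (Fintype K4)
instance : Zero F4 := ⟨((0, 0) : K4)⟩
instance : One F4 := ⟨((1, 0) : K4)⟩
instance : Add F4 := ⟨fun x y => ((x.1 + y.1, x.2 + y.2) : K4)⟩
instance : Neg F4 := ⟨fun x => x⟩
instance : Mul F4 := ⟨fun x y => (k4mul x y : K4)⟩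
instance : Inv F4 := ⟨fun x => (k4mul x x : K4)⟩

instance : CommRing F4 :=
  CommRing.ofMinimalAxioms (show ∀ a b c : F4, a + b + c = a + (b + c) by decide)
    (show ∀ a : F4, 0 + a = a by decide) (show ∀ a : F4, -a + a = 0 by decide)
    (show ∀ a b c : F4, a * b * c = a * (b * c) by decide)
    (show ∀ a b : F4, a * b = b * a by decide) (show ∀ a : F4, 1 * a = a by decide)
    (show ∀ a b c : F4, a * (b + c) = a * b + a * c by decide)

instance : Field F4 :=
  { (inferInstance : CommRing F4) with
    inv := fun x => x⁻¹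
    exists_pair_ne := ⟨0, 1, by decide⟩
    mul_inv_cancel := show ∀ a : F4, a ≠ 0 → a * a⁻¹ = 1 by decide
    inv_zero := show (0 : F4)⁻¹ = 0 by decide
    nnqsmul := _
    qsmul := _ }

theorem card_F4 : Fintype.card F4 = 4 := by decide

end Cfsg.Agent.H59.HeSp4
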