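import Cfsg.Agent.Compute.MatRep
import Cfsg.Agent.H59.SuzG2Data
import Cfsg.Agent.H59.F4
import Cfsg.Prelude.Def_ChevG2

/-!
The root matrices of `G₂(4)` as binary matrices.
-/

set_option autoImplicit false
set_option maxRecDepth 100000
set_option Elab.async false

namespace Cfsg.Agent.H59.SuzG2Mat

open Cfsg.Agent.Compute SuzG2Data Cfsg.Agent.H59.HeSp4

/-- packed operations -/
noncomputable def o : Ops ℕ := matOps 5 28 2

/-- block of the regular representation -/
def blk (x : F4) : Matrix (Fin 2) (Fin 2) (ZMod 2) := !![x.1, x.2; x.2, x.1 + x.2]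

theorem blk_hom : blk 1 = 1 ∧ blk 0 = 0 ∧ (∀ x y : F4, blk (x * y) = blk x * blk y) ∧
    ∀ x y : F4, blk (x + y) = blk x + blk y := by decide +kernel

/-- the regular representation -/
def blkHom : F4 →+* Matrix (Fin 2) (Fin 2) (ZMod 2) where
  toFun := blk
  map_one' := blk_hom.1
  map_mul' := blk_hom.2.2.1
  map_zero' := blk_hom.2.1
  map_add' := blk_hom.2.2.2

/-- coordinates -/
abbrev Idx : Type := Fin 2 ⊕ Fin 12

/-- numbering of the block indices -/
def idx28 : Idx × Fin 2 ≃ Fin 28 :=
  (Equiv.prodCongr (finSumFinEquiv : Fin 2 ⊕ Fin 12 ≃ Fin 14) (Equiv.refl _)).trans finProdFinEquiv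

/-- binary blocks of a matrix, as a function -/
def iotaFun (M : Matrix Idx Idx F4) : Matrix (Fin 28) (Fin 28) (ZMod 2) :=
  fun p q => blk (M (idx28.symm p).1 (idx28.symm q).1) (idx28.symm p).2 (idx28.symm q).2

theorem iotaFun_one : iotaFun 1 = 1 := by
  ext p q
  show blk ((1 : Matrix Idx Idx F4) _ _) _ _ = _
  by_cases h : p = q
  · subst h
    rw [Matrix.one_apply_eq, Matrix.one_apply_eq, blk_hom.1, Matrix.one_apply_eq]
  · rw [Matrix.one_apply_ne h, Matrix.one_apply]
    split_ifs with h1
    · rw [blk_hom.1]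
      exact Matrix.one_apply_ne fun h2 => h (idx28.symm.injective (Prod.ext h1 h2))
    · rw [blk_hom.2.1]; rfl

theorem iotaFun_mul (M N : Matrix Idx Idx F4) : iotaFun (M * N) = iotaFun M * iotaFun N := by
  ext p q
  rw [Matrix.mul_apply]
  show blkHom ((M * N) _ _) _ _ = _
  rw [Matrix.mul_apply, map_sum, Matrix.sum_apply,
    ← Equiv.sum_comp idx28 (fun k => iotaFun M p k * iotaFun N k q), Fintype.sum_prod_type]
  refine Finset.sum_congr rfl fun k _ => ?_
  rw [map_mul, Matrix.mul_apply]
  refine Finset.sum_congr rfl fun c _ => ?_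
  simp only [iotaFun, Equiv.symm_apply_apply]
  rfl

/-- binary blocks of a matrix over `F4` -/
def iota : Matrix Idx Idx F4 →* Matrix (Fin 28) (Fin 28) (ZMod 2) where
  toFun := iotaFun
  map_one' := iotaFun_one
  map_mul' := iotaFun_mul

/-- the three nonzero scalars -/
def scal (t : Fin 3) : F4 := (((((t : ℕ) + 1) % 2 : ℕ) : ZMod 2), ((((t : ℕ) + 1) / 2 : ℕ) : ZMod 2))

/-- a root matrix -/
def xM (r : Fin 12) (t : F4) : Matrix Idx Idx F4 := Cfsg.Lie.chevG2.xMat F4 r t

/-- decidability of one entry comparison -/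
def entryOK (r : Fin 12) (a b : Idx) : Bool := decide (xM r 0 a b = if a = b then 1 else 0)

theorem x_zero_check : ∀ r : Fin 12, ((List.finRange 28).all fun p => (List.finRange 28).all fun q =>
    entryOK r (idx28.symm p).1 (idx28.symm q).1) = true := by decide +kernel

theorem x_zero (r : Fin 12) : xM r 0 = 1 := by
  ext a b
  have h := List.all_eq_true.mp (List.all_eq_true.mp (x_zero_check r) (idx28 (a, 0))
    (List.mem_finRange _)) (idx28 (b, 0)) (List.mem_finRange _)
  rw [Equiv.symm_apply_apply, Equiv.symm_apply_apply] at h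
  rw [Matrix.one_apply]
  exact of_decide_eq_true h

/-- a root matrix agrees with its packed form -/
noncomputable def xOK (r : Fin 12) (t : Fin 3) : Bool :=
  (List.finRange 28).all fun p => (List.finRange 28).all fun q =>
    decide (blk (xM r (scal t) (idx28.symm p).1 (idx28.symm q).1)
      (idx28.symm p).2 (idx28.symm q).2 = toMat 5 28 2 (nth o.one roots (3 * r.val + t.val)) p q)

theorem x_ok : ∀ r : Fin 12, ∀ t : Fin 3, xOK r t = true := by decide +kernel

end Cfsg.Agent.H59.SuzG2Mat
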