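import Cfsg.Agent.H45.SuzMain
import Cfsg.Agent.H59.SuzG2Checks
import Cfsg.Agent.H59.SuzG2Mat
import Cfsg.Agent.S1059
import Cfsg.Agent.Compute.Search

/-!
The subgroup `⟨a, …, f⟩` of the presented Suzuki group is `G₂(4)`.
-/

set_option autoImplicit false

namespace Cfsg.Agent.H59.SuzG2

open Cfsg.Agent.Compute Cfsg.Agent.H45 SuzG2Data SuzG2Checks Cfsg.Agent.H59.HeSp4

abbrev GL28 : Type := GL (Fin 28) (ZMod 2)

/-- soundness of the packed operations -/
noncomputable def S : Sound (G := GL28) SuzG2Checks.o :=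
  matSound 5 28 2 (by norm_num) (by norm_num) (by norm_num)

abbrev GpX : Type := SuzPres.pres.Gp × GL28

/-- the paired generators -/
noncomputable def eX (l : ℕ) : GpX :=
  (if l < 6 then SuzPres.pres.e l else 1, S.den (nth SuzG2Checks.o.one gens l))

theorem invol_of_okInv {G : Type*} [Group G] {op : Ops ℕ} (T : Sound (G := G) op) {a : ℕ}
    (h : op.okInv a a = true) : T.ok a ∧ T.den a * T.den a = 1 := by
  obtain ⟨oa, -, hi⟩ := T.okInv_sound h
  exact ⟨oa, mul_eq_one_iff_eq_inv.mpr hi⟩

theorem S_den (a : ℕ) : S.den a = matDen 5 28 2 a := rfl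

theorem S_ok (a : ℕ) : S.ok a = MatOK 5 28 2 a := rfl

attribute [local irreducible] S

theorem gen_ok (l : ℕ) : S.ok (nth SuzG2Checks.o.one gens l) ∧
    S.den (nth SuzG2Checks.o.one gens l) * S.den (nth SuzG2Checks.o.one gens l) = 1 := by
  refine nth_ok (fun a => S.ok a ∧ S.den a * S.den a = 1) _
    ⟨S.ok_one, by rw [S.den_one, one_mul]⟩ gens (fun a ha => ?_) l
  exact invol_of_okInv S ((lall_iff _ _).1 gens_ok a ha)

theorem eX_inv (l : ℕ) : eX l = (eX l)⁻¹ := by
  refine eq_inv_of_mul_eq_one_left (Prod.ext ?_ (gen_ok l).2)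
  show (if l < 6 then SuzPres.pres.e l else 1) * (if l < 6 then SuzPres.pres.e l else 1) = 1
  split_ifs
  · exact eq_inv_iff_mul_eq_one.mp (eOf_inv SuzPres.ok.sq l)
  · exact one_mul 1

theorem evM_ok {g : List ℕ} (hg : ∀ a ∈ g, S.ok a) : ∀ w : List ℕ,
    S.ok (evM g w) ∧ S.den (evM g w) = evalW (fun l => S.den (nth SuzG2Checks.o.one g l)) w := by
  intro w
  induction w with
  | nil => exact ⟨S.ok_one, by rw [show evM g [] = SuzG2Checks.o.one from rfl, S.den_one]; rfl⟩
  | cons l t ih =>
    have hl := nth_ok S.ok _ S.ok_one g hg l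
    refine ⟨S.ok_mul hl ih.1, ?_⟩
    rw [show evM g (l :: t) = SuzG2Checks.o.mul (nth SuzG2Checks.o.one g l) (evM g t) from rfl,
      S.den_mul hl ih.1, ih.2, evalW_cons]

theorem gens_all_ok : ∀ a ∈ gens, S.ok a := fun a ha => (S.okInv_sound ((lall_iff _ _).1 gens_ok a ha)).1

theorem evalW_eX (w : List ℕ) (hw : ∀ l ∈ w, l < 6) :
    evalW eX w = (evalW SuzPres.pres.e w, S.den (evM gens w)) := by
  induction w with
  | nil => rw [show evM gens [] = SuzG2Checks.o.one from rfl, S.den_one]; rfl
  | cons l t ih =>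
    rw [evalW_cons, evalW_cons, ih (fun x hx => hw x (by simp [hx]))]
    rw [show evM gens (l :: t) = SuzG2Checks.o.mul (nth SuzG2Checks.o.one gens l) (evM gens t) from rfl,
      S.den_mul (gen_ok l).1 (evM_ok gens_all_ok t).1]
    exact Prod.ext (by simp [eX, hw l (by simp)]) rfl

theorem rel_eX {R : List (List ℕ)} (h1 : lall R relOK = true)
    (h2 : (R.all fun w => decide (w ∈ SuzPres.pres.R) && w.all fun l => decide (l < 6)) = true) :
    ∀ w ∈ R, evalW eX w = 1 := by
  intro w hw
  have h := List.all_eq_true.mp h2 w hw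
  simp only [Bool.and_eq_true, List.all_eq_true, decide_eq_true_eq] at h
  rw [evalW_eX w h.2, SuzPres.ok.rel w h.1]
  refine Prod.ext rfl ?_
  rw [(S.eqv_iff (evM_ok gens_all_ok w).1 S.ok_one).1 ((lall_iff _ _).1 h1 w hw), S.den_one]
  rfl

/-- subgroup generated by the first letters -/
noncomputable def sX (k : ℕ) : Subgroup GpX := Subgroup.closure {g | ∃ l < k, eX l = g}

theorem bound_step {D : Dat} {n m k j : ℕ} {tree : List ℕ} {bs : List Blk} (hL : D.L = k)
    (hiv : D.iv = List.range k) (hR : ∀ w ∈ D.R, evalW eX w = 1)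
    (hS : (D.S.all fun w => w.all fun l => decide (l < j)) = true)
    (hT : ∀ l, l < D.L → ∀ i, i < n → tget D.cols i l < n) (hn : 0 < n)
    (hc : closeCheck D n tree bs = true) (hm : Finite (sX j) ∧ Nat.card (sX j) ≤ m) :
    Finite (sX k) ∧ Nat.card (sX k) ≤ n * m := by
  have hinv : ∀ l, eX (linv D.iv l) = (eX l)⁻¹ := by
    intro l; rw [hiv, linv_range]; exact eX_inv l
  have hD : Hyp D eX (sX j) := by
    refine ⟨hinv, hR, fun w hw => list_prod_mem fun x hx => ?_⟩
    obtain ⟨l, hl, rfl⟩ := List.mem_map.mp hx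
    exact Subgroup.subset_closure ⟨l,
      of_decide_eq_true (List.all_eq_true.mp (List.all_eq_true.mp hS w hw) l hl), rfl⟩
  obtain ⟨-, w, hw0, -, hw⟩ := closeCheck_sound hD
    (fun l hl => Subgroup.subset_closure ⟨l, hL ▸ hl, rfl⟩ : ∀ l, l < D.L → eX l ∈ sX k) hc
  have := hm.1
  refine card_le_of_cosets (w := w) (cosets_exhaust (e := eX) (iv := D.iv) ?_
    (fun l hl => ⟨?_, hinv l⟩) hT hn hw0 hw) hm.2
  · rw [hL]; exact le_rfl
  · rw [hiv, linv_range]; exact hl

theorem sX_bound : Finite (sX 6) ∧ Nat.card (sX 6) ≤ 251596800 := by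
  have h0 : Finite (sX 0) ∧ Nat.card (sX 0) ≤ 1 := by
    have : sX 0 = ⊥ := by simp [sX]
    rw [this]; exact ⟨inferInstance, le_of_eq Subgroup.card_bot⟩
  have h4 := bound_step (D := SuzJ2160.dat) (k := 4) (j := 0) (m := 1) rfl SuzJ2160.invl_eq
    (rel_eX rel2160 (by decide +kernel)) (by decide +kernel)
    (ltCheck_sound SuzJ2160.lt_ok) (by norm_num) SuzJ2160.close_ok h0
  have h5 := bound_step (D := SuzJ280.dat) (k := 5) (j := 4) (m := 2160) rfl SuzJ280.invl_eq
    (rel_eX rel280 (by decide +kernel)) (by decide +kernel)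
    (ltCheck_sound SuzJ280.lt_ok) (by norm_num) SuzJ280.close_ok (by simpa using h4)
  have h6 := bound_step (D := SuzJ416.dat) (k := 6) (j := 5) (m := 604800) rfl SuzJ416.invl_eq
    (rel_eX rel416 (by decide +kernel)) (by decide +kernel)
    (ltCheck_sound SuzJ416.lt_ok) (by norm_num) SuzJ416.close_ok (by simpa using h5)
  simpa using h6

/-- the group `G₂(4)` inside binary matrices -/
noncomputable def j : GL SuzG2Mat.Idx F4 →* GL28 := Units.map SuzG2Mat.iota

theorem blk_injective : ∀ x y : F4, SuzG2Mat.blk x = SuzG2Mat.blk y → x = y := by decide +kernel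

theorem j_val (x : GL SuzG2Mat.Idx F4) :
    ((j x : GL28) : Matrix (Fin 28) (Fin 28) (ZMod 2)) = SuzG2Mat.iotaFun (Units.val x) :=
  Units.coe_map SuzG2Mat.iota x

theorem j_injective : Function.Injective j := by
  intro x y h
  refine Units.ext (Matrix.ext fun a b => blk_injective _ _ (Matrix.ext fun u v => ?_))
  have h0 : SuzG2Mat.iotaFun (Units.val x) = SuzG2Mat.iotaFun (Units.val y) := by
    rw [← j_val, ← j_val, h]
  have h1 := congrFun (congrFun h0 (SuzG2Mat.idx28 (a, u))) (SuzG2Mat.idx28 (b, v))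
  simp only [SuzG2Mat.iotaFun, Equiv.symm_apply_apply] at h1
  exact h1

theorem roots_all_ok : ∀ a ∈ roots, S.ok a ∧ S.den a * S.den a = 1 := fun a ha =>
  invol_of_okInv S ((lall_iff _ _).1 roots_ok a ha)

/-- the image of the six generators -/
noncomputable def X : Subgroup GL28 := (sX 6).map (MonoidHom.snd _ _)

theorem roots_mem : ∀ r < 12, ∀ t < 3, S.den (nth SuzG2Checks.o.one roots (3 * r + t)) ∈ X := by
  let P : ℕ → Prop := fun x => S.den (nth SuzG2Checks.o.one roots x) ∈ X
  have hok : ∀ x, S.ok (nth SuzG2Checks.o.one roots x) :=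
    nth_ok S.ok _ S.ok_one roots fun a ha => (roots_all_ok a ha).1
  have hgen : ∀ l, S.den (nth SuzG2Checks.o.one gens l) ∈ X := by
    intro l
    by_cases hl : l < 6
    · exact ⟨eX l, Subgroup.subset_closure ⟨l, hl, rfl⟩, rfl⟩
    · have hlen : ∀ (d : ℕ) (lst : List ℕ) (i : ℕ), lst.length ≤ i → nth d lst i = d := by
        intro d lst
        induction lst with
        | nil => intros; rfl
        | cons a t ih =>
          intro i hi
          cases i with
          | zero => simp at hi
          | succ i => exact ih i (by simpa using hi)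
      rw [hlen _ gens l (le_trans (le_of_eq rfl) (Nat.le_of_not_lt hl)), S.den_one]
      exact one_mem _
  have hseed : ∀ x ∈ seeds.map (·.1), P x := by
    intro x hx
    obtain ⟨p, hp, rfl⟩ := List.mem_map.mp hx
    show S.den _ ∈ X
    rw [← (S.eqv_iff (evM_ok gens_all_ok p.2).1 (hok _)).1 ((lall_iff _ _).1 seeds_ok p hp),
      (evM_ok gens_all_ok p.2).2]
    refine list_prod_mem fun y hy => ?_
    obtain ⟨l, -, rfl⟩ := List.mem_map.mp hy
    exact hgen l
  have hN : ∀ i, S.den (evM roots (nth [] weyl i)) ∈ X ∧ S.ok (evM roots (nth [] weyl i)) := by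
    intro i
    have hev := evM_ok (fun a ha => (roots_all_ok a ha).1) (nth [] weyl i)
    refine ⟨?_, hev.1⟩
    rw [hev.2]
    refine list_prod_mem fun y hy => ?_
    obtain ⟨l, hl, rfl⟩ := List.mem_map.mp hy
    refine hseed l ?_
    have := nth_ok (fun w : List ℕ => ∀ x ∈ w, x ∈ seeds.map (·.1)) [] (by simp) weyl
      (fun w hw x hx => of_decide_eq_true ((lall_iff _ _).1 ((lall_iff _ _).1 weyl_known w hw) x hx)) i
    exact this l hl
  have key : ∀ (st : List (ℕ × ℕ × ℕ)) (known : List ℕ), stepsOK st known = true →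
      (∀ x ∈ known, P x) → ∀ r < 12, P (3 * r) ∧ P (3 * r + 1) := by
    intro st
    induction st with
    | nil =>
      intro known h hk r hr
      change allN 12 (fun r => decide (3 * r ∈ known) && decide (3 * r + 1 ∈ known)) = true at h
      have h' := (allN_iff _ _).1 h r hr
      simp only [Bool.and_eq_true, decide_eq_true_eq] at h'
      exact ⟨hk _ h'.1, hk _ h'.2⟩
    | cons p t ih =>
      intro known h hk
      have h' : (decide (p.2.2 ∈ known) &&
        (SuzG2Checks.o.eqv (SuzG2Checks.o.mul (evM roots (nth [] weyl p.2.1))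
          (SuzG2Checks.o.mul (nth SuzG2Checks.o.one roots p.2.2) (evM roots (nth [] weyl p.2.1))))
            (nth SuzG2Checks.o.one roots p.1) && stepsOK t (p.1 :: known))) = true := h
      simp only [Bool.and_eq_true, decide_eq_true_eq] at h'
      refine ih _ h'.2.2 fun x hx => ?_
      rcases List.mem_cons.mp hx with rfl | hx
      · have hn := hN p.2.1
        show S.den _ ∈ X
        rw [← (S.eqv_iff (S.ok_mul hn.2 (S.ok_mul (hok _) hn.2)) (hok _)).1 h'.2.1,
          S.den_mul hn.2 (S.ok_mul (hok _) hn.2), S.den_mul (hok _) hn.2]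
        exact mul_mem hn.1 (mul_mem (hk _ h'.1) hn.1)
      · exact hk x hx
  intro r hr t ht
  obtain ⟨h0, h1⟩ := key steps _ steps_ok hseed r hr
  obtain rfl | rfl | rfl : t = 0 ∨ t = 1 ∨ t = 2 := by omega
  · exact h0
  · exact h1
  · rw [← (S.eqv_iff (S.ok_mul (hok _) (hok _)) (hok _)).1 ((allN_iff _ _).1 third_ok r hr),
      S.den_mul (hok _) (hok _)]
    exact mul_mem h0 h1

theorem scal_surj : ∀ x : F4, x = 0 ∨ ∃ t : Fin 3, SuzG2Mat.scal t = x := by decide +kernel

/-- `G₂(4)` -/
noncomputable def G2 : Subgroup (GL SuzG2Mat.Idx F4) := Cfsg.Lie.chevG2.group F4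

theorem root_mem (g : GL SuzG2Mat.Idx F4) (r : Fin 12) (t : F4)
    (hg : Units.val g = SuzG2Mat.xM r t) : j g ∈ X := by
  rcases scal_surj t with rfl | ⟨u, rfl⟩
  · rw [show g = 1 from Units.ext (hg.trans (SuzG2Mat.x_zero r)), map_one]
    exact one_mem _
  · convert roots_mem r.val r.isLt u.val u.isLt using 1
    refine Units.ext (Matrix.ext fun p q => ?_)
    have hok0 : S.ok (nth SuzG2Checks.o.one roots (3 * r.val + u.val)) :=
      nth_ok S.ok _ S.ok_one roots (fun a ha => (roots_all_ok a ha).1) _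
    rw [S_ok] at hok0
    rw [j_val, hg, S_den]
    refine Eq.trans ?_ (congrFun (congrFun (matDen_coe hok0) p) q).symm
    exact of_decide_eq_true (List.all_eq_true.mp (List.all_eq_true.mp (SuzG2Mat.x_ok r u) p
      (List.mem_finRange _)) q (List.mem_finRange _))

theorem group_le : G2.map j ≤ X := by
  refine Subgroup.map_le_iff_le_comap.mpr ((Subgroup.closure_le _).mpr ?_)
  rintro g ⟨r, t, hg⟩
  exact root_mem g r t hg

theorem card_G2 : Nat.card (Cfsg.Lie.chevG2.group F4) = 251596800 := by
  rw [Cfsg.Agent.S1059.result card_F4]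
  norm_num

set_option maxRecDepth 10000 in
theorem card_H : Nat.card SuzMain.H = 251596800 := by
  obtain ⟨hfin, hc, -⟩ := SuzMain.order_facts
  have h := SuzMain.H.card_mul_index
  rw [SuzMain.H_index, hc] at h
  omega

set_option maxRecDepth 10000 in
theorem exists_equiv : Nonempty (SuzMain.H ≃* Cfsg.Lie.chevG2.group F4) := by
  obtain ⟨hfin, hle⟩ := sX_bound
  let p1 : sX 6 →* SuzPres.pres.Gp := (MonoidHom.fst _ _).comp (sX 6).subtype
  let p2 : sX 6 →* GL28 := (MonoidHom.snd _ _).comp (sX 6).subtype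
  have hH : SuzMain.H ≤ p1.range := by
    refine (Subgroup.closure_le _).mpr ?_
    rintro _ ⟨w, hw, rfl⟩
    obtain ⟨l, hl, rfl⟩ : ∃ l < 6, [l] = w := by
      simp only [SuzI1782.subWords, List.mem_cons, List.not_mem_nil, or_false] at hw
      rcases hw with rfl | rfl | rfl | rfl | rfl | rfl <;> exact ⟨_, by norm_num, rfl⟩
    refine ⟨⟨eX l, Subgroup.subset_closure ⟨l, hl, rfl⟩⟩, ?_⟩
    show (if l < 6 then SuzPres.pres.e l else 1) = _
    rw [if_pos hl]
    simp [evalW]
  have h1 : p1.range = SuzMain.H := by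
    have : Finite p1.range := Finite.of_surjective _ p1.rangeRestrict_surjective
    refine (Subgroup.eq_of_le_of_card_ge hH ?_).symm
    rw [card_H]
    exact (Nat.card_le_card_of_surjective _ p1.rangeRestrict_surjective).trans hle
  have hcard : Nat.card (sX 6) = 251596800 := le_antisymm hle (by
    rw [← card_H, ← h1]; exact Nat.card_le_card_of_surjective _ p1.rangeRestrict_surjective)
  have inj1 : Function.Injective p1 := by
    have hb : Function.Bijective p1.rangeRestrict :=
      (Nat.bijective_iff_surjective_and_card _).mpr ⟨p1.rangeRestrict_surjective,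
        by rw [hcard, h1, card_H]⟩
    exact fun a b h => hb.1 (Subtype.ext h)
  have hG2 : Nat.card (G2.map j) = 251596800 := by
    rw [Subgroup.card_map_of_injective j_injective]; exact card_G2
  have hr : p2.range = X := by
    rw [MonoidHom.range_comp, Subgroup.range_subtype]; rfl
  have h2 : p2.range = G2.map j := by
    have : Finite p2.range := Finite.of_surjective _ p2.rangeRestrict_surjective
    refine (Subgroup.eq_of_le_of_card_ge (hr ▸ group_le) ?_).symm
    rw [hG2]
    exact (Nat.card_le_card_of_surjective _ p2.rangeRestrict_surjective).trans hle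
  have inj2 : Function.Injective p2 := by
    have hb : Function.Bijective p2.rangeRestrict :=
      (Nat.bijective_iff_surjective_and_card _).mpr ⟨p2.rangeRestrict_surjective,
        by rw [hcard, h2, hG2]⟩
    exact fun a b h => hb.1 (Subtype.ext h)
  exact ⟨(MulEquiv.subgroupCongr h1).symm.trans <| (MonoidHom.ofInjective inj1).symm.trans <|
    (MonoidHom.ofInjective inj2).trans <| (MulEquiv.subgroupCongr h2).trans
      (G2.equivMapOfInjective j j_injective).symm⟩

end Cfsg.Agent.H59.SuzG2
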