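import Cfsg.Agent.Fusion.Tate
import Cfsg.Agent.H60.Basic

/-!
# The Wielandt–Yoshida transfer theorem
-/

set_option autoImplicit false

namespace Cfsg.Agent.H59

open Subgroup Fusion MulAction
open scoped commutatorElement

universe u

variable {G : Type u} [Group G] {p : ℕ}

/-- A homomorphism of `N` to the group of order `p` not vanishing on `S ∩ G'`. -/
theorem exists_hom_of_commutator_inf_ne [Finite G] [hp : Fact p.Prime] (P : Sylow p G)
    {N : Subgroup G} (hPN : (P : Subgroup G) ≤ N)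
    (h : ¬ commutator G ⊓ (P : Subgroup G) ≤ ⁅N, N⁆) :
    ∃ (μ : N →* Multiplicative (ZMod p)) (x : N), (x : G) ∈ commutator G ⊓ (P : Subgroup G) ∧ μ x ≠ 1 := by
  by_contra hcon
  push Not at hcon
  have hind : ¬ p ∣ N.index := fun hd => P.not_dvd_index (hd.trans (index_dvd_of_le hPN))
  have ht : (pResidual p G).subgroupOf N = pResidual p N := by
    refine tate hind fun L hLn hLi => ?_
    have hK : pResidual p N ≤ L := pResidual_le_of_index (n := 1) (by rw [hLi, pow_one])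
    rw [eq_sup_inf_sylow (P.subtype hPN) (le_refl (pResidual p N)) (pResidual_le_subgroupOf N)]
    refine sup_le hK fun x hx => ?_
    obtain ⟨hx1, hx2⟩ := hx
    haveI := hLn
    have hcard : Nat.card (N ⧸ L) = p := by rw [← index_eq_card, hLi]
    let e : N ⧸ L ≃* Multiplicative (ZMod p) :=
      mulEquivOfPrimeCardEq (p := p) hcard (by simp)
    have h1 := hcon (e.toMonoidHom.comp (QuotientGroup.mk' L)) x
      (pResidual_inf_le_commutator P ⟨hx2, hx1⟩)
    exact (QuotientGroup.eq_one_iff x).mp (e.injective (h1.trans e.map_one.symm))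
  apply h
  intro x hx
  set D : Subgroup N := pResidual p N ⊔ commutator N with hD
  set X : Subgroup G := pResidual p G ⊔ D.map N.subtype with hX
  have hNtop : N ⊔ pResidual p G = ⊤ := by
    obtain ⟨n, hn⟩ := index_pResidual (p := p) (G := G)
    rw [← index_eq_one]
    have h1 : (N ⊔ pResidual p G).index ∣ N.index := index_dvd_of_le le_sup_left
    have h2 : (N ⊔ pResidual p G).index ∣ p ^ n := hn ▸ index_dvd_of_le le_sup_right
    exact Nat.eq_one_of_dvd_coprimes ((hp.out.coprime_iff_not_dvd.mpr hind).symm.pow_right n) h1 h2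
  have hXn : X.Normal := by
    rw [← normalizer_eq_top_iff, eq_top_iff, ← hNtop]
    refine sup_le ?_ (le_sup_left.trans Subgroup.le_normalizer)
    refine H60.le_normalizer_sup le_normalizer_of_normal ?_
    intro g hg
    refine mem_normalizer_fintype fun y hy => ?_
    obtain ⟨y', hy', rfl⟩ := hy
    exact ⟨⟨g, hg⟩ * y' * ⟨g, hg⟩⁻¹, (inferInstance : D.Normal).conj_mem y' hy' ⟨g, hg⟩, rfl⟩
  haveI := hXn
  have hab : ∀ a b : G ⧸ X, a * b = b * a := by
    intro a b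
    obtain ⟨a', rfl⟩ := QuotientGroup.mk'_surjective X a
    obtain ⟨b', rfl⟩ := QuotientGroup.mk'_surjective X b
    have hrep : ∀ c : G, ∃ n : N, QuotientGroup.mk' X c = QuotientGroup.mk' X n := by
      intro c
      have hc : c ∈ ((N ⊔ pResidual p G : Subgroup G) : Set G) := by rw [hNtop]; trivial
      rw [mul_normal] at hc
      obtain ⟨n, hn, r, hr, rfl⟩ := Set.mem_mul.mp hc
      refine ⟨⟨n, hn⟩, ?_⟩
      rw [map_mul, (QuotientGroup.eq_one_iff r).mpr (mem_sup_left hr) |> fun e =>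
        (show QuotientGroup.mk' X r = 1 from e), mul_one]
    obtain ⟨m, hm⟩ := hrep a'
    obtain ⟨n, hn⟩ := hrep b'
    rw [hm, hn]
    have h1 : ((⁅m, n⁆ : N) : G) ∈ X := mem_sup_right (mem_map_of_mem N.subtype
      (mem_sup_right (commutator_mem_commutator (mem_top m) (mem_top n))))
    have h2 : QuotientGroup.mk' X ((⁅m, n⁆ : N) : G) = 1 := (QuotientGroup.eq_one_iff _).mpr h1
    rw [show ((⁅m, n⁆ : N) : G) = ⁅(m : G), (n : G)⁆ from rfl, map_commutatorElement] at h2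
    exact commutatorElement_eq_one_iff_mul_comm.mp h2
  have hGX : commutator G ≤ X := by
    haveI : IsMulCommutative (G ⧸ X) := ⟨⟨hab⟩⟩
    exact Normal.quotient_commutative_iff_commutator_le.mp inferInstance
  have hxX := hGX hx.1
  rw [← SetLike.mem_coe, hX, Subgroup.normal_mul] at hxX
  obtain ⟨r, hr, d, hd, hrd⟩ := Set.mem_mul.mp hxX
  obtain ⟨d', hd', rfl⟩ := hd
  have hrN : r ∈ N := by
    rw [eq_mul_inv_of_mul_eq hrd]
    exact mul_mem (hPN hx.2) (inv_mem d'.2)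
  have hrD : (⟨r, hrN⟩ : N) ∈ D := mem_sup_left (ht.le hr)
  have hxD : (⟨x, hPN hx.2⟩ : N) ∈ D := by
    rw [show (⟨x, hPN hx.2⟩ : N) = ⟨r, hrN⟩ * d' from Subtype.ext hrd.symm]
    exact mul_mem hrD hd'
  have hxC : (⟨x, hPN hx.2⟩ : N) ∈ commutator N :=
    ((pResidual_sup_commutator_inf' (P.subtype hPN)).le ⟨hxD, hx.2⟩).1
  rw [← map_subtype_commutator]
  exact ⟨_, hxC, rfl⟩

open Classical in
/-- The contribution of a coset to a transfer value, nontrivial only at fixed cosets. -/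
noncomputable def fixTerm {A : Type*} [CommGroup A] {H : Subgroup G} (φ : H →* A) (x g : G) : A :=
  if h : g⁻¹ * x * g ∈ H then φ ⟨_, h⟩ else 1

theorem fixTerm_mul_right {A : Type*} [CommGroup A] {H : Subgroup G} (φ : H →* A) (x g : G) {k : G}
    (hk : k ∈ H) : fixTerm φ x (g * k) = fixTerm φ x g := by
  have e : (g * k)⁻¹ * x * (g * k) = k⁻¹ * (g⁻¹ * x * g) * k := by group
  by_cases h : g⁻¹ * x * g ∈ H
  · have h' : (g * k)⁻¹ * x * (g * k) ∈ H := e ▸ mul_mem (mul_mem (inv_mem hk) h) hk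
    rw [fixTerm, fixTerm, dif_pos h', dif_pos h,
      show (⟨_, h'⟩ : H) = ⟨k, hk⟩⁻¹ * ⟨_, h⟩ * ⟨k, hk⟩ from Subtype.ext e, map_mul, map_mul, map_inv,
      mul_right_comm, inv_mul_cancel, one_mul]
  · have h' : ¬ (g * k)⁻¹ * x * (g * k) ∈ H := fun h' => h (by
      have := mul_mem (mul_mem hk (e ▸ h')) (inv_mem hk)
      rwa [show k * (k⁻¹ * (g⁻¹ * x * g) * k) * k⁻¹ = g⁻¹ * x * g by group] at this)
    rw [fixTerm, fixTerm, dif_neg h', dif_neg h]

theorem fixTerm_out {A : Type*} [CommGroup A] {H : Subgroup G} (φ : H →* A) (x g : G) :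
    fixTerm φ x (QuotientGroup.mk g : G ⧸ H).out = fixTerm φ x g := by
  obtain ⟨k, hk⟩ := QuotientGroup.mk_out_eq_mul H g
  rw [hk]; exact fixTerm_mul_right φ x g k.2

theorem smul_eq_self_iff {H : Subgroup G} (x : G) (q : G ⧸ H) :
    x • q = q ↔ q.out⁻¹ * x * q.out ∈ H := by
  conv_lhs => rw [← QuotientGroup.out_eq' q]
  rw [MulAction.Quotient.smul_mk, eq_comm, QuotientGroup.eq, smul_eq_mul, mul_assoc]

open Classical in
/-- If the terms of long orbits vanish, the transfer is a product over fixed cosets. -/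
theorem transfer_eq_prod_fixTerm [Finite G] {A : Type*} [CommGroup A] {H : Subgroup G}
    [Fintype (G ⧸ H)] (φ : H →* A) (x : G)
    (hsmall : ∀ (g : G) (n : ℕ) (h : g⁻¹ * x ^ n * g ∈ H), n ∣ orderOf x → 1 < n → φ ⟨_, h⟩ = 1) :
    MonoidHom.transfer φ x = ∏ q : G ⧸ H, fixTerm φ x q.out := by
  haveI : Fintype (Quotient (orbitRel (zpowers x) (G ⧸ H))) := Fintype.ofFinite _
  rw [MonoidHom.transfer_eq_prod_quotient_orbitRel_zpowers_quot,
    ← Finset.prod_fiberwise (Finset.univ : Finset (G ⧸ H))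
      (Quotient.mk (orbitRel (zpowers x) (G ⧸ H)))]
  refine Finset.prod_congr rfl fun Q _ => ?_
  set q₀ : G ⧸ H := Q.out with hq₀
  have hmem : ∀ q, Quotient.mk (orbitRel (zpowers x) (G ⧸ H)) q = Q → x • q = q → q = q₀ := by
    intro q hq hfix
    rw [← hq] at hq₀
    have h1 : q₀ ∈ orbit (zpowers x) q := by
      rw [hq₀]; exact Quotient.mk_out (s := orbitRel (zpowers x) (G ⧸ H)) q
    obtain ⟨⟨y, hy⟩, hy'⟩ := h1
    have hs : zpowers x ≤ stabilizer G q := zpowers_le.mpr hfix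
    exact ((hs hy : y • q = q).symm.trans hy')
  have hper : Function.minimalPeriod (x • ·) q₀ ∣ orderOf x :=
    Function.IsPeriodicPt.minimalPeriod_dvd (by
      change (x • ·)^[orderOf x] q₀ = q₀
      simp [smul_iterate, pow_orderOf_eq_one])
  have hpos : 0 < Function.minimalPeriod (x • ·) q₀ := Nat.pos_of_dvd_of_pos hper (orderOf_pos x)
  by_cases h1 : Function.minimalPeriod (x • ·) q₀ = 1
  · have hfix : x • q₀ = q₀ := Function.minimalPeriod_eq_one_iff_isFixedPt.mp h1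
    rw [Finset.prod_eq_single_of_mem q₀ (by simp [hq₀]) fun q hq hne => ?_]
    · rw [fixTerm, dif_pos ((smul_eq_self_iff x q₀).mp hfix)]
      refine congrArg φ (Subtype.ext ?_)
      change q₀.out⁻¹ * x ^ Function.minimalPeriod (x • ·) q₀ * q₀.out = _
      rw [h1, pow_one]
    · rw [fixTerm, dif_neg]
      exact fun h => hne (hmem q (Finset.mem_filter.mp hq).2 ((smul_eq_self_iff x q).mpr h))
  · rw [hsmall q₀.out _ _ hper (by omega)]
    refine (Finset.prod_eq_one fun q hq => ?_).symm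
    rw [fixTerm, dif_neg]
    intro h
    have hfix := (smul_eq_self_iff x q).mpr h
    have e := hmem q (Finset.mem_filter.mp hq).2 hfix
    rw [← e] at h1
    exact h1 (Function.minimalPeriod_eq_one_iff_isFixedPt.mpr hfix)

open Classical in
/-- The core of the Wielandt–Yoshida theorem. -/
theorem yoshida_core [Finite G] [hp : Fact p.Prime] (S : Sylow p G) {W : Subgroup G}
    (hW : Cfsg.IsWeaklyClosed W (S : Subgroup G))
    (h : ¬ commutator G ⊓ (S : Subgroup G) ≤ ⁅normalizer (W : Set G), normalizer (W : Set G)⁆) :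
    ∃ (T R₁ : Subgroup G) (φ : R₁ →* Multiplicative (ZMod p)) (x z : G),
      T ≤ S ∧ W ≤ T ∧ R₁ ≤ T ∧ R₁.relIndex T = p ∧ T ≤ normalizer (R₁ : Set G) ∧
      z ∈ W ∧ z ∉ R₁ ∧ x ∈ R₁ ∧ z ^ p ∈ R₁ ∧
      (∏ i : Fin p, if h : (z ^ (i : ℕ))⁻¹ * x * z ^ (i : ℕ) ∈ R₁ then φ ⟨_, h⟩ else 1) ≠ 1 := by
  have hSW : (S : Subgroup G) ≤ normalizer (W : Set G) := fun s hs => by
    refine H60.cj_eq_self_iff.mp (hW.2 s ?_)
    exact (H60.cj_mono hW.1 s).trans (H60.cj_le_of_mem hs)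
  set N := normalizer (W : Set G) with hN
  obtain ⟨μ, x₀, hx₀, hμ₀⟩ := exists_hom_of_commutator_inf_ne S hSW h
  let U : Set N := {y | (y : G) ∈ commutator G ⊓ (S : Subgroup G) ∧ μ y ≠ 1}
  obtain ⟨x, ⟨hxm, hμx⟩, hxmin⟩ :=
    Set.Finite.exists_minimalFor (fun y : N => orderOf (y : G)) U (Set.toFinite U) ⟨x₀, hx₀, hμ₀⟩
  have hmin : ∀ y : N, (y : G) ∈ commutator G → (∃ k, orderOf (y : G) ∣ p ^ k) →
      orderOf (y : G) < orderOf (x : G) → μ y = 1 := by
    rintro y hy ⟨k, hk⟩ hlt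
    by_contra hne
    have hyp : IsPGroup p (zpowers (y : G)) := by
      obtain ⟨j, -, hj⟩ := (Nat.dvd_prime_pow hp.out).mp hk
      exact IsPGroup.of_card (by rw [Nat.card_zpowers, hj])
    obtain ⟨Q, hQ⟩ := (hyp.comap_of_injective N.subtype N.subtype_injective).exists_le_sylow
    obtain ⟨c, hc⟩ := MulAction.exists_smul_eq N (S.subtype hSW) Q
    have hyQ : y ∈ (Q : Subgroup N) := hQ (show (y : G) ∈ zpowers (y : G) from mem_zpowers _)
    rw [← hc] at hyQ
    obtain ⟨s, hs, hsy⟩ := hyQ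
    have e : (c : N) * s * c⁻¹ = y := hsy
    have hs' : (s : G) ∈ commutator G := by
      have := (inferInstance : (commutator G).Normal).conj_mem _ hy (c : G)⁻¹
      rwa [← e, show ((c * s * c⁻¹ : N) : G) = (c : G) * s * (c : G)⁻¹ from rfl,
        show (c : G)⁻¹ * ((c : G) * s * (c : G)⁻¹) * ((c : G)⁻¹)⁻¹ = s by group] at this
    have hμs : μ s = μ y := by rw [← e, map_mul, map_mul, map_inv, mul_right_comm, mul_inv_cancel, one_mul]
    have hord : orderOf (s : G) = orderOf (y : G) := by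
      rw [← e]
      exact ((MulAut.conj (c : G)).orderOf_eq (s : G)).symm
    have h2 := hxmin (j := s) ⟨⟨hs', hs⟩, hμs ▸ hne⟩
      (show orderOf (s : G) ≤ orderOf (x : G) by rw [hord]; exact hlt.le)
    simp only at h2
    omega
  obtain ⟨k, hk⟩ : ∃ k, orderOf (x : G) = p ^ k := by
    obtain ⟨m, hm⟩ := S.isPGroup' ⟨x, hxm.2⟩
    obtain ⟨j, -, hj⟩ := (Nat.dvd_prime_pow hp.out).mp
      (orderOf_dvd_of_pow_eq_one (congrArg Subtype.val hm))
    exact ⟨j, hj⟩
  have hsmall : ∀ (g : G) (n : ℕ) (y : G) (h : g⁻¹ * y ^ n * g ∈ N), y ∈ commutator G →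
      orderOf y = orderOf (x : G) → n ∣ orderOf y → 1 < n → μ ⟨_, h⟩ = 1 := by
    intro g n y h hy hyo hn hn1
    have ho : orderOf (g⁻¹ * y ^ n * g) = orderOf (y ^ n) := by
      have := (MulAut.conj g⁻¹).orderOf_eq (y ^ n)
      simpa using this
    refine hmin _ ?_ ⟨k, ?_⟩ ?_
    · simpa using (inferInstance : (commutator G).Normal).conj_mem _ (pow_mem hy n) g⁻¹
    · change orderOf (g⁻¹ * y ^ n * g) ∣ p ^ k
      rw [ho, ← hk, ← hyo]
      exact orderOf_pow_dvd n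
    · change orderOf (g⁻¹ * y ^ n * g) < _
      rw [ho, ← hyo, orderOf_pow_of_dvd (by omega) hn]
      exact Nat.div_lt_self (orderOf_pos y) hn1
  haveI : Fintype (G ⧸ N) := Fintype.ofFinite _
  haveI : Fintype (Quotient (orbitRel W (G ⧸ N))) := Fintype.ofFinite _
  let F : G ⧸ N → Multiplicative (ZMod p) := fun q => fixTerm μ (x : G) q.out
  have htot : ∏ q, F q = 1 := by
    rw [← transfer_eq_prod_fixTerm μ (x : G) fun g n h hn hn1 => hsmall g n _ h hxm.1 rfl hn hn1]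
    exact Abelianization.commutator_subset_ker (MonoidHom.transfer μ) hxm.1
  let base : G ⧸ N := QuotientGroup.mk 1
  have hbase : ∏ q ∈ Finset.univ.filter (fun q => Quotient.mk (orbitRel W (G ⧸ N)) q =
      Quotient.mk (orbitRel W (G ⧸ N)) base), F q ≠ 1 := by
    rw [Finset.prod_eq_single_of_mem base (by simp) fun q hq hne => ?_]
    · change fixTerm μ (x : G) base.out ≠ 1
      rw [fixTerm_out, fixTerm, dif_pos (by simpa using x.2)]
      simpa using hμx
    · obtain ⟨⟨w, hw⟩, hwq⟩ := Quotient.eq.mp (Finset.mem_filter.mp hq).2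
      refine absurd ?_ hne
      rw [← hwq]
      change w • base = base
      rw [smul_eq_self_iff]
      obtain ⟨n, hn⟩ := QuotientGroup.mk_out_eq_mul N (1 : G)
      rw [show base.out = 1 * (n : G) from hn, one_mul]
      exact mul_mem (mul_mem (inv_mem n.2) (Subgroup.le_normalizer hw)) n.2
  obtain ⟨Q, hQb, hQ⟩ : ∃ Q, Q ≠ Quotient.mk (orbitRel W (G ⧸ N)) base ∧
      ∏ q ∈ Finset.univ.filter (fun q => Quotient.mk (orbitRel W (G ⧸ N)) q = Q), F q ≠ 1 := by
    by_contra hcon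
    push Not at hcon
    rw [← Finset.prod_fiberwise (Finset.univ : Finset (G ⧸ N))
      (Quotient.mk (orbitRel W (G ⧸ N))) F,
      Finset.prod_eq_single_of_mem _ (Finset.mem_univ (Quotient.mk (orbitRel W (G ⧸ N)) base))
        fun Q _ hQ => hcon Q hQ] at htot
    exact hbase htot
  obtain ⟨q₀, hq₀Q, hq₀F⟩ := Finset.exists_ne_one_of_prod_ne_one hQ
  replace hq₀Q := (Finset.mem_filter.mp hq₀Q).2
  set g := q₀.out with hg
  have hxg : g⁻¹ * (x : G) * g ∈ N := by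
    by_contra hcon
    exact hq₀F (dif_neg hcon)
  have hgN : g ∉ N := fun hgN => hQb (by
    rw [← hq₀Q, ← QuotientGroup.out_eq' q₀, ← hg,
      show (QuotientGroup.mk g : G ⧸ N) = base from QuotientGroup.eq.mpr (by simpa using inv_mem hgN)])
  have hWg : ¬ W ≤ H60.cj N g := by
    intro hle
    have h1 : H60.cj W g⁻¹ ≤ N := (H60.le_cj_iff g).mp hle
    obtain ⟨P, hP⟩ := (((S.isPGroup'.to_le hW.1).map (MulAut.conj g⁻¹).toMonoidHom).comap_of_injective
      N.subtype N.subtype_injective).exists_le_sylow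
    obtain ⟨c, hc⟩ := MulAction.exists_smul_eq N P (S.subtype hSW)
    have h2 : H60.cj W ((c : G) * g⁻¹) ≤ (S : Subgroup G) := by
      rw [← H60.cj_cj]
      rintro _ ⟨y, hy, rfl⟩
      have h3 : (c : N) * ⟨y, h1 hy⟩ * c⁻¹ ∈ ((c • P : Sylow p N) : Subgroup N) :=
        ⟨⟨y, h1 hy⟩, hP (show y ∈ H60.cj W g⁻¹ from hy), rfl⟩
      rw [hc] at h3
      exact h3
    have h4 : (c : G) * g⁻¹ ∈ N := H60.cj_eq_self_iff.mp (hW.2 _ h2)
    refine hgN ?_
    have := mul_mem (inv_mem c.2) h4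
    rw [inv_mul_cancel_left] at this
    exact inv_inv g ▸ inv_mem this
  set R := (S : Subgroup G) ⊓ H60.cj N g with hR
  set T := R ⊔ W with hT
  have hTS : T ≤ (S : Subgroup G) := sup_le inf_le_left hW.1
  have hTp : IsPGroup p T := S.isPGroup'.to_le hTS
  have hRne : R.subgroupOf T ≠ ⊤ := fun e =>
    hWg ((le_sup_right.trans (subgroupOf_eq_top.mp e)).trans inf_le_right)
  obtain ⟨M, hM, hRM⟩ := (eq_top_or_exists_le_coatom (R.subgroupOf T)).resolve_left hRne
  haveI := PGroups.normal_of_isCoatom hTp hM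
  set R₁ := M.map T.subtype with hR₁
  have hMR : R₁.subgroupOf T = M := comap_map_eq_self_of_injective T.subtype_injective M
  have hR₁T : R₁ ≤ T := map_subtype_le _
  have hRR₁ : R ≤ R₁ := fun r hr => ⟨⟨r, mem_sup_left hr⟩, hRM hr, rfl⟩
  obtain ⟨z, hzW, hzR⟩ : ∃ z ∈ W, z ∉ R₁ := by
    by_contra hcon
    push Not at hcon
    refine hM.1 ?_
    rw [← hMR, subgroupOf_eq_top]
    exact sup_le hRR₁ hcon
  have hind : M.index = p := PGroups.index_eq_of_isCoatom hTp hM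
  have hzT : z ∈ T := mem_sup_right hzW
  have hTR₁ : T ≤ normalizer (R₁ : Set G) :=
    (normal_subgroupOf_iff_le_normalizer hR₁T).mp (by rw [hMR]; infer_instance)
  have hzp : z ^ p ∈ R₁ := by
    have := M.pow_index_mem ⟨z, hzT⟩
    rw [hind] at this
    exact ⟨_, this, rfl⟩
  have hxR : (x : G) ∈ R := ⟨hxm.2, H60.mem_cj.mpr hxg⟩
  have hxR₁ := hRR₁ hxR
  have hdec : ∀ t ∈ T, ∃ i : Fin p, (z ^ (i : ℕ))⁻¹ * t ∈ R₁ := by
    intro t ht
    have hcard : Nat.card (T ⧸ M) = p := by rw [← index_eq_card, hind]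
    have hzne : (QuotientGroup.mk' M) ⟨z, hzT⟩ ≠ 1 := fun e =>
      hzR ⟨_, (QuotientGroup.eq_one_iff _).mp e, rfl⟩
    obtain ⟨n, hn⟩ := (mem_powers_iff_mem_zpowers.mpr
      (mem_zpowers_of_prime_card hcard hzne : QuotientGroup.mk' M ⟨t, ht⟩ ∈ _))
    simp only at hn
    have hn' : (QuotientGroup.mk' M) ⟨z, hzT⟩ ^ (n % p) = QuotientGroup.mk' M ⟨t, ht⟩ := by
      rw [← hn, ← hcard, pow_mod_natCard]
    refine ⟨⟨n % p, Nat.mod_lt _ hp.out.pos⟩, ?_⟩
    rw [← map_pow] at hn'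
    exact ⟨_, QuotientGroup.eq.mp hn', rfl⟩
  -- the homomorphism on `R₁`
  let τ : R.subgroupOf R₁ →* N :=
    { toFun := fun r => ⟨g⁻¹ * ((r : R₁) : G) * g, H60.mem_cj.mp (show ((r : R₁) : G) ∈ R from r.2).2⟩
      map_one' := Subtype.ext (by simp)
      map_mul' := fun a b => Subtype.ext (by simp [mul_assoc]) }
  haveI : Fintype (R₁ ⧸ R.subgroupOf R₁) := Fintype.ofFinite _
  refine ⟨T, R₁, MonoidHom.transfer (μ.comp τ), x, z, hTS, le_sup_right, hR₁T, ?_, hTR₁, hzW, hzR,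
    hxR₁, hzp, ?_⟩
  · rw [relIndex, hMR, hind]
  have hy : ∀ i : Fin p, (z ^ (i : ℕ))⁻¹ * (x : G) * z ^ (i : ℕ) ∈ R₁ := fun i =>
    (mem_normalizer_iff''.mp (hTR₁ (pow_mem hzT _)) _).mp hxR₁
  have hterm : ∀ (i : Fin p) (c : R₁ ⧸ R.subgroupOf R₁),
      fixTerm (μ.comp τ) (⟨_, hy i⟩ : R₁) c.out =
        F (QuotientGroup.mk (z ^ (i : ℕ) * (c.out : G) * g)) := by
    intro i c
    change _ = fixTerm μ (x : G) (QuotientGroup.mk (z ^ (i : ℕ) * (c.out : G) * g) : G ⧸ N).out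
    rw [fixTerm_out]
    have e : (z ^ (i : ℕ) * (c.out : G) * g)⁻¹ * x * (z ^ (i : ℕ) * (c.out : G) * g) =
        g⁻¹ * ((c.out : G)⁻¹ * ((z ^ (i : ℕ))⁻¹ * x * z ^ (i : ℕ)) * c.out) * g := by group
    by_cases hc : c.out⁻¹ * (⟨_, hy i⟩ : R₁) * c.out ∈ R.subgroupOf R₁
    · have hc' : (c.out : G)⁻¹ * ((z ^ (i : ℕ))⁻¹ * x * z ^ (i : ℕ)) * c.out ∈ R := hc
      rw [fixTerm, fixTerm, dif_pos hc, dif_pos (e ▸ H60.mem_cj.mp hc'.2)]
      exact congrArg μ (Subtype.ext e.symm)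
    · rw [fixTerm, fixTerm, dif_neg hc, dif_neg]
      intro h'
      refine hc (show (c.out : G)⁻¹ * ((z ^ (i : ℕ))⁻¹ * x * z ^ (i : ℕ)) * c.out ∈ R from ⟨?_, ?_⟩)
      · exact hTS (hR₁T (mul_mem (mul_mem (inv_mem c.out.2) (hy i)) c.out.2))
      · exact H60.mem_cj.mpr (e ▸ h')
  suffices hgoal : ∏ i : Fin p, (if h : (z ^ (i : ℕ))⁻¹ * (x : G) * z ^ (i : ℕ) ∈ R₁ then
      MonoidHom.transfer (μ.comp τ) (⟨_, h⟩ : R₁) else 1) =
      ∏ q ∈ Finset.univ.filter (fun q => Quotient.mk (orbitRel W (G ⧸ N)) q = Q), F q by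
    rw [hgoal]; exact hQ
  have hstep : ∀ i : Fin p, (if h : (z ^ (i : ℕ))⁻¹ * (x : G) * z ^ (i : ℕ) ∈ R₁ then
      MonoidHom.transfer (μ.comp τ) (⟨_, h⟩ : R₁) else 1) =
      ∏ c : R₁ ⧸ R.subgroupOf R₁, F (QuotientGroup.mk (z ^ (i : ℕ) * (c.out : G) * g)) := by
    intro i
    rw [dif_pos (hy i), transfer_eq_prod_fixTerm]
    · exact Finset.prod_congr rfl fun c _ => hterm i c
    · intro a n h hn hn1
      set y := (z ^ (i : ℕ))⁻¹ * (x : G) * z ^ (i : ℕ) with hy'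
      have hyC : (a : G)⁻¹ * y * a ∈ commutator G := by
        have h1 := (inferInstance : (commutator G).Normal).conj_mem _ hxm.1
          ((a : G)⁻¹ * (z ^ (i : ℕ))⁻¹)
        simpa [hy', mul_assoc] using h1
      have hord : orderOf ((a : G)⁻¹ * y * a) = orderOf (x : G) := by
        have h1 : orderOf (((a : G)⁻¹ * (z ^ (i : ℕ))⁻¹) * (x : G) * (((a : G)⁻¹ * (z ^ (i : ℕ))⁻¹))⁻¹) = orderOf (x : G) :=
          (MulAut.conj ((a : G)⁻¹ * (z ^ (i : ℕ))⁻¹)).orderOf_eq (x : G)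
        simpa [hy', mul_assoc] using h1
      have hordy : orderOf (⟨_, hy i⟩ : R₁) = orderOf (x : G) := by
        rw [← Subgroup.orderOf_coe]
        have h1 : orderOf ((z ^ (i : ℕ))⁻¹ * (x : G) * ((z ^ (i : ℕ))⁻¹)⁻¹) = orderOf (x : G) :=
          (MulAut.conj (z ^ (i : ℕ))⁻¹).orderOf_eq (x : G)
        simpa [hy', mul_assoc] using h1
      have hpow : ((a : G)⁻¹ * y * a) ^ n = (a : G)⁻¹ * y ^ n * a := by
        simpa using conj_pow (a := ((a : G)⁻¹)) (b := y) (i := n)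
      have hmem : g⁻¹ * ((a : G)⁻¹ * y * a) ^ n * g ∈ N := by
        rw [hpow]
        exact H60.mem_cj.mp (show ((a⁻¹ * (⟨_, hy i⟩ : R₁) ^ n * a : R₁) : G) ∈ R from h).2
      refine (congrArg μ (Subtype.ext ?_)).trans (hsmall g n _ hmem hyC hord ?_ hn1)
      · change g⁻¹ * ((a : G)⁻¹ * y ^ n * a) * g = g⁻¹ * ((a : G)⁻¹ * y * a) ^ n * g
        rw [hpow]
      · rw [hord, ← hordy]; exact hn
  rw [Finset.prod_congr rfl fun i _ => hstep i, ← Fintype.prod_prod_type']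
  have hsmulW : ∀ (r : G), r ∈ R → (QuotientGroup.mk (r * g) : G ⧸ N) = QuotientGroup.mk g :=
    fun r hr => QuotientGroup.eq.mpr (by
      have := inv_mem (H60.mem_cj.mp hr.2)
      simpa [mul_assoc] using this)
  have hRW : R ≤ normalizer (W : Set G) := inf_le_left.trans hSW
  have hWorb : ∀ t ∈ T, ∃ w ∈ W, ∃ r ∈ R, t = w * r := by
    intro t ht
    have ht' : t ∈ ((W ⊔ R : Subgroup G) : Set G) := by rw [sup_comm]; exact ht
    rw [coe_mul_of_right_le_normalizer_left W R hRW] at ht'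
    obtain ⟨w, hw, r, hr, rfl⟩ := Set.mem_mul.mp ht'
    exact ⟨w, hw, r, hr, rfl⟩
  refine Finset.prod_nbij (fun q => QuotientGroup.mk (z ^ (q.1 : ℕ) * (q.2.out : G) * g)) ?_ ?_ ?_
    (fun _ _ => rfl)
  · intro q _
    obtain ⟨w, hw, r, hr, hwr⟩ := hWorb (z ^ (q.1 : ℕ) * (q.2.out : G))
      (mul_mem (pow_mem hzT _) (hR₁T q.2.out.2))
    simp only [Finset.mem_filter, Finset.mem_univ, true_and]
    rw [← hq₀Q]
    refine Quotient.sound ⟨⟨w, hw⟩, ?_⟩
    change w • q₀ = _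
    rw [hwr, mul_assoc, ← QuotientGroup.out_eq' q₀, ← hg, MulAction.Quotient.smul_mk, smul_eq_mul]
    exact QuotientGroup.eq.mpr (by
      have := QuotientGroup.eq.mp (hsmulW r hr).symm
      simpa [mul_assoc] using this)
  · rintro ⟨i, c⟩ _ ⟨j, d⟩ _ he
    have h1 := QuotientGroup.eq.mp he
    set t := (z ^ (i : ℕ) * (c.out : G))⁻¹ * (z ^ (j : ℕ) * (d.out : G)) with htdef
    have h2 : g⁻¹ * t * g ∈ N := by simpa [htdef, mul_assoc] using h1
    have htT : t ∈ T := mul_mem (inv_mem (mul_mem (pow_mem hzT _) (hR₁T c.out.2)))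
      (mul_mem (pow_mem hzT _) (hR₁T d.out.2))
    have htR : t ∈ R := ⟨hTS htT, H60.mem_cj.mpr h2⟩
    have hij : i = j := by
      have h3 : (z ^ (i : ℕ))⁻¹ * z ^ (j : ℕ) ∈ R₁ := by
        have := mul_mem (mul_mem c.out.2 (hRR₁ htR)) (inv_mem d.out.2)
        simpa [htdef, mul_assoc] using this
      by_contra hne
      have key : ∀ m : ℕ, 0 < m → m < p → z ^ m ∉ R₁ := fun m h0 hm hzm => hzR (by
        have hcop : m.Coprime p :=
          (hp.out.coprime_iff_not_dvd.mpr (Nat.not_dvd_of_pos_of_lt h0 hm)).symm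
        obtain ⟨a, b, hab⟩ := (Nat.isCoprime_iff_coprime.mpr hcop)
        have := mul_mem (zpow_mem hzm a) (zpow_mem hzp b)
        rwa [← zpow_natCast z m, ← zpow_natCast z p, ← zpow_mul, ← zpow_mul, ← zpow_add,
          mul_comm (m : ℤ), mul_comm (p : ℤ), hab, zpow_one] at this)
      rcases lt_or_gt_of_ne (fun e : (i : ℕ) = j => hne (Fin.ext e)) with hlt | hlt
      · exact key ((j : ℕ) - i) (by omega) (by omega) (by
          have e2 : z ^ ((j : ℕ) - i) = (z ^ (i : ℕ))⁻¹ * z ^ (j : ℕ) := by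
            rw [eq_inv_mul_iff_mul_eq, ← pow_add]; congr 1; omega
          rwa [e2])
      · exact key ((i : ℕ) - j) (by omega) (by omega) (by
          have e2 : z ^ ((i : ℕ) - j) = ((z ^ (i : ℕ))⁻¹ * z ^ (j : ℕ))⁻¹ := by
            rw [mul_inv_rev, inv_inv, eq_inv_mul_iff_mul_eq, ← pow_add]; congr 1; omega
          rw [e2]; exact inv_mem h3)
    subst hij
    refine Prod.ext rfl ?_
    rw [← QuotientGroup.out_eq' c, ← QuotientGroup.out_eq' d]
    refine QuotientGroup.eq.mpr (show (c.out : G)⁻¹ * d.out ∈ R from ?_)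
    rw [htdef] at htR
    simpa [mul_assoc] using htR
  · intro q hq
    replace hq := (Finset.mem_filter.mp hq).2
    obtain ⟨⟨w, hw⟩, hwq⟩ := Quotient.exact (hq.trans hq₀Q.symm)
    obtain ⟨i, hi⟩ := hdec w (mem_sup_right hw)
    refine ⟨(i, QuotientGroup.mk ⟨_, hi⟩), Finset.mem_univ _, ?_⟩
    obtain ⟨r, hr⟩ := QuotientGroup.mk_out_eq_mul (R.subgroupOf R₁) (⟨_, hi⟩ : R₁)
    rw [← hwq]
    change _ = w • q₀
    rw [← QuotientGroup.out_eq' q₀, ← hg, MulAction.Quotient.smul_mk, smul_eq_mul]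
    simp only [hr, Subgroup.coe_mul]
    rw [show z ^ (i : ℕ) * ((z ^ (i : ℕ))⁻¹ * w * ((r : R₁) : G)) * g = w * (((r : R₁) : G) * g) by group]
    exact QuotientGroup.eq.mpr (by
      have := QuotientGroup.eq.mp (hsmulW _ r.2)
      simpa [mul_assoc] using this)

end Cfsg.Agent.H59
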