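import Cfsg.Agent.Linear.TwoClasses
import Cfsg.Agent.Linear.Order
import Cfsg.Agent.Arith.LargePrimDiv

/-!
# Two conjugates of a unipotent element of `SL₂(q)` give elements of large primitive order
-/

set_option autoImplicit false

namespace Cfsg.Agent.H59

open Matrix Cfsg.Agent

variable {F : Type*} [Field F]

local notation "M2" => Matrix (Fin 2) (Fin 2) F
local notation "S2" => Matrix.SpecialLinearGroup (Fin 2) F

theorem charP_of_card_eq [Fintype F] {p n : ℕ} [Fact p.Prime] (hF : Fintype.card F = p ^ n) :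
    CharP F p ∧ n ≠ 0 := by
  have hn : n ≠ 0 := fun h => by
    rw [h, pow_zero] at hF
    exact absurd hF (Fintype.one_lt_card).ne'
  obtain ⟨c, hc⟩ := CharP.exists F
  obtain ⟨f, hcp, hf⟩ := FiniteField.card F c
  rw [hF] at hf
  have : p ∣ c := (Fact.out : p.Prime).dvd_of_dvd_pow (hf ▸ dvd_pow_self p hn)
  rw [(Nat.prime_dvd_prime_iff_eq Fact.out hcp).mp this]
  exact ⟨hc, hn⟩

/-- `r` is a power of an odd prime dividing `p^n + 1` but no `p^k - 1` with `0 < k < 2n`. -/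
def IsPrimitivePow (p n r : ℕ) : Prop :=
  (∃ ℓ e : ℕ, ℓ.Prime ∧ ℓ ≠ 2 ∧ ℓ ≠ p ∧ r = ℓ ^ (e + 1)) ∧ r ∣ p ^ n + 1 ∧
    ∀ k, 0 < k → k < 2 * n → ¬ r ∣ p ^ k - 1

theorem exists_primitivePow {p n : ℕ} (hp : p.Prime) (hn : 2 ≤ n) : ∃ r, IsPrimitivePow p n r := by
  by_cases h8 : p = 2 ∧ n = 3
  · obtain ⟨rfl, rfl⟩ := h8
    refine ⟨9, ⟨3, 1, Nat.prime_three, by norm_num, by norm_num, by norm_num⟩, by norm_num, ?_⟩
    intro k h1 h2
    interval_cases k <;> norm_num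
  · obtain ⟨r, hr, hd, hk⟩ := Arith.exists_isPPD hp.one_lt (show 1 < 2 * n by omega)
      (fun h => h8 ⟨h.1, by omega⟩) (fun h => by omega)
    have hsq : p ^ (2 * n) - 1 = (p ^ n + 1) * (p ^ n - 1) := by
      rw [mul_comm 2 n, pow_mul]; simpa using Nat.sq_sub_sq (p ^ n) 1
    have hrp : r ≠ p := fun h => by
      subst h
      have h1 : r ∣ r ^ (2 * n) := dvd_pow_self r (by omega)
      have := Nat.dvd_sub h1 hd
      rw [show r ^ (2 * n) - (r ^ (2 * n) - 1) = 1 by have := Nat.one_le_pow (2 * n) r hp.pos; omega] at this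
      exact hp.one_lt.ne' (Nat.dvd_one.mp this)
    have hr2 : r ≠ 2 := fun h => by
      subst h
      refine hk 1 one_pos (by omega) ?_
      rw [pow_one]
      have := hp.odd_of_ne_two (Ne.symm hrp)
      exact (Nat.Odd.sub_odd this odd_one).two_dvd
    refine ⟨r, ⟨r, 0, hr, hr2, hrp, by simp⟩, ?_, hk⟩
    rw [hsq] at hd
    exact (hr.dvd_mul.mp hd).resolve_right (hk n (by omega) (by omega))

theorem sylow_conj_unitri [Fintype F] {p : ℕ} [Fact p.Prime] [CharP F p] (P : Sylow p S2)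
    {x : S2} (hx : x ∈ (P : Subgroup S2)) : (x : M2).trace = 2 := by
  obtain ⟨g, rfl⟩ := MulAction.exists_smul_eq S2 (Linear.unitriSylowSL 2 F p) P
  obtain ⟨u, hu, rfl⟩ := hx
  have hu' := Linear.unitriSL_two_eq.mp (show u ∈ Linear.unitriSL 2 F from hu)
  change ((g * u * g⁻¹ : S2) : M2).trace = 2
  rw [Linear.trace_conj, Linear.trace_SL_two, hu'.2.1, hu'.2.2]
  norm_num

/-- A unipotent element and a conjugate have a product whose square has order `r` modulo the centre. -/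
theorem exists_word_order [Fintype F] {p n r : ℕ} [Fact p.Prime] (hF : Fintype.card F = p ^ n)
    (hr : IsPrimitivePow p n r) {x : S2} (hns : ¬ Linear.IsScalarTwo (x : M2))
    (ht : (x : M2).trace = 2) :
    ∃ h : S2, ∀ k : ℕ, ((x * (h * x * h⁻¹)) ^ 2) ^ k ∈ Subgroup.center S2 ↔ r ∣ k := by
  obtain ⟨hchar, hn⟩ := charP_of_card_eq hF
  obtain ⟨⟨ℓ, e, hℓ, hℓ2, hℓp, rfl⟩, hrd, -⟩ := hr
  have : Fact ℓ.Prime := ⟨hℓ⟩
  -- an element of order `r`
  obtain ⟨R⟩ := Sylow.nonempty (p := ℓ) (G := S2)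
  have hRc : IsCyclic R := Linear.isCyclic_of_isPGroup p hℓ2 hℓp R.isPGroup'
  have hdvd : ℓ ^ (e + 1) ∣ Nat.card R := by
    refine Sylow.pow_dvd_card_of_pow_dvd_card R ?_
    rw [Linear.card_SL_two, hF, show (p ^ n) ^ 2 - 1 = (p ^ n + 1) * (p ^ n - 1) by
      simpa using Nat.sq_sub_sq (p ^ n) 1]
    exact (hrd.mul_right _).mul_left _
  obtain ⟨z₀, hz₀⟩ := IsCyclic.exists_generator (α := R)
  have hord : orderOf z₀ = Nat.card R := orderOf_eq_card_of_forall_mem_zpowers hz₀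
  obtain ⟨d, hd⟩ := hdvd
  have hd0 : d ≠ 0 := fun h => by rw [h, mul_zero] at hd; exact Nat.card_pos.ne' hd
  set z : S2 := ((z₀ ^ d : R) : S2) with hz
  have hzo : orderOf z = ℓ ^ (e + 1) := by
    rw [hz, Subgroup.orderOf_coe, orderOf_pow' _ hd0, hord, hd]
    simp [Nat.gcd_mul_left_left, Nat.pos_of_ne_zero hd0]
  obtain ⟨y, hy⟩ : ∃ y : S2, y = z ^ 2 := ⟨_, rfl⟩
  have hr2 : Nat.Coprime (ℓ ^ (e + 1)) 2 :=
    ((Nat.coprime_primes hℓ Nat.prime_two).mpr hℓ2).pow_left _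
  have hyo : orderOf y = ℓ ^ (e + 1) := by
    rw [hy, Nat.Coprime.orderOf_pow (by rw [hzo]; exact hr2), hzo]
  have hyc : ∀ k : ℕ, y ^ k ∈ Subgroup.center S2 ↔ ℓ ^ (e + 1) ∣ k := by
    intro k
    refine ⟨fun hk => ?_, fun hk => by rw [orderOf_dvd_iff_pow_eq_one.mp (hyo ▸ hk)]; exact one_mem _⟩
    refine hr2.dvd_of_dvd_mul_right ?_
    rw [← hyo]
    refine orderOf_dvd_of_pow_eq_one ?_
    rw [pow_mul]
    rcases Linear.mem_center_SL_two.mp hk with h | h
    · rw [h, one_pow]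
    · rw [h, neg_one_sq]
  have hyns : ¬ Linear.IsScalarTwo (y : M2) := by
    intro h
    have := (hyc 1).mp (by rw [pow_one]; exact Linear.mem_center_SL_two.mpr (Linear.isScalarTwo_SL_iff.mp h))
    exact (Nat.one_lt_pow (by omega) hℓ.one_lt).ne' (Nat.dvd_one.mp this)
  have hyt : (y : M2).trace ^ 2 ≠ 4 := Linear.trace_sq_ne_four p hyns
    (by rw [hyo]; exact ((Nat.coprime_primes hℓ Fact.out).mpr hℓp).pow_left _)
  set τ := (z : M2).trace with hτ
  have hτy : (y : M2).trace = τ ^ 2 - 2 := by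
    rw [hy, show ((z ^ 2 : S2) : M2) = (z : M2) * (z : M2) by simp [pow_two], Linear.SL_sq_eq, Matrix.trace_sub, Matrix.trace_smul,
      Matrix.trace_one, Fintype.card_fin, smul_eq_mul, ← hτ]
    simp [pow_two]
  have hτ0 : τ ≠ 0 := fun h => hyt (by rw [hτy, h]; norm_num)
  -- `x` is conjugate to an upper unitriangular element
  obtain ⟨b, hb, hconj⟩ := Linear.exists_conj_upSL hns ht
  obtain ⟨c, hc⟩ := isConj_iff.mp hconj
  set s : F := τ / b with hs
  have hs0 : s ≠ 0 := div_ne_zero hτ0 hb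
  let m : S2 := ⟨!![0, -1; 1, 0] * !![s, 0; 0, s⁻¹], by
    simp [Matrix.det_fin_two_of, hs0]⟩
  have hm : ((m : S2) : M2) = !![0, -s⁻¹; s, 0] := by
    change (!![0, -1; 1, 0] * !![s, 0; 0, s⁻¹] : M2) = _
    simp
  set g : S2 := Linear.upSL b * (m * Linear.upSL b * m⁻¹) with hg
  have hgt : (g : M2).trace = -(y : M2).trace := by
    obtain ⟨i00, i11, i01, i10⟩ := Linear.SL_inv_entries m
    rw [Linear.trace_SL_two, hg]
    simp only [Linear.SL_mul_entries, i00, i11, i01, i10, hm, Linear.upSL_coe]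
    rw [hτy]
    simp [hs]
    field_simp
    ring
  have hyn : ((-y : S2) : M2).trace = -(y : M2).trace := by simp
  have hgt4 : (g : M2).trace ^ 2 ≠ 4 := by rw [hgt, neg_sq]; exact hyt
  have hgy : IsConj (-y) g := Linear.isConj_of_trace_eq
    (Linear.not_isScalarTwo_of_trace (by rw [hyn, neg_sq]; exact hyt))
    (Linear.not_isScalarTwo_of_trace hgt4) (hyn.trans hgt.symm) (Or.inr (by rw [hyn, neg_sq]; exact hyt))
  obtain ⟨w, hw⟩ := isConj_iff.mp hgy
  refine ⟨c * m * c⁻¹, fun k => ?_⟩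
  have key : x * (c * m * c⁻¹ * x * (c * m * c⁻¹)⁻¹) = (c * w) * (-y) * (c * w)⁻¹ := by
    rw [show (c * w) * (-y) * (c * w)⁻¹ = c * (w * (-y) * w⁻¹) * c⁻¹ by group, hw, hg, ← hc]
    group
  rw [key, conj_pow, conj_pow, neg_sq, ← pow_mul]
  constructor
  · intro h
    refine hr2.dvd_of_dvd_mul_left ((hyc (2 * k)).mp ?_)
    have := (inferInstance : (Subgroup.center S2).Normal).conj_mem _ h (c * w)⁻¹
    simpa [mul_assoc] using this
  · intro h
    rw [(orderOf_dvd_iff_pow_eq_one.mp (hyo ▸ h.mul_left 2) : y ^ (2 * k) = 1)]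
    simp

end Cfsg.Agent.H59
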