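import Cfsg.Agent.H59.HeSp4

/-!
The centraliser in `Sp₄(4).2` of the involution given by the fourth letter has order at most 512.
-/

set_option autoImplicit false

namespace Cfsg.Agent.H59.HeCentH

open Cfsg.Agent.H45 Cfsg.Agent.H59.HeSp4 Matrix

local notation "i0" => (Sum.inl 0 : I4)
local notation "i1" => (Sum.inl 1 : I4)
local notation "i2" => (Sum.inr 0 : I4)
local notation "i3" => (Sum.inr 1 : I4)

theorem mat3_eq : mat 3 = Matrix.of (Sum.elim
    ![(Sum.elim ![1, 0] ![1, 0] : I4 → F4), Sum.elim ![0, 1] ![0, 0]]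
    ![(Sum.elim ![0, 0] ![1, 0] : I4 → F4), Sum.elim ![0, 1] ![0, 1]]) := by decide +kernel

theorem J_eq : Matrix.J (Fin 2) F4 = Matrix.of (Sum.elim
    ![(Sum.elim ![0, 0] ![1, 0] : I4 → F4), Sum.elim ![0, 0] ![0, 1]]
    ![(Sum.elim ![1, 0] ![0, 0] : I4 → F4), Sum.elim ![0, 1] ![0, 0]]) := by decide +kernel

theorem cancel : ∀ x y : F4, x + y = x ↔ y = 0 := by decide

theorem cancel' : ∀ x y : F4, x + y = y ↔ x = 0 := by decide

theorem sq_sum : ∀ a q : F4, a * a + q * q = 1 → q = a + 1 := by decide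

theorem cross : ∀ a p : F4, a * p + (a + 1) * (p + 1) = 0 → p = a + 1 := by decide

theorem aa1 : ∀ a : F4, a + 1 + 1 = a := by decide

/-- The shape of a matrix of `Sp₄(4)` commuting with the involution. -/
theorem shape {M : Matrix I4 I4 F4} (hc : M * mat 3 = mat 3 * M)
    (hs : M * Matrix.J (Fin 2) F4 * M.transpose = Matrix.J (Fin 2) F4) :
    M i1 i0 = 0 ∧ M i2 i0 = 0 ∧ M i1 i3 = 0 ∧ M i2 i3 = 0 ∧ M i2 i2 = M i0 i0 ∧
    M i2 i1 = M i0 i0 + 1 ∧ M i0 i3 = M i0 i0 + 1 ∧ M i3 i3 = M i0 i0 ∧ M i1 i1 = M i0 i0 ∧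
    M i1 i2 = M i0 i0 + 1 ∧ M i3 i0 = M i0 i0 + 1 ∧
    M i0 i0 * M i3 i2 + (M i0 i0 + 1) * M i0 i2 + M i0 i0 * M i0 i1 +
      (M i0 i0 + 1) * M i3 i1 = 0 := by
  have C := fun r c => congrFun (congrFun hc r) c
  have S := fun r c => congrFun (congrFun hs r) c
  simp only [Matrix.mul_apply, Fintype.sum_sum_type, Fin.sum_univ_two, mat3_eq, J_eq,
    Matrix.transpose_apply, Matrix.of_apply] at C S
  have c02 := C i0 i2; have c01 := C i0 i1; have c00 := C i0 i0; have c03 := C i0 i3
  have c11 := C i1 i1; have c12 := C i1 i2; have c22 := C i2 i2; have c21 := C i2 i1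
  have c31 := C i3 i1; have c32 := C i3 i2; have c30 := C i3 i0; have c33 := C i3 i3
  simp only [Sum.elim_inl, Sum.elim_inr, Matrix.cons_val_zero, Matrix.cons_val_one,
    Matrix.cons_val_fin_one, mul_one, mul_zero, one_mul, zero_mul, add_zero, zero_add,
    cancel, cancel', left_eq_add, right_eq_add, add_eq_left, add_eq_right]
    at c02 c01 c00 c03 c11 c12 c22 c21 c31 c32 c30 c33
  have e22 : M i2 i2 = M i0 i0 := by linear_combination (-1 : F4) * c02
  have e33 : M i3 i3 = M i1 i1 := by linear_combination c31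
  have e21 : M i2 i1 = M i0 i3 := by linear_combination (-1 : F4) * c01
  have e30 : M i3 i0 = M i1 i2 := by linear_combination c32
  have s02 := S i0 i2; have s31 := S i3 i1; have s01 := S i0 i1; have s03 := S i0 i3
  simp only [Sum.elim_inl, Sum.elim_inr, Matrix.cons_val_zero, Matrix.cons_val_one,
    Matrix.cons_val_fin_one, mul_one, mul_zero, one_mul, zero_mul, add_zero, zero_add,
    c00, c11, c22, c33, c03, c30, c12, c21, e22, e33, e21, e30] at s02 s31 s01 s03
  have q : M i0 i3 = M i0 i0 + 1 := sq_sum _ _ (by linear_combination s02)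
  have d : M i1 i1 = M i1 i2 + 1 := sq_sum _ _ (by linear_combination s31)
  have p : M i1 i2 = M i0 i0 + 1 := cross _ _ (by
    rw [← d, ← q]; linear_combination s01)
  refine ⟨?_, ?_, ?_, ?_, e22, e21.trans q, q, ?_, ?_, p, e30.trans p, ?_⟩
  all_goals try assumption
  · rw [e33, d, p, aa1]
  · rw [d, p, aa1]
  · rw [d, p, aa1, q] at s03
    linear_combination s03

theorem shape_inj {M M' : Matrix I4 I4 F4} (hc : M * mat 3 = mat 3 * M)
    (hs : M * Matrix.J (Fin 2) F4 * M.transpose = Matrix.J (Fin 2) F4)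
    (hc' : M' * mat 3 = mat 3 * M')
    (hs' : M' * Matrix.J (Fin 2) F4 * M'.transpose = Matrix.J (Fin 2) F4)
    (ha : M i0 i0 = M' i0 i0) (hx : M i0 i2 = M' i0 i2) (hy : M i0 i1 = M' i0 i1)
    (hz : M i3 i1 + M i3 i2 = M' i3 i1 + M' i3 i2) : M = M' := by
  obtain ⟨h1, h2, h3, h4, h5, h6, h7, h8, h9, h10, h11, h12⟩ := shape hc hs
  obtain ⟨g1, g2, g3, g4, g5, g6, g7, g8, g9, g10, g11, g12⟩ := shape hc' hs'
  rw [← ha, ← hx, ← hy] at g12
  have hu : M i3 i1 = M' i3 i1 := by linear_combination h12 - g12 - M i0 i0 * hz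
  have hw : M i3 i2 = M' i3 i2 := by linear_combination hz - hu
  refine Matrix.ext fun r c => ?_
  rcases r with r | r <;> rcases c with c | c <;> fin_cases r <;> fin_cases c <;>
    simp only [Fin.zero_eta, Fin.mk_one, ha, hx, hy, hu, hw, h1, h2, h3, h4, h5, h6, h7, h8, h9,
      h10, h11, g1, g2, g3, g4, g5, g6, g7, g8, g9, g10, g11]

/-- The letter as an element of `H`. -/
theorem card_centralizer_le (z : HeMain.H) (hz : (z : HePres.pres.Gp) = eH 3) :
    Nat.card (Subgroup.centralizer ({z} : Set HeMain.H)) ≤ 512 := by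
  classical
  obtain ⟨hfin, -, -⟩ := HeMain.order_facts
  have := hfin
  obtain ⟨hE, θ, hinj, hθ, -, hsemi, hHcard⟩ := exists_theta
  let g : Sp4 := ⟨mat 3, SymplecticGroup.mem_iff.mpr (mat_mem 3)⟩
  have hθz : θ z = lin g := by
    rw [show z = ⟨eH 3, hE 3 (by norm_num)⟩ from Subtype.ext hz, hθ 3 (by norm_num)]
    refine Equiv.ext fun i => Fin.ext ?_
    have h := congrArg Fin.val (table_eq 3 i)
    have hb : HeSpCert.twist.getD 3 false = false := rfl
    have hlt := (permCheck_PT HeSpCert.perm_ok).lt 3 (by norm_num) i i.isLt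
    change (idx (mat 3 *ᵥ if HeSpCert.twist.getD 3 false then _ else lab i)).val =
      tget HeJ255.cols i 3 % 255 at h
    simp only [hb, Bool.false_eq_true, if_false, Nat.mod_eq_of_lt hlt] at h
    simpa [sig, lin_apply, g, linv_range] using h.symm
  let N := lin.range.comap θ
  have hle : lin.range ≤ θ.range := hsemi ▸ le_sup_left
  have hN : Nat.card N = 979200 := by
    rw [← card_Sp4, ← Subgroup.card_map_of_injective hinj (K := N), Subgroup.map_comap_eq,
      inf_eq_right.mpr hle]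
    exact Nat.card_range_of_injective lin_injective
  have hidx : N.index = 2 := by
    have := N.card_mul_index
    rw [hN, hHcard] at this
    omega
  have := Subgroup.normal_of_index_eq_two hidx
  set C := Subgroup.centralizer ({z} : Set HeMain.H)
  have h2 : (N.subgroupOf C).index ≤ 2 :=
    Nat.le_of_dvd two_pos (hidx ▸ Subgroup.relIndex_dvd_index_of_normal N C)
  have hex : ∀ x : N.subgroupOf C, ∃ M : Sp4, lin M = θ ((x : C) : HeMain.H) := fun x => x.2
  choose f hf using hex
  have hfc : ∀ x, (f x : Matrix I4 I4 F4) * mat 3 = mat 3 * (f x : Matrix I4 I4 F4) := by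
    intro x
    have hx := Subgroup.mem_centralizer_singleton_iff.mp (x : C).2
    have : f x * g = g * f x := lin_injective (by
      rw [map_mul, map_mul, hf, ← hθz, ← map_mul, ← map_mul, hx])
    exact congrArg Subtype.val this
  have hK : Nat.card (N.subgroupOf C) ≤ 256 := by
    let key : N.subgroupOf C → F4 × F4 × F4 × F4 := fun x =>
      let M : Matrix I4 I4 F4 := f x
      (M i0 i0, M i0 i2, M i0 i1, M i3 i1 + M i3 i2)
    have hinj' : Function.Injective key := by
      intro x y h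
      simp only [key, Prod.mk.injEq] at h
      have : f x = f y := Subtype.ext (shape_inj (hfc x) (SymplecticGroup.mem_iff.mp (f x).2)
        (hfc y) (SymplecticGroup.mem_iff.mp (f y).2) h.1 h.2.1 h.2.2.1 h.2.2.2)
      have e : θ ((x : C) : HeMain.H) = θ ((y : C) : HeMain.H) := by rw [← hf, ← hf, this]
      exact Subtype.ext (Subtype.ext (hinj e))
    refine (Nat.card_le_card_of_injective key hinj').trans ?_
    simp [card_F4]
  have := (N.subgroupOf C).card_mul_index
  rw [← this]
  calc _ ≤ 256 * 2 := Nat.mul_le_mul hK h2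
    _ = 512 := by norm_num

end Cfsg.Agent.H59.HeCentH
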