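import Cfsg.Agent.H59.HeCentChecks
import Cfsg.Agent.H59.HeCentH
import Cfsg.Agent.Compute.Classes

/-!
An involution of He whose centraliser is the centraliser of a transvection in `SL(5,2)`.
-/

set_option autoImplicit false

namespace Cfsg.Agent.H59.HeCentMain

open Cfsg.Agent.Compute Cfsg.Agent.H45 HeCentBase Matrix

abbrev SL5 : Type := Matrix.SpecialLinearGroup (Fin 5) (ZMod 2)

/-- the vector of a point -/
def vec (i : Fin 31) : Fin 5 → ZMod 2 := fun j => (((i : ℕ) + 1) / 2 ^ (j : ℕ) % 2 : ℕ)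

/-- the point of a vector -/
def idx (v : Fin 5 → ZMod 2) : Fin 31 :=
  Fin.ofNat 31 ((v 0).val + 2 * (v 1).val + 4 * (v 2).val + 8 * (v 3).val + 16 * (v 4).val - 1)

theorem idx_vec : ∀ i, idx (vec i) = i := by decide +kernel

theorem vec_ne : ∀ i, vec i ≠ 0 := by decide +kernel

theorem vec_idx : ∀ v : Fin 5 → ZMod 2, v ≠ 0 → vec (idx v) = v := by decide +kernel

theorem mulVec_ne (g : SL5) {v : Fin 5 → ZMod 2} (hv : v ≠ 0) :
    (g : Matrix (Fin 5) (Fin 5) (ZMod 2)) *ᵥ v ≠ 0 := fun h => hv (by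
  have e : ((g⁻¹ : SL5) : Matrix (Fin 5) (Fin 5) (ZMod 2)) * (g : Matrix (Fin 5) (Fin 5) (ZMod 2)) = 1 := by
    rw [← Matrix.SpecialLinearGroup.coe_mul, inv_mul_cancel, Matrix.SpecialLinearGroup.coe_one]
  have := congrArg (((g⁻¹ : SL5) : Matrix (Fin 5) (Fin 5) (ZMod 2)) *ᵥ ·) h
  simp only [Matrix.mulVec_mulVec, Matrix.mulVec_zero, e, Matrix.one_mulVec] at this
  exact this)

/-- the action on nonzero vectors -/
def nu : SL5 →* Equiv.Perm (Fin 31) :=
  MonoidHom.toHomPerm
    { toFun := fun g i => idx ((g : Matrix (Fin 5) (Fin 5) (ZMod 2)) *ᵥ vec i)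
      map_one' := funext fun i => by
        show idx (((1 : SL5) : Matrix (Fin 5) (Fin 5) (ZMod 2)) *ᵥ vec i) = i
        rw [Matrix.SpecialLinearGroup.coe_one, Matrix.one_mulVec, idx_vec]
      map_mul' := fun g h => funext fun i => by
        show idx (((g * h : SL5) : Matrix (Fin 5) (Fin 5) (ZMod 2)) *ᵥ vec i) =
          idx ((g : Matrix (Fin 5) (Fin 5) (ZMod 2)) *ᵥ vec (idx ((h : Matrix (Fin 5) (Fin 5) (ZMod 2)) *ᵥ vec i)))
        rw [vec_idx _ (mulVec_ne h (vec_ne i)), Matrix.mulVec_mulVec,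
          Matrix.SpecialLinearGroup.coe_mul] }

theorem nu_apply (g : SL5) (i : Fin 31) :
    nu g i = idx ((g : Matrix (Fin 5) (Fin 5) (ZMod 2)) *ᵥ vec i) := rfl

theorem nu_injective : Function.Injective nu := by
  intro g h e
  refine Subtype.ext (Matrix.ext fun r c => ?_)
  have hne : (Pi.single c 1 : Fin 5 → ZMod 2) ≠ 0 := by simp
  have h1 : nu g (idx (Pi.single c 1)) = nu h (idx (Pi.single c 1)) := by rw [e]
  rw [nu_apply, nu_apply, vec_idx _ hne] at h1
  have h2 := congrArg vec h1
  rw [vec_idx _ (mulVec_ne g hne), vec_idx _ (mulVec_ne h hne)] at h2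
  simpa using congrFun h2 r

/-- the matrix of a generator -/
def toM (ms : List (List ℕ)) (k : ℕ) : Matrix (Fin 5) (Fin 5) (ZMod 2) :=
  Matrix.of fun r c => if Nat.testBit ((ms.getD k []).getD r 0) c then 1 else 0

theorem inv_ok : ∀ k : Fin 11,
    toM HeCentWords.mats k * toM HeCentWords.invMats k = 1 := by decide +kernel

theorem comm_ok : ∀ k : Fin 11, toM HeCentWords.mats k * Matrix.transvection 0 1 1 =
    Matrix.transvection 0 1 1 * toM HeCentWords.mats k := by decide +kernel

theorem perm_ok : ∀ (k : Fin 11) (i : Fin 31),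
    (idx (toM HeCentWords.mats k *ᵥ vec i) : ℕ) =
      getP 5 (nth (([], 0), ([], 0)) (nextGens HeCentD.chain) k).1.2 i := by decide +kernel

theorem det_one : ∀ a b : ZMod 2, a * b = 1 → a = 1 := by decide

/-- the element of `SL5` of a generator -/
def gSL (k : Fin 11) : SL5 :=
  ⟨toM HeCentWords.mats k, det_one _ (toM HeCentWords.invMats k).det (by
    rw [← Matrix.det_mul, inv_ok k, Matrix.det_one])⟩

theorem gSL_mem (k : Fin 11) (s : SL5)
    (hs : (s : Matrix (Fin 5) (Fin 5) (ZMod 2)) = Matrix.transvection 0 1 1) :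
    gSL k ∈ Subgroup.centralizer ({s} : Set SL5) := by
  rw [Subgroup.mem_centralizer_singleton_iff]
  apply Subtype.ext
  rw [Matrix.SpecialLinearGroup.coe_mul, Matrix.SpecialLinearGroup.coe_mul, hs]
  exact comm_ok k

theorem gl3_count : (Finset.univ.filter fun B : (Fin 3 → ZMod 2) × (Fin 3 → ZMod 2) × (Fin 3 → ZMod 2) =>
    B.1 0 * (B.2.1 1 * B.2.2 2 - B.2.1 2 * B.2.2 1) - B.1 1 * (B.2.1 0 * B.2.2 2 - B.2.1 2 * B.2.2 0)
      + B.1 2 * (B.2.1 0 * B.2.2 1 - B.2.1 1 * B.2.2 0) ≠ 0).card = 168 := by decide +kernel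

theorem card_centralizer_sl (s : SL5)
    (hs : (s : Matrix (Fin 5) (Fin 5) (ZMod 2)) = Matrix.transvection 0 1 1) :
    Nat.card (Subgroup.centralizer ({s} : Set SL5)) ≤ 21504 := by
  classical
  let C := Subgroup.centralizer ({s} : Set SL5)
  have hcan : ∀ a b : ZMod 2, a + b = a ↔ b = 0 := by decide
  have hshape : ∀ M : C, let A : Matrix (Fin 5) (Fin 5) (ZMod 2) := ((M : SL5) : Matrix _ _ _)
      (∀ i, i ≠ 0 → A i 0 = 0) ∧ (∀ j, j ≠ 1 → A 1 j = 0) ∧ A 1 1 = A 0 0 := by
    intro M A
    have h' : (M : SL5) * s = s * (M : SL5) := Subgroup.mem_centralizer_singleton_iff.mp M.2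
    have h := congrArg (fun g : SL5 => (g : Matrix (Fin 5) (Fin 5) (ZMod 2))) h'
    simp only [Matrix.SpecialLinearGroup.coe_mul, hs] at h
    have hc := fun r c => congrFun (congrFun h r) c
    refine ⟨fun i hi => ?_, fun j hj => ?_, ?_⟩
    · have := hc i 1
      rw [Matrix.transvection_mul_apply_of_ne (i := (0 : Fin 5)) _ _ _ hi,
        Matrix.mul_transvection_apply_same, one_mul] at this
      exact (hcan _ _).mp this
    · have := hc 0 j
      rw [Matrix.mul_transvection_apply_of_ne (hb := hj), Matrix.transvection_mul_apply_same,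
        one_mul] at this
      exact (hcan _ _).mp this.symm
    · have := hc 0 1
      rw [Matrix.mul_transvection_apply_same, Matrix.transvection_mul_apply_same,
        one_mul, one_mul] at this
      exact (add_left_cancel this).symm
  have h00 : ∀ M : C, ((M : SL5) : Matrix (Fin 5) (Fin 5) (ZMod 2)) 0 0 = 1 := by
    intro M
    have h : ((M : SL5) : Matrix (Fin 5) (Fin 5) (ZMod 2)) *
        (((M⁻¹ : C) : SL5) : Matrix (Fin 5) (Fin 5) (ZMod 2)) = 1 := by
      rw [← Matrix.SpecialLinearGroup.coe_mul, Subgroup.coe_inv, mul_inv_cancel,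
        Matrix.SpecialLinearGroup.coe_one]
    have h0 := congrFun (congrFun h 0) 0
    rw [Matrix.mul_apply, Fin.sum_univ_five, Matrix.one_apply_eq] at h0
    simp only [(hshape M⁻¹).1 1 (by decide), (hshape M⁻¹).1 2 (by decide),
      (hshape M⁻¹).1 3 (by decide), (hshape M⁻¹).1 4 (by decide), mul_zero, add_zero] at h0
    exact det_one _ _ h0
  let T := {B : (Fin 3 → ZMod 2) × (Fin 3 → ZMod 2) × (Fin 3 → ZMod 2) //
    B.1 0 * (B.2.1 1 * B.2.2 2 - B.2.1 2 * B.2.2 1) - B.1 1 * (B.2.1 0 * B.2.2 2 - B.2.1 2 * B.2.2 0)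
      + B.1 2 * (B.2.1 0 * B.2.2 1 - B.2.1 1 * B.2.2 0) ≠ 0}
  let blk : Fin 3 → Fin 5 := fun i => ⟨i.1 + 2, by omega⟩
  let B : C → Matrix (Fin 3) (Fin 3) (ZMod 2) :=
    fun M => ((M : SL5) : Matrix (Fin 5) (Fin 5) (ZMod 2)).submatrix blk blk
  have hB : ∀ M : C, (B M).det ≠ 0 := by
    intro M
    have h : B M * B M⁻¹ = 1 := by
      ext i j
      have h : (((M : SL5) : Matrix (Fin 5) (Fin 5) (ZMod 2)) *
          (((M⁻¹ : C) : SL5) : Matrix (Fin 5) (Fin 5) (ZMod 2))) (blk i) (blk j) =
          (1 : Matrix (Fin 5) (Fin 5) (ZMod 2)) (blk i) (blk j) := by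
        rw [← Matrix.SpecialLinearGroup.coe_mul, Subgroup.coe_inv, mul_inv_cancel,
          Matrix.SpecialLinearGroup.coe_one]
      rw [Matrix.mul_apply, Fin.sum_univ_five,
        (hshape M).1 _ (fun e => by have := congrArg Fin.val e; change i.1 + 2 = 0 at this; omega),
        (hshape M⁻¹).2.1 (blk j) (fun e => by have := congrArg Fin.val e; change j.1 + 2 = 1 at this; omega)] at h
      rw [Matrix.mul_apply, Fin.sum_univ_three]
      refine Eq.trans ?_ (h.trans ?_)
      · simp only [B, Matrix.submatrix_apply, mul_zero, zero_mul, zero_add]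
        rfl
      · rw [Matrix.one_apply, Matrix.one_apply]
        exact if_congr (Fin.ext_iff.trans (by show i.1 + 2 = j.1 + 2 ↔ i = j; rw [Fin.ext_iff]; omega)) rfl rfl
    intro h0
    have := congrArg Matrix.det h
    rw [Matrix.det_mul, h0, zero_mul, Matrix.det_one] at this
    exact zero_ne_one this
  let f : C → T × (Fin 4 → ZMod 2) × (Fin 3 → ZMod 2) := fun M =>
    (⟨(B M 0, B M 1, B M 2), by
      have := hB M
      rw [Matrix.det_fin_three] at this
      intro h; apply this; rw [← h]; ring⟩,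
     fun j => ((M : SL5) : Matrix (Fin 5) (Fin 5) (ZMod 2)) 0 ⟨j.1 + 1, by omega⟩,
     fun i => ((M : SL5) : Matrix (Fin 5) (Fin 5) (ZMod 2)) (blk i) 1)
  have hinj : Function.Injective f := by
    intro M M' h
    simp only [f, Prod.mk.injEq] at h
    have hT' := congrArg Subtype.val h.1
    simp only [Prod.mk.injEq] at hT'
    have b0 := hT'.1; have b1 := hT'.2.1; have b2 := hT'.2.2
    have hr := h.2.1; have hc := h.2.2
    refine Subtype.ext (Subtype.ext (Matrix.ext fun i j => ?_))
    by_cases hi1 : i = 1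
    · subst hi1
      by_cases hj : j = 1
      · subst hj; rw [(hshape M).2.2, (hshape M').2.2, h00, h00]
      · rw [(hshape M).2.1 j hj, (hshape M').2.1 j hj]
    by_cases hj0 : j = 0
    · subst hj0
      by_cases hi : i = 0
      · subst hi; rw [h00, h00]
      · rw [(hshape M).1 i hi, (hshape M').1 i hi]
    by_cases hi0 : i = 0
    · subst hi0
      have h := congrFun hr ⟨j.1 - 1, by omega⟩
      have e : (⟨j.1 - 1 + 1, by omega⟩ : Fin 5) = j :=
        Fin.ext (show j.1 - 1 + 1 = j.1 by have := Fin.val_ne_of_ne hj0; simp at this; omega)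
      simpa only [e] using h
    obtain ⟨i', rfl⟩ : ∃ i', blk i' = i :=
      ⟨⟨i.1 - 2, by omega⟩, Fin.ext (show i.1 - 2 + 2 = i.1 by
        have := Fin.val_ne_of_ne hi0; have := Fin.val_ne_of_ne hi1; simp at *; omega)⟩
    by_cases hj : j = 1
    · subst hj; exact congrFun hc i'
    obtain ⟨j', rfl⟩ : ∃ j', blk j' = j :=
      ⟨⟨j.1 - 2, by omega⟩, Fin.ext (show j.1 - 2 + 2 = j.1 by
        have := Fin.val_ne_of_ne hj0; have := Fin.val_ne_of_ne hj; simp at *; omega)⟩
    fin_cases i'
    exacts [congrFun b0 j', congrFun b1 j', congrFun b2 j']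
  refine (Nat.card_le_card_of_injective f hinj).trans ?_
  have hT : Nat.card T = 168 := by
    rw [Nat.card_eq_fintype_card, Fintype.card_subtype]; exact gl3_count
  rw [Nat.card_prod, Nat.card_prod, hT, Nat.card_fun, Nat.card_fun, Nat.card_zmod, Nat.card_fin,
    Nat.card_fin]
  norm_num

/-- the involution -/
noncomputable def z : HePres.pres.Gp := H45.evalW HePres.pres.e [4]

theorem order_z : orderOf z = 2 := by
  have h1 := (sameBase_iff (u := [4, 4]) (v := []) (by simp) (by simp)).mp HeCentChecks.z_ok.2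
  have h2 : z ≠ 1 := fun h => by
    have := (sameBase_iff (u := [4]) (v := []) (by simp) (by simp)).mpr (by simpa [H45.evalW, z] using h)
    rw [HeCentChecks.z_ok.1] at this
    exact Bool.false_ne_true this
  refine orderOf_eq_prime ?_ h2
  rw [pow_two, z, ← evalW_append]
  exact h1

theorem z_eq : z = HeSp4.eH 3 := rfl

theorem z_mem : z ∈ HeMain.H := by
  rw [HeSp4.H_eq]
  exact Subgroup.subset_closure ⟨[4], by simp, rfl⟩

theorem card_centralizer_z : Nat.card (Subgroup.centralizer ({z} : Set HePres.pres.Gp)) ≤ 21504 := by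
  classical
  obtain ⟨hfin, -, -⟩ := HeMain.order_facts
  have := hfin
  obtain ⟨F, hF0, hF⟩ := phi_coset
  set A := Subgroup.centralizer ({z} : Set HePres.pres.Gp)
  let q : HePres.pres.Gp ⧸ HeMain.H := QuotientGroup.mk 1
  have hq : z • q = q := by
    rw [MulAction.Quotient.smul_coe, smul_eq_mul, mul_one, QuotientGroup.eq, mul_one]
    exact inv_mem z_mem
  have h1 : Nat.card (MulAction.orbit A q) ≤ 42 := by
    let S := (List.range 2058).filter fun i => Nat.beq (imgWd [4] i) i
    have hS : ∀ x : MulAction.orbit A q, ((F x.1 : Fin 2058) : ℕ) ∈ S := by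
      rintro ⟨_, ⟨a, rfl⟩⟩
      simp only [S, List.mem_filter, List.mem_range, Fin.isLt, true_and, Nat.beq_eq]
      rw [imgWd_eq [4] (by simp) (F _), ← hF]
      congr 2
      show z • ((a : HePres.pres.Gp) • q) = (a : HePres.pres.Gp) • q
      rw [smul_smul, ← Subgroup.mem_centralizer_singleton_iff.mp a.2, ← smul_smul, hq]
    refine (Nat.card_le_card_of_injective (fun x => (⟨_, List.mem_toFinset.mpr (hS x)⟩ : S.toFinset))
      fun x y h => Subtype.ext (F.injective (Fin.ext (congrArg Subtype.val h)))).trans ?_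
    rw [Nat.card_eq_finsetCard]
    exact (List.toFinset_card_le _).trans HeCentChecks.fix_count.le
  have h2 : Nat.card (MulAction.stabilizer A q) ≤ 512 := by
    refine le_trans ?_ (HeCentH.card_centralizer_le ⟨z, z_mem⟩ z_eq)
    have hm : ∀ a : MulAction.stabilizer A q, ((a : A) : HePres.pres.Gp) ∈ HeMain.H := by
      intro a
      have h := MulAction.mem_stabilizer_iff.mp a.2
      change ((a : A) : HePres.pres.Gp) • q = q at h
      rw [MulAction.Quotient.smul_coe, smul_eq_mul, mul_one, QuotientGroup.eq, mul_one] at h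
      exact inv_mem_iff.mp h
    refine Nat.card_le_card_of_injective (fun a => (⟨⟨_, hm a⟩,
      Subgroup.mem_centralizer_singleton_iff.mpr
        (Subtype.ext (Subgroup.mem_centralizer_singleton_iff.mp (a : A).2))⟩ :
      Subgroup.centralizer ({⟨z, z_mem⟩} : Set HeMain.H))) fun a b h => ?_
    exact Subtype.ext (Subtype.ext (congrArg (fun t => ((t.1 : HeMain.H) : HePres.pres.Gp)) h :))
  rw [← Nat.card_congr (MulAction.orbitProdStabilizerEquivGroup A q), Nat.card_prod]
  exact Nat.mul_le_mul h1 h2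

theorem exists_iso (s : SL5)
    (hs : (s : Matrix (Fin 5) (Fin 5) (ZMod 2)) = Matrix.transvection 0 1 1) :
    ∃ x : HePres.pres.Gp, orderOf x = 2 ∧
      Nonempty (Subgroup.centralizer ({x} : Set HePres.pres.Gp) ≃*
        Subgroup.centralizer ({s} : Set SL5)) := by
  classical
  obtain ⟨hfin, -, -⟩ := HeMain.order_facts
  have := hfin
  refine ⟨z, order_z, ?_⟩
  let D := wordSound.grp HeCentD.chain
  have M := checkChain_sound wordSound HeCentChecks.chainD_ok
  have hD : Nat.card D = 21504 := M.card.trans HeCentChecks.orderD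
  have hlen := HeCentChecks.lenD
  have hgen : ∀ g ∈ nextGens HeCentD.chain,
      g.1.1 ∈ HeCentWords.words ∧ ∃ k : Fin 11, g.1 = (nth (([], 0), ([], 0)) (nextGens HeCentD.chain) k).1 := by
    intro g hg
    refine ⟨HeCentChecks.gensD ▸ List.mem_map.mpr ⟨g, hg, rfl⟩, ?_⟩
    obtain ⟨k, hk, rfl⟩ := List.getElem_of_mem hg
    exact ⟨⟨k, hlen.1 ▸ hk⟩, by rw [nth_eq_getElem _ _ _ hk]⟩
  have hcomm : ∀ w ∈ HeCentWords.words, (∀ l ∈ w, l < 7) ∧
      H45.evalW HePres.pres.e w ∈ Subgroup.centralizer ({z} : Set HePres.pres.Gp) := by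
    intro w hw
    have h := List.all_eq_true.mp HeCentChecks.commute_ok w hw
    simp only [Bool.and_eq_true, lettersOK, lall_iff, Nat.ble_eq, Nat.add_one_le_iff] at h
    refine ⟨h.2, Subgroup.mem_centralizer_singleton_iff.mpr ?_⟩
    have := (sameBase_iff (fun l hl => by
        rcases List.mem_append.mp hl with hh | hh
        exacts [h.2 l hh, by simp at hh; omega])
      (fun l hl => by
        rcases List.mem_append.mp hl with hh | hh
        exacts [by simp at hh; omega, h.2 l hh])).mp h.1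
    rw [evalW_append, evalW_append] at this
    exact this
  -- first projection
  let p1 : D →* HePres.pres.Gp := (MonoidHom.fst _ _).comp D.subtype
  let p2 : D →* Equiv.Perm (Fin 31) := (MonoidHom.snd _ _).comp D.subtype
  have hinj2 : Function.Injective p2 := by
    rw [injective_iff_map_eq_one]
    intro x hx
    refine Subtype.ext (eq_one_of_fix_bases wordSound HeCentChecks.chainD_ok _ x.2 fun b _ => ?_)
    show (permSound 5 31 (by norm_num)).act (x : HePres.pres.Gp × Equiv.Perm (Fin 31)).2 b = b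
    rw [show (x : HePres.pres.Gp × Equiv.Perm (Fin 31)).2 = 1 from hx]
    exact (permSound 5 31 (by norm_num)).act_one b
  have hr1 : p1.range ≤ Subgroup.centralizer ({z} : Set HePres.pres.Gp) := by
    rintro _ ⟨x, rfl⟩
    have : D ≤ (Subgroup.centralizer ({z} : Set HePres.pres.Gp)).comap (MonoidHom.fst _ _) := by
      refine (Subgroup.closure_le _).mpr ?_
      rintro _ ⟨_, ⟨g, hg, rfl⟩, rfl⟩
      exact (hcomm _ (hgen g hg).1).2
    exact this x.2
  have hlow : 21504 ≤ Nat.card p1.range := by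
    rw [← HeCentChecks.prodE, ← Subgroup.card_map_of_injective phi_injective (K := p1.range)]
    refine chainCheck_sound (permCheck_PT HeMain.perm_ok) HeCentChecks.chainE_ok _
      fun lv hlv w hw => ?_
    have hwm : w ∈ HeCentWords.words := of_decide_eq_true (List.all_eq_true.mp
      (List.all_eq_true.mp HeCentChecks.gensE lv hlv) w hw)
    rw [← HeCentChecks.gensD] at hwm
    obtain ⟨g, hg, rfl⟩ := List.mem_map.mp hwm
    exact ⟨_, ⟨⟨_, gens_mem wordSound _ hg⟩, rfl⟩,
      phi_act.evalW _ (fun l hl => (hcomm _ (hgen g hg).1).1 l hl)⟩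
  have hA : p1.range = Subgroup.centralizer ({z} : Set HePres.pres.Gp) :=
    Subgroup.eq_of_le_of_card_ge hr1 (card_centralizer_z.trans hlow)
  have hfinD : Finite D := Nat.finite_of_card_ne_zero (by rw [hD]; norm_num)
  have hinj1 : Function.Injective p1 := by
    have hb : Function.Bijective p1.rangeRestrict :=
      (Nat.bijective_iff_surjective_and_card _).mpr ⟨p1.rangeRestrict_surjective,
        le_antisymm (hD.le.trans hlow)
          (Nat.card_le_card_of_surjective _ p1.rangeRestrict_surjective)⟩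
    exact fun a b h => hb.1 (Subtype.ext h)
  -- second projection
  let C := Subgroup.centralizer ({s} : Set SL5)
  have hr2 : p2.range ≤ C.map nu := by
    rintro _ ⟨x, rfl⟩
    have : D ≤ (C.map nu).comap (MonoidHom.snd _ _) := by
      refine (Subgroup.closure_le _).mpr ?_
      rintro _ ⟨_, ⟨g, hg, rfl⟩, rfl⟩
      obtain ⟨k, hk⟩ := (hgen g hg).2
      refine ⟨gSL k, gSL_mem k s hs, Equiv.ext fun i => Fin.ext ?_⟩
      have hok : PermOK 5 31 g.1.2 := (M.gens_ok g hg).2
      refine Eq.trans ?_ (permDen_apply hok i).symm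
      rw [nu_apply, hk]
      exact perm_ok k i
    exact this x.2
  have hC : p2.range = C.map nu := by
    refine Subgroup.eq_of_le_of_card_ge hr2 ?_
    rw [Subgroup.card_map_of_injective nu_injective,
      Nat.card_congr (MonoidHom.ofInjective hinj2).toEquiv.symm, hD]
    exact card_centralizer_sl s hs
  exact ⟨(MulEquiv.subgroupCongr hA).symm.trans <| (MonoidHom.ofInjective hinj1).symm.trans <|
    (MonoidHom.ofInjective hinj2).trans <| (MulEquiv.subgroupCongr hC).trans
      (C.equivMapOfInjective nu nu_injective).symm⟩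

end Cfsg.Agent.H59.HeCentMain
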