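import Cfsg.Agent.H45.HeMain
import Cfsg.Agent.Compute.PermRep

/-!
An element of He fixing the base points of the stabiliser chain is trivial; operations on pairs
(word in He, permutation of 31 points) for the chain engine.
-/

set_option autoImplicit false

namespace Cfsg.Agent.H59.HeCentBase

open Cfsg.Agent.H45 Cfsg.Agent.Compute

/-- The elements of `Y` fixing a list of points. -/
def fixing {n : ℕ} (Y : Subgroup (Equiv.Perm (Fin n))) (bs : List ℕ) :
    Subgroup (Equiv.Perm (Fin n)) where
  carrier := {y | y ∈ Y ∧ ∀ i : Fin n, (i : ℕ) ∈ bs → y i = i}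
  one_mem' := ⟨Y.one_mem, fun _ _ => rfl⟩
  mul_mem' {a b} ha hb := ⟨Y.mul_mem ha.1 hb.1, fun i hi => by
    rw [Equiv.Perm.mul_apply, hb.2 i hi, ha.2 i hi]⟩
  inv_mem' {a} ha := ⟨Y.inv_mem ha.1, fun i hi => by
    rw [Equiv.Perm.inv_def, Equiv.symm_apply_eq, ha.2 i hi]⟩

theorem chain_regular {L n : ℕ} {iv cols : List ℕ} (P : PT L n iv cols) : ∀ {lvs : List Lvl},
    chainCheck L n cols lvs = true → ∀ Y : Subgroup (Equiv.Perm (Fin n)),
      (∀ lv ∈ lvs, ∀ g ∈ lv.gens, H45.evalW (sig P) g ∈ Y) →
      chainProd lvs * Nat.card (fixing Y (lvs.map (·.base))) ≤ Nat.card Y := by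
  intro lvs
  induction lvs with
  | nil =>
    intro _ Y _
    rw [show chainProd [] = 1 from rfl, one_mul]
    exact Subgroup.card_le_of_le fun y hy => hy.1
  | cons lv rest ih =>
    intro h Y hY
    have hlet := chainCheck_letters h
    simp only [chainCheck, Bool.and_eq_true] at h
    obtain ⟨⟨⟨-, hfix⟩, horb⟩, hrest⟩ := h
    obtain ⟨hb, hcount⟩ := orbLow_sound P (hlet lv List.mem_cons_self) horb
    let b : Fin n := ⟨lv.base, hb⟩
    have h1 := ih hrest (Y ⊓ MulAction.stabilizer _ b) fun lv' hlv' g hg => Subgroup.mem_inf.mpr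
      ⟨hY lv' (List.mem_cons_of_mem _ hlv') g hg, by
        have h2 := (List.all_eq_true.mp ((List.all_eq_true.mp hfix) lv' hlv')) g hg
        simp only [Nat.beq_eq] at h2
        rw [MulAction.mem_stabilizer_iff, Equiv.Perm.smul_def, ← Equiv.Perm.eq_inv_iff_eq]
        apply Fin.ext
        rw [sig_walk P g (hlet lv' (List.mem_cons_of_mem _ hlv') g hg), ← walkC_map]
        exact h2.symm⟩
    have hle : fixing Y ((lv :: rest).map (·.base)) ≤
        fixing (Y ⊓ MulAction.stabilizer _ b) (rest.map (·.base)) := fun y hy =>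
      ⟨⟨hy.1, hy.2 b (by simp [b])⟩, fun i hi => hy.2 i (by simp [hi])⟩
    have h2 : Nat.card (MulAction.orbit Y b) * Nat.card (MulAction.stabilizer Y b) = Nat.card Y := by
      rw [← Nat.card_prod]
      exact Nat.card_congr (MulAction.orbitProdStabilizerEquivGroup Y b)
    have h3 : Nat.card (MulAction.stabilizer Y b) =
        Nat.card (Y ⊓ MulAction.stabilizer (Equiv.Perm (Fin n)) b : Subgroup _) := by
      refine Nat.card_congr ⟨fun x => ⟨x.1.1, x.1.2, x.2⟩, fun x => ⟨⟨x.1, x.2.1⟩, x.2.2⟩,
        fun _ => rfl, fun _ => rfl⟩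
    rw [← h2, h3, show chainProd (lv :: rest) = lv.count * chainProd rest from rfl, mul_assoc]
    exact Nat.mul_le_mul (hcount Y fun g hg => hY lv List.mem_cons_self g hg)
      ((Nat.mul_le_mul_left _ (Subgroup.card_le_of_le hle)).trans h1)

/-- the permutation representation of He on 2058 points -/
noncomputable def phi : HePres.pres.Gp →* Equiv.Perm (Fin 2058) :=
  HeMain.order_facts.2.2.choose

theorem phi_act : Act (permCheck_PT HeMain.perm_ok) HePres.pres.e phi :=
  HeMain.order_facts.2.2.choose_spec.1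

theorem phi_injective : Function.Injective phi := HeMain.order_facts.2.2.choose_spec.2.1

/-- the point equivalence -/
theorem phi_coset : ∃ F : HePres.pres.Gp ⧸ HeMain.H ≃ Fin 2058,
    F (QuotientGroup.mk (1 : HePres.pres.Gp)) = 0 ∧
      ∀ g x, F (g • x) = phi g (F x) := HeMain.order_facts.2.2.choose_spec.2.2

/-- image of a point under a word -/
noncomputable def imgWd (w : List ℕ) (p : ℕ) : ℕ :=
  List.rec p (fun l _ ih => tget HeI2058.cols ih l) w

theorem imgWd_eq : ∀ (w : List ℕ), (∀ l ∈ w, l < 7) → ∀ i : Fin 2058,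
    imgWd w i = (phi (H45.evalW HePres.pres.e w) i : ℕ) := by
  intro w
  induction w with
  | nil => intro _ i; simp [H45.evalW]; rfl
  | cons l t ih =>
    intro h i
    have hl : l < HePres.pres.gl.length := h l (by simp)
    rw [show imgWd (l :: t) i = tget HeI2058.cols (imgWd t i) l from rfl,
      ih (fun x hx => h x (by simp [hx])) i, evalW_cons, map_mul, Equiv.Perm.mul_apply,
      phi_act.map l hl]
    simp [sig, hl, linv_range]

/-- the base points -/
def bases : List ℕ := [0, 1, 15, 34]

theorem bases_eq : HeExtra.chain.map (·.base) = bases := by decide +kernel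

theorem eq_one_of_fix {g : HePres.pres.Gp}
    (h : ∀ i : Fin 2058, (i : ℕ) ∈ bases → phi g i = i) : g = 1 := by
  obtain ⟨hfin, hcard, -⟩ := HeMain.order_facts
  have := hfin
  have hr : Nat.card phi.range = 4030387200 := by
    rw [← hcard]; exact (Nat.card_congr (MonoidHom.ofInjective phi_injective).toEquiv).symm
  have h1 := chain_regular (permCheck_PT HeMain.perm_ok) HeExtra.chain_ok phi.range
    fun lv hlv w hw => ⟨_, phi_act.evalW w (chainCheck_letters HeExtra.chain_ok lv hlv w hw)⟩
  rw [bases_eq, HeExtra.chain_prod, hr] at h1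
  have h2 : Nat.card (fixing phi.range bases) ≤ 1 := by omega
  have := Finite.card_le_one_iff_subsingleton.mp h2
  have h3 := congrArg Subtype.val
    (Subsingleton.elim (⟨phi g, ⟨g, rfl⟩, h⟩ : fixing phi.range bases) 1)
  exact phi_injective (h3.trans (map_one phi).symm)

/-- same image on the base points -/
noncomputable def sameBase (u v : List ℕ) : Bool :=
  lall bases fun p => Nat.beq (imgWd u p) (imgWd v p)

/-- all letters valid -/
noncomputable def lettersOK (w : List ℕ) : Bool := lall w fun l => Nat.ble (l + 1) 7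

theorem sameBase_iff {u v : List ℕ} (hu : ∀ l ∈ u, l < 7) (hv : ∀ l ∈ v, l < 7) :
    sameBase u v = true ↔ H45.evalW HePres.pres.e u = H45.evalW HePres.pres.e v := by
  simp only [sameBase, lall_iff, Nat.beq_eq]
  constructor
  · intro h
    rw [← inv_mul_eq_one]
    refine eq_one_of_fix fun i hi => ?_
    have := h i hi
    rw [imgWd_eq u hu i, imgWd_eq v hv i] at this
    rw [map_mul, map_inv, Equiv.Perm.mul_apply, ← Fin.ext this, Equiv.Perm.inv_def,
      Equiv.symm_apply_apply]
  · intro h p hp
    have hb : p < 2058 := by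
      simp only [bases, List.mem_cons, List.not_mem_nil, or_false] at hp; omega
    have e1 := imgWd_eq u hu ⟨p, hb⟩
    have e2 := imgWd_eq v hv ⟨p, hb⟩
    rw [h] at e1
    exact e1.trans e2.symm

/-- Pairs (word in He, packed permutation of 31 points), moving the 31 points. -/
noncomputable def wordOps : Ops (List ℕ × ℕ) where
  one := ([], onePerm 5 31)
  mul a b := (a.1 ++ b.1, mulPerm 5 31 a.2 b.2)
  eqv a b := Nat.beq a.2 b.2 && sameBase a.1 b.1
  img a p := imgPerm 5 31 a.2 p
  okInv a b := invPerm 5 31 a.2 b.2 && lettersOK a.1 && lettersOK b.1 && sameBase (a.1 ++ b.1) []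

/-- Soundness of `wordOps`. -/
noncomputable def wordSound :
    Sound (G := HePres.pres.Gp × Equiv.Perm (Fin 31)) wordOps where
  den a := (H45.evalW HePres.pres.e a.1, (permSound 5 31 (by norm_num)).den a.2)
  ok a := (∀ l ∈ a.1, l < 7) ∧ (permSound 5 31 (by norm_num)).ok a.2
  act g p := (permSound 5 31 (by norm_num)).act g.2 p
  act_one p := (permSound 5 31 (by norm_num)).act_one p
  act_mul g h p := (permSound 5 31 (by norm_num)).act_mul g.2 h.2 p
  ok_one := ⟨by simp [wordOps], (permSound 5 31 (by norm_num)).ok_one⟩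
  den_one := Prod.ext (by simp [wordOps, H45.evalW]) (permSound 5 31 (by norm_num)).den_one
  ok_mul {a b} ha hb := ⟨fun l hl => by
      rcases List.mem_append.mp (show l ∈ a.1 ++ b.1 from hl) with h | h
      exacts [ha.1 l h, hb.1 l h],
    (permSound 5 31 (by norm_num)).ok_mul ha.2 hb.2⟩
  den_mul {a b} ha hb := Prod.ext (evalW_append _ a.1 b.1)
    ((permSound 5 31 (by norm_num)).den_mul ha.2 hb.2)
  img_eq {a} ha p := (permSound 5 31 (by norm_num)).img_eq ha.2 p
  eqv_iff {a b} ha hb := by
    show (Nat.beq a.2 b.2 && sameBase a.1 b.1) = true ↔ _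
    rw [Bool.and_eq_true, sameBase_iff ha.1 hb.1, Prod.ext_iff]
    exact (and_congr ((permSound 5 31 (by norm_num)).eqv_iff ha.2 hb.2) Iff.rfl).trans and_comm
  okInv_sound {a b} h := by
    have h' : (invPerm 5 31 a.2 b.2 && lettersOK a.1 && lettersOK b.1 &&
      sameBase (a.1 ++ b.1) []) = true := h
    simp only [Bool.and_eq_true, lettersOK, lall_iff, Nat.ble_eq, Nat.add_one_le_iff] at h'
    obtain ⟨⟨⟨hi, ha⟩, hb⟩, hs⟩ := h'
    obtain ⟨oa, ob, hden⟩ := (permSound 5 31 (by norm_num)).okInv_sound hi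
    refine ⟨⟨ha, oa⟩, ⟨hb, ob⟩, Prod.ext ?_ hden⟩
    have := (sameBase_iff (fun l hl => by
      rcases List.mem_append.mp hl with h | h
      exacts [ha l h, hb l h]) (by simp)).mp hs
    rw [evalW_append] at this
    exact eq_inv_of_mul_eq_one_right this

end Cfsg.Agent.H59.HeCentBase
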