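import Cfsg.Agent.H59.HeSpCert
import Cfsg.Agent.H45.HeMain
import Cfsg.Agent.H59.F4
import Cfsg.Agent.Symplectic.Order

/-!
The subgroup of index 2058 of the presented Held group contains `Sp₄(4)` with index two: its action
on the 255 cosets of a subgroup of order 7680 is the action of the semilinear symplectic group on
the nonzero vectors.
-/

set_option autoImplicit false
set_option Elab.async false

namespace Cfsg.Agent.H59.HeSp4

open Cfsg.Agent.H45 Cfsg.Agent.H44

/-- The Frobenius map. -/
def frob : F4 →+* F4 where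
  toFun x := x * x
  map_one' := by decide
  map_mul' := by decide
  map_zero' := by decide
  map_add' := by decide

theorem frob_frob : ∀ x : F4, frob (frob x) = x := by decide

/-- The index type of vectors. -/
abbrev I4 : Type := Fin 2 ⊕ Fin 2

def pos : I4 → ℕ := Sum.elim (fun i => i.1) (fun i => i.1 + 2)

def ofCode (c : ℕ) : F4 := (((c : ZMod 2)), ((c / 2 : ℕ) : ZMod 2))

def toCode (x : F4) : ℕ := x.1.val + 2 * x.2.val

/-- The vector of a point. -/
def lab (i : Fin 255) : I4 → F4 := fun j => ofCode (HeSpCert.labels.getD i 0 / 4 ^ pos j % 4)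

/-- The point of a vector. -/
def idx (v : I4 → F4) : Fin 255 :=
  Fin.ofNat 255 (HeSpCert.index.getD (toCode (v (.inl 0)) + 4 * toCode (v (.inl 1)) +
    16 * toCode (v (.inr 0)) + 64 * toCode (v (.inr 1))) 0)

theorem idx_lab : ∀ i, idx (lab i) = i := by decide +kernel

theorem lab_ne : ∀ i, lab i ≠ 0 := by decide +kernel

theorem lab_idx_aux : ∀ a b c d : F4, Sum.elim ![a, b] ![c, d] ≠ (0 : I4 → F4) →
    lab (idx (Sum.elim ![a, b] ![c, d])) = Sum.elim ![a, b] ![c, d] := by decide +kernel

theorem lab_idx (v : I4 → F4) (hv : v ≠ 0) : lab (idx v) = v := by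
  have e : Sum.elim ![v (.inl 0), v (.inl 1)] ![v (.inr 0), v (.inr 1)] = v := by
    funext j; rcases j with j | j <;> fin_cases j <;> rfl
  rw [← e] at hv ⊢
  exact lab_idx_aux _ _ _ _ hv

open Matrix

abbrev Sp4 : Type := ↥(Matrix.symplecticGroup (Fin 2) F4)

theorem mulVec_ne (g : Sp4) {v : I4 → F4} (hv : v ≠ 0) :
    (g : Matrix I4 I4 F4) *ᵥ v ≠ 0 := fun h => hv (by
  have := congrArg (((g⁻¹ : Sp4) : Matrix I4 I4 F4) *ᵥ ·) h
  simpa [Matrix.mulVec_mulVec, ← Submonoid.coe_mul] using this)

/-- The action of the symplectic group on the points. -/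
def lin : Sp4 →* Equiv.Perm (Fin 255) :=
  MonoidHom.toHomPerm
    { toFun := fun g i => idx ((g : Matrix I4 I4 F4) *ᵥ lab i)
      map_one' := funext fun i => by
        show idx ((1 : Matrix I4 I4 F4) *ᵥ lab i) = i
        rw [Matrix.one_mulVec, idx_lab]
      map_mul' := fun g h => funext fun i => by
        show idx (((g * h : Sp4) : Matrix I4 I4 F4) *ᵥ lab i) =
          idx ((g : Matrix I4 I4 F4) *ᵥ lab (idx ((h : Matrix I4 I4 F4) *ᵥ lab i)))
        rw [lab_idx _ (mulVec_ne h (lab_ne i)), Matrix.mulVec_mulVec, Submonoid.coe_mul] }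

theorem lin_apply (g : Sp4) (i : Fin 255) : lin g i = idx ((g : Matrix I4 I4 F4) *ᵥ lab i) := rfl

theorem lin_injective : Function.Injective lin := by
  intro g h e
  refine Subtype.ext (Matrix.ext fun r c => ?_)
  have hne : (Pi.single c 1 : I4 → F4) ≠ 0 := by simp
  have h1 : lin g (idx (Pi.single c 1)) = lin h (idx (Pi.single c 1)) := by rw [e]
  rw [lin_apply, lin_apply, lab_idx _ hne] at h1
  have h2 := congrArg lab h1
  rw [lab_idx _ (mulVec_ne g hne), lab_idx _ (mulVec_ne h hne)] at h2
  simpa using congrFun h2 r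

theorem frob_ne {v : I4 → F4} (hv : v ≠ 0) : (fun j => frob (v j)) ≠ 0 := fun h => hv (funext fun j => by
  have := congrArg frob (congrFun h j)
  simpa [frob_frob] using this)

/-- The Frobenius permutation of the points. -/
def frobPerm : Equiv.Perm (Fin 255) :=
  Function.Involutive.toPerm (fun i => idx fun j => frob (lab i j)) fun i => by
    show idx (fun j => frob (lab (idx fun j => frob (lab i j)) j)) = i
    rw [lab_idx _ (frob_ne (lab_ne i))]
    simp only [frob_frob]
    exact idx_lab i

theorem frobPerm_apply (i : Fin 255) : frobPerm i = idx fun j => frob (lab i j) := rfl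

theorem frobPerm_sq : frobPerm * frobPerm = 1 := Equiv.ext fun i => frobPerm.left_inv i

theorem map_mem (g : Sp4) : (g : Matrix I4 I4 F4).map frob ∈ Matrix.symplecticGroup (Fin 2) F4 := by
  have h := congrArg (fun M : Matrix I4 I4 F4 => M.map frob) (SymplecticGroup.mem_iff.mp g.2)
  have hJ : (Matrix.J (Fin 2) F4).map frob = Matrix.J (Fin 2) F4 := by decide
  rw [SymplecticGroup.mem_iff]
  simpa [Matrix.map_mul, Matrix.transpose_map, hJ] using h

theorem frob_conj (g : Sp4) : frobPerm * lin g * frobPerm⁻¹ = lin ⟨_, map_mem g⟩ := by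
  rw [inv_eq_of_mul_eq_one_right frobPerm_sq]
  refine Equiv.ext fun i => ?_
  show idx (fun j => frob (lab (lin g (idx fun j => frob (lab i j))) j)) =
    idx ((g : Matrix I4 I4 F4).map frob *ᵥ lab i)
  rw [lin_apply, lab_idx _ (frob_ne (lab_ne i)), lab_idx _ (mulVec_ne g (frob_ne (lab_ne i)))]
  congr 1
  funext r
  rw [RingHom.map_mulVec]
  congr 1
  funext j
  exact frob_frob _

theorem card_Sp4 : Nat.card Sp4 = 979200 := by
  rw [Cfsg.Agent.Symplectic.card_sp, card_F4]
  norm_num [Finset.prod_range_succ]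

/-- The semilinear group. -/
def semi : Subgroup (Equiv.Perm (Fin 255)) := lin.range ⊔ Subgroup.zpowers frobPerm

theorem frob_normalizer : Subgroup.zpowers frobPerm ≤ Subgroup.normalizer (lin.range : Set (Equiv.Perm (Fin 255))) := by
  rw [Subgroup.zpowers_le, Subgroup.mem_normalizer_iff]
  have hmap : ∀ x ∈ lin.range, frobPerm * x * frobPerm⁻¹ ∈ lin.range := by
    rintro _ ⟨g, rfl⟩; exact ⟨_, (frob_conj g).symm⟩
  refine fun x => ⟨hmap x, fun h => ?_⟩
  have h2 := hmap _ h
  rw [inv_eq_of_mul_eq_one_right frobPerm_sq] at h2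
  simpa [mul_assoc, frobPerm_sq, ← mul_assoc frobPerm frobPerm] using h2

theorem card_semi_le : Nat.card semi ≤ 1958400 := by
  have h := Subgroup.coe_mul_of_right_le_normalizer_left lin.range (Subgroup.zpowers frobPerm)
    frob_normalizer
  have hz : Nat.card (Subgroup.zpowers frobPerm) ≤ 2 := by
    rw [Nat.card_zpowers]
    exact orderOf_le_of_pow_eq_one two_pos (by rw [pow_two, frobPerm_sq])
  calc Nat.card semi = Nat.card ((semi : Subgroup _) : Set (Equiv.Perm (Fin 255))) := rfl
    _ ≤ Nat.card lin.range * Nat.card (Subgroup.zpowers frobPerm) := by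
        rw [semi, h]; exact Set.natCard_mul_le
    _ ≤ 979200 * 2 := Nat.mul_le_mul (by
        rw [← card_Sp4]; exact (Nat.card_range_of_injective lin_injective).le) hz
    _ = 1958400 := by norm_num

/-- The matrix of a generator. -/
def mat (l : ℕ) : Matrix I4 I4 F4 :=
  Matrix.of fun r c => ofCode (((HeSpCert.mats.getD l []).getD (pos r) []).getD (pos c) 0)

theorem mat_mem : ∀ l : Fin 7, mat l * Matrix.J (Fin 2) F4 * (mat l)ᵀ = Matrix.J (Fin 2) F4 := by
  decide +kernel

theorem table_eq_0 : ∀ i : Fin 255,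
    idx (mat (0 : Fin 7) *ᵥ if HeSpCert.twist.getD (0 : Fin 7) false then fun j => frob (lab i j) else lab i) =
      ⟨tget HeJ255.cols i (0 : Fin 7) % 255, Nat.mod_lt _ (by norm_num)⟩ := by
  decide +kernel

theorem table_eq_1 : ∀ i : Fin 255,
    idx (mat (1 : Fin 7) *ᵥ if HeSpCert.twist.getD (1 : Fin 7) false then fun j => frob (lab i j) else lab i) =
      ⟨tget HeJ255.cols i (1 : Fin 7) % 255, Nat.mod_lt _ (by norm_num)⟩ := by
  decide +kernel

theorem table_eq_2 : ∀ i : Fin 255,
    idx (mat (2 : Fin 7) *ᵥ if HeSpCert.twist.getD (2 : Fin 7) false then fun j => frob (lab i j) else lab i) =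
      ⟨tget HeJ255.cols i (2 : Fin 7) % 255, Nat.mod_lt _ (by norm_num)⟩ := by
  decide +kernel

theorem table_eq_3 : ∀ i : Fin 255,
    idx (mat (3 : Fin 7) *ᵥ if HeSpCert.twist.getD (3 : Fin 7) false then fun j => frob (lab i j) else lab i) =
      ⟨tget HeJ255.cols i (3 : Fin 7) % 255, Nat.mod_lt _ (by norm_num)⟩ := by
  decide +kernel

theorem table_eq_4 : ∀ i : Fin 255,
    idx (mat (4 : Fin 7) *ᵥ if HeSpCert.twist.getD (4 : Fin 7) false then fun j => frob (lab i j) else lab i) =
      ⟨tget HeJ255.cols i (4 : Fin 7) % 255, Nat.mod_lt _ (by norm_num)⟩ := by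
  decide +kernel

theorem table_eq_5 : ∀ i : Fin 255,
    idx (mat (5 : Fin 7) *ᵥ if HeSpCert.twist.getD (5 : Fin 7) false then fun j => frob (lab i j) else lab i) =
      ⟨tget HeJ255.cols i (5 : Fin 7) % 255, Nat.mod_lt _ (by norm_num)⟩ := by
  decide +kernel

theorem table_eq_6 : ∀ i : Fin 255,
    idx (mat (6 : Fin 7) *ᵥ if HeSpCert.twist.getD (6 : Fin 7) false then fun j => frob (lab i j) else lab i) =
      ⟨tget HeJ255.cols i (6 : Fin 7) % 255, Nat.mod_lt _ (by norm_num)⟩ := by
  decide +kernel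

theorem table_eq : ∀ (l : Fin 7) (i : Fin 255),
    idx (mat l *ᵥ if HeSpCert.twist.getD l false then fun j => frob (lab i j) else lab i) =
      ⟨tget HeJ255.cols i l % 255, Nat.mod_lt _ (by norm_num)⟩ := by
  intro l
  fin_cases l
  exacts [table_eq_0, table_eq_1, table_eq_2, table_eq_3, table_eq_4, table_eq_5, table_eq_6]

/-- The permutations of the table lie in the semilinear group. -/
theorem sig_mem (l : ℕ) (hl : l < 7) : sig (permCheck_PT HeSpCert.perm_ok) l ∈ semi := by
  let g : Sp4 := ⟨mat l, SymplecticGroup.mem_iff.mpr (mat_mem ⟨l, hl⟩)⟩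
  have hlt := (permCheck_PT HeSpCert.perm_ok).lt l hl
  cases hb : HeSpCert.twist.getD l false with
  | false =>
    refine Subgroup.mem_sup_left ⟨g, Equiv.ext fun i => Fin.ext ?_⟩
    have h := congrArg Fin.val (table_eq ⟨l, hl⟩ i)
    simp only [hb, Bool.false_eq_true, if_false, Nat.mod_eq_of_lt (hlt i i.isLt)] at h
    simpa [sig, hl, lin_apply, g, linv_range] using h
  | true =>
    rw [show sig (permCheck_PT HeSpCert.perm_ok) l = lin g * frobPerm from Equiv.ext fun i => Fin.ext ?_]
    · exact mul_mem (Subgroup.mem_sup_left ⟨g, rfl⟩) (Subgroup.mem_sup_right (Subgroup.mem_zpowers _))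
    have h := congrArg Fin.val (table_eq ⟨l, hl⟩ i)
    simp only [hb, if_true, Nat.mod_eq_of_lt (hlt i i.isLt)] at h
    have e : lab (frobPerm i) = fun j => frob (lab i j) := by
      rw [frobPerm_apply]; exact lab_idx _ (frob_ne (lab_ne i))
    simpa [sig, hl, lin_apply, g, linv_range, e] using h.symm

/-- The words of the table letters. -/
def wordsH : List (List ℕ) := HeI2058.subWords

/-- the letters as elements of the group -/
def eH (l : ℕ) : HePres.pres.Gp :=
  evalW HePres.pres.e ([[0], [2], [3], [4], [5], [0, 1, 0, 1], [1, 2, 3, 6, 3, 2, 1]].getD l [])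

theorem H_eq : HeMain.H =
    HePres.pres.wsub [[0], [2], [3], [4], [5], [0, 1, 0, 1], [1, 2, 3, 6, 3, 2, 1]] := rfl

set_option maxRecDepth 100000 in
set_option maxHeartbeats 1600000 in
/-- The action of `H` on the 255 points. -/
theorem exists_theta : ∃ (hE : ∀ l, l < 7 → eH l ∈ HeMain.H) (θ : HeMain.H →* Equiv.Perm (Fin 255)),
    Function.Injective θ ∧
    (∀ l (hl : l < 7), θ ⟨eH l, hE l hl⟩ = sig (permCheck_PT HeSpCert.perm_ok) l) ∧
    (∀ S : Subgroup (Equiv.Perm (Fin 255)),
      (∀ l < 7, sig (permCheck_PT HeSpCert.perm_ok) l ∈ S) → θ.range ≤ S) ∧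
    θ.range = semi ∧ Nat.card HeMain.H = 1958400 := by
  classical
  obtain ⟨hfin, hcard, -⟩ := HeMain.order_facts
  haveI := hfin
  set ws : List (List ℕ) := [[0], [2], [3], [4], [5], [0, 1, 0, 1], [1, 2, 3, 6, 3, 2, 1]] with hws
  set K := HePres.pres.wsub [[0], [2], [3], [4], [5], [0, 1, 0, 1]] with hK
  have hHcard : Nat.card HeMain.H = 1958400 := by
    have h := HeMain.H.card_mul_index
    rw [HeMain.H_index, hcard] at h
    omega
  have hinvW : (ws.all fun u => decide (u ++ u ∈ HeMain.knownR)) = true := by decide +kernel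
  have hR : (HeJ255.relWords.all fun w => decide (expandW ws w ∈ HeMain.knownR)) = true := by
    decide +kernel
  have hinv : ∀ l, eH l = (eH l)⁻¹ := by
    intro l
    rcases Nat.lt_or_ge l ws.length with hl | hl
    · refine eq_inv_of_mul_eq_one_left ?_
      show evalW HePres.pres.e (ws.getD l []) * evalW HePres.pres.e (ws.getD l []) = 1
      rw [← evalW_append]
      refine HeMain.knownR_one _ (of_decide_eq_true ((List.all_eq_true.mp hinvW) _ ?_))
      rw [List.getD_eq_getElem _ _ hl]; exact List.getElem_mem hl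
    · have : eH l = 1 := by
        show evalW HePres.pres.e (ws.getD l []) = 1
        rw [List.getD_eq_getElem?_getD, List.getElem?_eq_none hl]; rfl
      rw [this, inv_one]
  have hD : Hyp HeJ255.dat eH K := by
    refine ⟨fun l => ?_, fun w hw => ?_, fun w hw => ?_⟩
    · show eH (linv HeJ255.invl l) = _
      rw [HeJ255.invl_eq, linv_range]; exact hinv l
    · show evalW (fun l => evalW HePres.pres.e (ws.getD l [])) w = 1
      rw [← evalW_expand]
      exact HeMain.knownR_one _ (of_decide_eq_true ((List.all_eq_true.mp hR) w hw))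
    · refine list_prod_mem fun x hx => ?_
      obtain ⟨l, hl, rfl⟩ := List.mem_map.mp hx
      have key : ∀ w ∈ HeJ255.subWords, ∀ l ∈ w,
          ws.getD l [] ∈ ([[0], [2], [3], [4], [5], [0, 1, 0, 1]] : List (List ℕ)) := by decide
      exact Subgroup.subset_closure ⟨_, key w hw l hl, rfl⟩
  have hE : ∀ l, l < 7 → eH l ∈ HeMain.H := fun l hl => by
    rw [H_eq]
    refine Subgroup.subset_closure ⟨ws.getD l [], ?_, rfl⟩
    rw [List.getD_eq_getElem _ _ (show l < ws.length from hl)]; exact List.getElem_mem _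
  obtain ⟨-, w, hw0, hwH, hw⟩ := closeCheck_sound hD hE HeJ255.close_ok
  set T := permCheck_PT HeSpCert.perm_ok with hT
  have hgen : HeMain.H ≤ Subgroup.closure {g | ∃ l < 7, eH l = g} := by
    rw [H_eq]
    refine (Subgroup.closure_le _).mpr ?_
    rintro _ ⟨x, hx, rfl⟩
    obtain ⟨k, hk, rfl⟩ := List.getElem_of_mem hx
    refine Subgroup.subset_closure ⟨k, hk, ?_⟩
    show evalW HePres.pres.e (ws.getD k []) = _
    rw [List.getD_eq_getElem _ _ hk]
  -- the cosets of `K` in `H`
  let K' : Subgroup HeMain.H := K.subgroupOf HeMain.H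
  let pt : Fin 255 → HeMain.H ⧸ K' := fun i => QuotientGroup.mk ⟨(w i)⁻¹, inv_mem (hwH i)⟩
  have hex := cosets_exhaust (iv := List.range 7) hgen
    (fun l hl => ⟨by rw [linv_range]; exact hl, by rw [linv_range]; exact hinv l⟩) T.lt
    (by norm_num) hw0 hw
  have hsurj : Function.Surjective pt := by
    intro q
    induction q using QuotientGroup.induction_on with
    | _ g =>
      obtain ⟨i, hi, hiK⟩ := hex _ (inv_mem g.2)
      refine ⟨⟨i, hi⟩, QuotientGroup.eq.mpr ?_⟩
      show ((w i)⁻¹)⁻¹ * (g : HePres.pres.Gp) ∈ K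
      have := K.inv_mem hiK
      simpa using this
  have hbij : Function.Bijective pt := by
    refine (Nat.bijective_iff_surjective_and_card pt).mpr ⟨hsurj, ?_⟩
    have hK' : Nat.card K' ≤ 7680 := by
      refine le_trans ?_ HeMain.sub_acdefu.2
      haveI := HeMain.sub_acdefu.1
      exact Nat.card_le_card_of_injective (fun x => (⟨_, x.2⟩ : K)) fun a b h =>
        Subtype.ext (Subtype.ext (congrArg Subtype.val h :))
    have h2 := Nat.card_le_card_of_surjective pt hsurj
    have h3 : K'.index * Nat.card K' = 1958400 := by rw [mul_comm, K'.card_mul_index, hHcard]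
    rw [Nat.card_fin] at h2 ⊢
    change K'.index ≤ 255 at h2
    refine le_antisymm ?_ h2
    show 255 ≤ K'.index
    by_contra hlt
    have := Nat.mul_le_mul (show K'.index ≤ 254 by omega) hK'
    omega
  let F : Fin 255 ≃ HeMain.H ⧸ K' := Equiv.ofBijective pt hbij
  let θ : HeMain.H →* Equiv.Perm (Fin 255) :=
    F.symm.permCongrHom.toMonoidHom.comp (MulAction.toPermHom HeMain.H (HeMain.H ⧸ K'))
  have hθ : ∀ l (hl : l < 7), θ ⟨eH l, hE l hl⟩ = sig T l := by
    intro l hl
    refine Equiv.ext fun i => ?_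
    show F.symm ((⟨eH l, hE l hl⟩ : HeMain.H) • F i) = sig T l i
    rw [Equiv.symm_apply_eq]
    show (⟨eH l, hE l hl⟩ : HeMain.H) • pt i = pt (sig T l i)
    simp only [pt, MulAction.Quotient.smul_mk, smul_eq_mul]
    refine QuotientGroup.eq.mpr ?_
    show ((eH l) * (w i)⁻¹)⁻¹ * (w (sig T l i : ℕ))⁻¹ ∈ K
    have := hw i i.isLt l hl
    simpa [sig, hl, linv_range, HeJ255.dat, ← hinv l] using this
  have hrange : ∀ S : Subgroup (Equiv.Perm (Fin 255)), (∀ l < 7, sig T l ∈ S) → θ.range ≤ S := by
    intro S hS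
    rw [MonoidHom.range_eq_map]
    have htop : (⊤ : Subgroup HeMain.H) = Subgroup.closure {g | ∃ (l : ℕ) (hl : l < 7), g = ⟨eH l, hE l hl⟩} := by
      apply le_antisymm _ le_top
      rintro ⟨g, hg⟩ -
      have h := hgen hg
      induction h using Subgroup.closure_induction'' with
      | one => exact one_mem _
      | mem x hx => obtain ⟨l, hl, rfl⟩ := hx; exact Subgroup.subset_closure ⟨l, hl, rfl⟩
      | inv_mem x hx =>
        obtain ⟨l, hl, rfl⟩ := hx
        exact Subgroup.subset_closure ⟨l, hl, Subtype.ext (hinv l).symm⟩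
      | mul a b ha hb iha ihb =>
        have ha' : a ∈ HeMain.H := (Subgroup.closure_le _).mpr (by rintro _ ⟨l, hl, rfl⟩; exact hE l hl) ha
        have hb' : b ∈ HeMain.H := (Subgroup.closure_le _).mpr (by rintro _ ⟨l, hl, rfl⟩; exact hE l hl) hb
        exact mul_mem (iha ha') (ihb hb')
    rw [htop, MonoidHom.map_closure, Subgroup.closure_le]
    rintro _ ⟨_, ⟨l, hl, rfl⟩, rfl⟩
    rw [hθ l hl]
    exact hS l hl
  have hlow : 1958400 ≤ Nat.card θ.range := by
    rw [← HeSpCert.chain_prod]
    refine chainCheck_sound T HeSpCert.chain_ok _ fun lv hlv g hg => ?_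
    refine list_prod_mem fun x hx => ?_
    obtain ⟨l, hl, rfl⟩ := List.mem_map.mp hx
    have hl7 := chainCheck_letters HeSpCert.chain_ok lv hlv g hg l hl
    exact ⟨_, hθ l hl7⟩
  have hrc : Nat.card θ.range ≤ Nat.card HeMain.H :=
    Nat.card_le_card_of_surjective θ.rangeRestrict θ.rangeRestrict_surjective
  have hinj : Function.Injective θ := by
    have hb : Function.Bijective θ.rangeRestrict :=
      (Nat.bijective_iff_surjective_and_card _).mpr
        ⟨θ.rangeRestrict_surjective, le_antisymm (hHcard.le.trans hlow) hrc⟩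
    exact fun a b h => hb.1 (Subtype.ext h)
  have hsemi : θ.range = semi :=
    Subgroup.eq_of_le_of_card_ge (hrange semi sig_mem) (card_semi_le.trans hlow)
  exact ⟨hE, θ, hinj, hθ, hrange, hsemi, hHcard⟩

/-- The main result. -/
theorem exists_sp4 : ∃ N : Subgroup HeMain.H, N.Normal ∧ N.index = 2 ∧
    Nonempty (N ≃* Sp4) := by
  classical
  obtain ⟨hfin, -, -⟩ := HeMain.order_facts
  haveI := hfin
  obtain ⟨-, θ, hinj, -, -, hsemi, hHcard⟩ := exists_theta
  let N := lin.range.comap θ
  have hle : lin.range ≤ θ.range := hsemi ▸ le_sup_left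
  have hN : Nat.card N = 979200 := by
    rw [← card_Sp4, ← Subgroup.card_map_of_injective hinj (K := N), Subgroup.map_comap_eq,
      inf_eq_right.mpr hle]
    exact Nat.card_range_of_injective lin_injective
  have hidx : N.index = 2 := by
    have := N.card_mul_index
    rw [hN, hHcard] at this
    omega
  refine ⟨N, Subgroup.normal_of_index_eq_two hidx, hidx, ?_⟩
  refine ⟨(N.equivMapOfInjective θ hinj).trans ((MulEquiv.subgroupCongr ?_).trans
    (MonoidHom.ofInjective lin_injective).symm)⟩
  rw [Subgroup.map_comap_eq, inf_eq_right.mpr hle]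

end Cfsg.Agent.H59.HeSp4
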