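import Cfsg.Agent.Cores.PCore
import Cfsg.Agent.Fusion.PResidual
import Cfsg.Agent.H59.PReduced

/-!
# p-closed and p-irreducible groups
-/

set_option autoImplicit false

namespace Cfsg.Agent.H59

open Subgroup
open scoped commutatorElement

variable {G : Type*} [Group G] [Finite G] {p : ℕ} [Fact p.Prime]

theorem isPClosed_iff : Cfsg.IsPClosed p G ↔ ∀ P : Sylow p G, (P : Subgroup G) ≤ Cfsg.pCore p G := by
  refine ⟨fun h P => haveI := h P; Cores.le_pCore P.isPGroup', fun h P => ?_⟩
  rw [le_antisymm (h P) (Cores.pCore_le_sylow P)]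
  infer_instance

theorem isPClosed_of_exists (P : Sylow p G) (h : (P : Subgroup G) ≤ Cfsg.pCore p G) :
    Cfsg.IsPClosed p G := by
  refine isPClosed_iff.mpr fun Q => ?_
  obtain ⟨g, rfl⟩ := MulAction.exists_smul_eq G P Q
  rintro _ ⟨x, hx, rfl⟩
  exact (inferInstance : (Cfsg.pCore p G).Normal).conj_mem x (h hx) g

theorem le_pCore_of_isPClosed (h : Cfsg.IsPClosed p G) {A : Subgroup G} (hA : IsPGroup p A) :
    A ≤ Cfsg.pCore p G := by
  obtain ⟨P, hP⟩ := hA.exists_le_sylow
  exact hP.trans (isPClosed_iff.mp h P)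

/-- A normal subgroup is p-closed iff its intersection with a Sylow subgroup lies in `O_p`. -/
theorem isPClosed_normal_iff (N : Subgroup G) [N.Normal] (T : Sylow p G) :
    Cfsg.IsPClosed p N ↔ (T : Subgroup G) ⊓ N ≤ Cfsg.pCore p G := by
  constructor
  · intro h x hx
    have h1 : ((T : Subgroup G) ⊓ N).subgroupOf N ≤ Cfsg.pCore p N :=
      le_pCore_of_isPClosed h ((T.isPGroup'.to_le inf_le_left).comap_subtype)
    exact Cores.map_pCore_le_of_normal N (mem_map_of_mem N.subtype (h1 (x := ⟨x, hx.2⟩) hx))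
  · intro h
    obtain ⟨P, hP⟩ := exists_sylow_eq_inf T (C := N) le_normalizer_of_normal
    refine isPClosed_of_exists P ?_
    rw [hP]
    exact fun x hx => Cores.subgroupOf_pCore_le N (show x ∈ (Cfsg.pCore p G).subgroupOf N from h hx)

theorem isPClosed_top_iff : Cfsg.IsPClosed p (⊤ : Subgroup G) ↔ Cfsg.IsPClosed p G := by
  refine ⟨fun h => ?_, fun h => ?_⟩
  · obtain ⟨T⟩ := Sylow.nonempty (p := p) (G := G)
    have := (isPClosed_normal_iff ⊤ T).mp h
    rw [inf_top_eq] at this
    exact isPClosed_of_exists T this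
  · obtain ⟨T⟩ := Sylow.nonempty (p := p) (G := G)
    exact (isPClosed_normal_iff ⊤ T).mpr (inf_le_left.trans (isPClosed_iff.mp h T))

theorem sylow_not_le_pCore (h : ¬ Cfsg.IsPClosed p G) (T : Sylow p G) :
    ¬ (T : Subgroup G) ≤ Cfsg.pCore p G := fun hT => h (isPClosed_of_exists T hT)

/-- Elements of order prime to `p` with a p-power power in a subgroup lie in it. -/
theorem mem_of_pow_prime_pow_mem {C : Subgroup G} {x : G} (hx : (orderOf x).Coprime p) {k : ℕ}
    (h : x ^ p ^ k ∈ C) : x ∈ C := by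
  obtain ⟨j, hj⟩ := exists_pow_eq_self_of_coprime (x := x) (n := p ^ k) (hx.pow_right k).symm
  rw [← hj]
  exact pow_mem h j

theorem pResidual_le_of_forall_pow {N : Subgroup G} (h : ∀ x : G, ∃ k, x ^ p ^ k ∈ N) :
    Cfsg.pResidual p G ≤ N :=
  Fusion.pResidual_le.mpr fun x hx => (h x).elim fun _ hk => mem_of_pow_prime_pow_mem hx hk

/-- A normal subgroup covering, with a Sylow subgroup, everything contains `O^p`. -/
theorem pResidual_le_of_sylow_sup {N : Subgroup G} [N.Normal] (T : Sylow p G)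
    (h : (T : Subgroup G) ⊔ N = ⊤) : Cfsg.pResidual p G ≤ N := by
  refine pResidual_le_of_forall_pow fun x => ?_
  have hx : x ∈ ((T : Subgroup G) ⊔ N : Subgroup G) := h ▸ mem_top x
  rw [← SetLike.mem_coe, mul_normal] at hx
  obtain ⟨t, ht, n, hn, rfl⟩ := hx
  obtain ⟨k, hk⟩ := T.isPGroup' ⟨t, ht⟩
  refine ⟨k, ?_⟩
  refine (QuotientGroup.eq_one_iff _).mp ?_
  rw [QuotientGroup.mk_pow, QuotientGroup.mk_mul_of_mem t hn, ← QuotientGroup.mk_pow,
    show t ^ p ^ k = 1 from congrArg Subtype.val hk, QuotientGroup.mk_one]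

theorem sylow_inf_normal_le_pCore (T : Sylow p G) {N : Subgroup G} [N.Normal]
    (h : ⁅N, (⊤ : Subgroup G)⁆ ≤ Cfsg.pCore p G) : (T : Subgroup G) ⊓ N ≤ Cfsg.pCore p G := by
  set P := Cfsg.pCore p G with hP
  have hPn : P.Normal := inferInstance
  set X := ((T : Subgroup G) ⊓ N) ⊔ P with hX
  have hn : X.Normal := by
    refine ⟨fun x hx g => ?_⟩
    have hxs : X.map (MulAut.conj g).toMonoidHom ≤ X := by
      rw [hX, Subgroup.map_sup]
      refine sup_le ?_ ?_
      · rintro _ ⟨y, hy, rfl⟩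
        have h1 : ⁅y, g⁆⁻¹ * y ∈ X :=
          mul_mem (mem_sup_right (inv_mem (h (commutator_mem_commutator hy.2 (mem_top g)))))
            (mem_sup_left hy)
        rw [commutatorElement_inv, commutatorElement_def, inv_mul_cancel_right] at h1
        exact h1
      · rintro _ ⟨y, hy, rfl⟩
        exact mem_sup_right (hPn.conj_mem y hy g)
    exact hxs (mem_map_of_mem (MulAut.conj g).toMonoidHom hx)
  exact le_sup_left.trans (Cores.le_pCore (N := X)
    ((T.isPGroup'.to_le inf_le_left).to_sup_of_normal_right Cores.pCore_isPGroup))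

theorem isPIrreducible_of_strongly (h : Cfsg.IsStronglyPIrreducible p G) :
    Cfsg.IsPIrreducible p G := by
  refine ⟨h.1, fun N hN hcl => h.2 N hN fun hc => hcl ?_⟩
  obtain ⟨T⟩ := Sylow.nonempty (p := p) (G := G)
  exact (isPClosed_normal_iff N T).mpr (sylow_inf_normal_le_pCore T hc)

end Cfsg.Agent.H59
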