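import Cfsg.Agent.H59.SL2Bound
import Cfsg.Agent.Cores.PCore

/-!
# Small facts on `PSL₂(q)`
-/

set_option autoImplicit false

namespace Cfsg.Agent.H59

open Subgroup Cfsg.Agent Matrix

variable {F : Type*} [Field F] [Fintype F] {p : ℕ} [Fact p.Prime] [CharP F p]

local notation "S2" => Matrix.SpecialLinearGroup (Fin 2) F
local notation "P2" => Matrix.ProjectiveSpecialLinearGroup (Fin 2) F

theorem pCore_psl : Cfsg.pCore p P2 = ⊥ := by
  refine (eq_bot_iff_forall _).mpr fun q hq => ?_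
  let π := QuotientGroup.mk' (center S2)
  have hπ : Function.Surjective π := QuotientGroup.mk'_surjective _
  let U := Linear.unitriSylowSL 2 F p
  let w : S2 := ⟨!![0, -1; 1, 0], by simp [Matrix.det_fin_two_of]⟩
  obtain ⟨u, hu, hul⟩ := Cores.pCore_le_sylow (U.mapSurjective (f := π) hπ) hq
  obtain ⟨l, hl, hll⟩ := Cores.pCore_le_sylow ((w • U).mapSurjective (f := π) hπ) hq
  obtain ⟨v, hv, rfl⟩ := hl
  have hu' := Linear.unitriSL_two_eq.mp (show u ∈ Linear.unitriSL 2 F from hu)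
  have hv' := Linear.unitriSL_two_eq.mp (show v ∈ Linear.unitriSL 2 F from hv)
  have h1 : u⁻¹ * (w * v * w⁻¹) ∈ center S2 :=
    QuotientGroup.eq.mp (hul.trans hll.symm)
  have hw : (w : Matrix (Fin 2) (Fin 2) F) = !![0, -1; 1, 0] := rfl
  obtain ⟨i00, i11, i01, i10⟩ := Linear.SL_inv_entries w
  obtain ⟨z, hz, hzu⟩ : ∃ z ∈ center S2, w * v * w⁻¹ = u * z := ⟨_, h1, (mul_inv_cancel_left _ _).symm⟩
  have h01 := congrArg (fun g : S2 => (g : Matrix (Fin 2) (Fin 2) F) 0 1) hzu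
  simp only [Linear.SL_mul_entries, i00, i11, i01, i10, hw, hv'.1, hv'.2.1, hv'.2.2, hu'.1, hu'.2.1,
    hu'.2.2] at h01
  rcases Linear.mem_center_SL_two.mp hz with h | h <;> subst h <;>
  · have hu0 : (u : Matrix (Fin 2) (Fin 2) F) 0 1 = 0 := by
      simpa using h01.symm
    have : u = 1 := Linear.SL_ext_two (by simp [hu'.2.1]) (by simp [hu0]) (by simp [hu'.1])
      (by simp [hu'.2.2])
    rw [← hul, this, map_one]

theorem card_le_of_pGroup_psl {B : Subgroup P2} (hB : IsPGroup p B) :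
    Nat.card B ≤ Fintype.card F := by
  obtain ⟨P, hP⟩ := hB.exists_le_sylow
  obtain ⟨P', rfl⟩ := Sylow.mapSurjective_surjective (QuotientGroup.mk'_surjective (center S2)) p P
  refine (Subgroup.card_le_of_le hP).trans (le_trans ?_ (le_of_eq ((Linear.card_sylow_SL p P').trans
    (by norm_num))))
  exact Nat.le_of_dvd Nat.card_pos (card_map_dvd _ _)

theorem not_isPGroup_psl : ¬ IsPGroup p P2 := by
  intro h
  have h1 : (⊤ : Subgroup P2) = ⊥ := (Cores.pCore_eq_top_iff.mpr h).symm.trans pCore_psl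
  have h2 : (QuotientGroup.mk' (center S2)) (Linear.upSL (1 : F)) ∈ (⊥ : Subgroup P2) := h1 ▸ mem_top _
  exact Linear.not_isScalarTwo_upSL one_ne_zero (Linear.isScalarTwo_SL_iff.mpr
    (Linear.mem_center_SL_two.mp ((QuotientGroup.eq_one_iff _).mp (mem_bot.mp h2))))

end Cfsg.Agent.H59
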