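import Mathlib

/-!
Sylow 2-subgroups of the alternating group of degree 8 are self-normalising.
-/

set_option autoImplicit false

namespace Cfsg.Agent.H59.AltEight

/-- Parameters of the iterated wreath product of three groups of order two. -/
abbrev Par := Fin 2 × (Fin 2 → Fin 2) × (Fin 2 → Fin 2 → Fin 2)

/-- The point with the given three binary digits. -/
def pnt (a b c : Fin 2) : Fin 8 := ⟨4 * a.1 + 2 * b.1 + c.1, by omega⟩

def dA (x : Fin 8) : Fin 2 := ⟨x.1 / 4, by omega⟩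
def dB (x : Fin 8) : Fin 2 := ⟨x.1 / 2 % 2, by omega⟩
def dC (x : Fin 8) : Fin 2 := ⟨x.1 % 2, by omega⟩

def wFun (p : Par) (x : Fin 8) : Fin 8 :=
  pnt (dA x + p.1) (dB x + p.2.1 (dA x)) (dC x + p.2.2 (dA x) (dB x))

def wInv (p : Par) (x : Fin 8) : Fin 8 :=
  pnt (dA x + p.1) (dB x + p.2.1 (dA x + p.1))
    (dC x + p.2.2 (dA x + p.1) (dB x + p.2.1 (dA x + p.1)))

theorem wInv_wFun : ∀ p : Par, ∀ x, wInv p (wFun p x) = x := by decide +kernel

theorem wFun_wInv : ∀ p : Par, ∀ x, wFun p (wInv p x) = x := by decide +kernel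

def w (p : Par) : Equiv.Perm (Fin 8) := ⟨wFun p, wInv p, wInv_wFun p, wFun_wInv p⟩

def evenPar (p : Par) : Bool := p.2.2 0 0 + p.2.2 0 1 + p.2.2 1 0 + p.2.2 1 1 == 0

/-- The product law. -/
def mulPar (p q : Par) : Par :=
  (p.1 + q.1, fun a => q.2.1 a + p.2.1 (a + q.1),
    fun a b => q.2.2 a b + p.2.2 (a + q.1) (b + q.2.1 a))

theorem dA_pnt : ∀ a b c : Fin 2, dA (pnt a b c) = a := by decide

theorem dB_pnt : ∀ a b c : Fin 2, dB (pnt a b c) = b := by decide

theorem dC_pnt : ∀ a b c : Fin 2, dC (pnt a b c) = c := by decide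

theorem w_mul_apply (p q : Par) (x : Fin 8) : wFun p (wFun q x) = wFun (mulPar p q) x := by
  simp only [wFun, mulPar, dA_pnt, dB_pnt, dC_pnt]
  congr 1 <;> abel

theorem evenPar_mul : ∀ p q : Par, evenPar p = true → evenPar q = true →
    evenPar (mulPar p q) = true := by decide +kernel

theorem w_mul (p q : Par) : w p * w q = w (mulPar p q) := Equiv.ext fun x => w_mul_apply p q x

theorem w_sign : ∀ p : Par, Equiv.Perm.sign (w p) = 1 ↔ evenPar p = true := by decide +kernel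

theorem w_inj : Function.Injective w := by
  have hL : ∀ p : Par, (fun y : Fin 2 → Fin 2 → Fin 2 → Fin 8 =>
      ((dA (y 0 0 0), fun a => dB (y a 0 0), fun a b => dC (y a b 0)) : Par))
      (fun a b c => wFun p (pnt a b c)) = p := by decide +kernel
  intro p q h
  rw [← hL p, ← hL q, show wFun p = wFun q from congrArg (fun e : Equiv.Perm (Fin 8) => (e : Fin 8 → Fin 8)) h]

theorem card_even : (Finset.univ.filter fun p : Par => evenPar p = true).card = 64 := by
  decide +kernel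

theorem w_zero : w (0, 0, 0) = 1 := Equiv.ext (by decide +kernel)

theorem w_pow (p : Par) (hp : evenPar p = true) : ∀ n : ℕ, ∃ q, evenPar q = true ∧ w q = w p ^ n
  | 0 => ⟨(0, 0, 0), by decide, by rw [pow_zero, w_zero]⟩
  | n + 1 => by
    obtain ⟨q, hq, hqn⟩ := w_pow p hp n
    exact ⟨mulPar q p, evenPar_mul q p hq hp, by rw [pow_succ, ← hqn, w_mul]⟩

/-- The standard Sylow 2-subgroup. -/
def P0 : Subgroup (Equiv.Perm (Fin 8)) where
  carrier := {g | ∃ p, evenPar p = true ∧ w p = g}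
  one_mem' := ⟨(0, 0, 0), by decide, w_zero⟩
  mul_mem' := by
    rintro a b ⟨p, hp, rfl⟩ ⟨q, hq, rfl⟩
    exact ⟨mulPar p q, evenPar_mul p q hp hq, (w_mul p q).symm⟩
  inv_mem' := by
    rintro a ⟨p, hp, rfl⟩
    obtain ⟨q, hq, hqn⟩ := w_pow p hp (orderOf (w p) - 1)
    refine ⟨q, hq, hqn.trans (eq_inv_of_mul_eq_one_left ?_)⟩
    rw [← pow_succ, Nat.sub_add_cancel (orderOf_pos _), pow_orderOf_eq_one]

theorem card_P0 : Nat.card P0 = 64 := by
  classical
  let e : {p : Par // evenPar p = true} ≃ P0 :=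
    Equiv.ofBijective (fun p => ⟨w p.1, p.1, p.2, rfl⟩)
      ⟨fun a b h => Subtype.ext (w_inj (congrArg Subtype.val h)),
        fun ⟨g, q, hq, hg⟩ => ⟨⟨q, hq⟩, Subtype.ext hg⟩⟩
  rw [← Nat.card_congr e, Nat.card_eq_fintype_card, Fintype.card_subtype, card_even]

theorem P0_le_alternating : P0 ≤ alternatingGroup (Fin 8) := by
  rintro _ ⟨p, hp, rfl⟩
  exact Equiv.Perm.mem_alternatingGroup.mpr ((w_sign p).mpr hp)

/-- Same block of size two, read off from the group. -/
theorem pair_iff : ∀ x y : Fin 8, (x.1 / 2 = y.1 / 2) ↔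
    ∀ p : Par, evenPar p = true → wFun p x = x → wFun p y = y := by decide +kernel

/-- Same block of size four, read off from the group. -/
theorem quad_iff : ∀ x y : Fin 8, (x.1 / 4 = y.1 / 4) ↔
    ∀ p : Par, evenPar p = true → wFun p x = x → wFun p (wFun p y) = y := by decide +kernel

/-- A permutation respecting the blocks is determined by the images of four points. -/
theorem exists_par : ∀ a b c d : Fin 8, a.1 / 4 = b.1 / 4 → a.1 / 2 ≠ b.1 / 2 →
    c.1 / 4 = d.1 / 4 → c.1 / 2 ≠ d.1 / 2 → a.1 / 4 ≠ c.1 / 4 →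
    wFun (dA a, ![dB a, dB c], ![![dC a, dC b], ![dC c, dC d]]) 0 = a ∧
      wFun (dA a, ![dB a, dB c], ![![dC a, dC b], ![dC c, dC d]]) 2 = b ∧
      wFun (dA a, ![dB a, dB c], ![![dC a, dC b], ![dC c, dC d]]) 4 = c ∧
      wFun (dA a, ![dB a, dB c], ![![dC a, dC b], ![dC c, dC d]]) 6 = d := by decide +kernel

theorem pair_unique : ∀ x y z : Fin 8, x.1 / 2 = y.1 / 2 → x.1 / 2 = z.1 / 2 → x ≠ y → x ≠ z →
    y = z := by decide

theorem wFun_pair : ∀ p : Par, ∀ x : Fin 8,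
    (wFun p x).1 / 2 = (wFun p ⟨2 * (x.1 / 2), by omega⟩).1 / 2 := by decide +kernel

/-- An even permutation normalising the standard Sylow 2-subgroup lies in it. -/
theorem mem_P0_of_normalizes {σ : Equiv.Perm (Fin 8)} (hσ : Equiv.Perm.sign σ = 1)
    (h : ∀ g, g ∈ P0 ↔ σ * g * σ⁻¹ ∈ P0) : σ ∈ P0 := by
  have key : ∀ (x y : Fin 8) (p : Par), evenPar p = true → wFun p (σ x) = σ x →
      ∃ q, evenPar q = true ∧ wFun q x = x ∧ ∀ z, σ (wFun q z) = wFun p (σ z) := by
    intro x y p hp hx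
    obtain ⟨q, hq, hqe⟩ : σ⁻¹ * w p * σ ∈ P0 := (h _).mpr ⟨p, hp, by group⟩
    have e : ∀ z, σ (wFun q z) = wFun p (σ z) := fun z => by
      show σ (w q z) = w p (σ z)
      rw [hqe]; simp
    exact ⟨q, hq, σ.injective ((e x).trans hx), e⟩
  have key' : ∀ (x : Fin 8) (q : Par), evenPar q = true → wFun q x = x →
      ∃ p, evenPar p = true ∧ wFun p (σ x) = σ x ∧ ∀ z, σ (wFun q z) = wFun p (σ z) := by
    intro x q hq hx
    obtain ⟨p, hp, hpe⟩ : σ * w q * σ⁻¹ ∈ P0 := (h _).mp ⟨q, hq, rfl⟩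
    have e : ∀ z, σ (wFun q z) = wFun p (σ z) := fun z => by
      show σ (w q z) = w p (σ z)
      rw [hpe]; simp
    exact ⟨p, hp, by rw [← e, hx], e⟩
  have h2 : ∀ x y : Fin 8, (σ x).1 / 2 = (σ y).1 / 2 ↔ x.1 / 2 = y.1 / 2 := by
    intro x y
    rw [pair_iff, pair_iff]
    constructor
    · intro hh q hq hqx
      obtain ⟨p, hp, hpx, e⟩ := key' x q hq hqx
      exact σ.injective ((e y).trans (hh p hp hpx))
    · intro hh p hp hpx
      obtain ⟨q, hq, hqx, e⟩ := key x y p hp hpx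
      rw [← e, hh q hq hqx]
  have h4 : ∀ x y : Fin 8, (σ x).1 / 4 = (σ y).1 / 4 ↔ x.1 / 4 = y.1 / 4 := by
    intro x y
    rw [quad_iff, quad_iff]
    constructor
    · intro hh q hq hqx
      obtain ⟨p, hp, hpx, e⟩ := key' x q hq hqx
      exact σ.injective (by rw [e, e, hh p hp hpx])
    · intro hh p hp hpx
      obtain ⟨q, hq, hqx, e⟩ := key x y p hp hpx
      rw [← e, ← e, hh q hq hqx]
  obtain ⟨p0, p2, p4, p6⟩ := exists_par (σ 0) (σ 2) (σ 4) (σ 6) ((h4 0 2).mpr (by decide))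
    (fun e => absurd ((h2 0 2).mp e) (by decide)) ((h4 4 6).mpr (by decide))
    (fun e => absurd ((h2 4 6).mp e) (by decide)) (fun e => absurd ((h4 0 4).mp e) (by decide))
  set p : Par := (dA (σ 0), ![dB (σ 0), dB (σ 4)],
    ![![dC (σ 0), dC (σ 2)], ![dC (σ 4), dC (σ 6)]]) with hp
  have heven : ∀ x : Fin 8, wFun p ⟨2 * (x.1 / 2), by omega⟩ = σ ⟨2 * (x.1 / 2), by omega⟩ := by
    intro x
    fin_cases x <;> first | exact p0 | exact p2 | exact p4 | exact p6
  have hall : w p = σ := by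
    refine Equiv.ext fun x => ?_
    show wFun p x = σ x
    set x0 : Fin 8 := ⟨2 * (x.1 / 2), by omega⟩ with hx0
    rcases eq_or_ne x0 x with hxe | hxe
    · rw [← hxe]; exact heven x
    refine pair_unique (σ x0) (wFun p x) (σ x) ?_ ?_ ?_ ?_
    · rw [← heven x, ← wFun_pair p x]
    · exact (h2 x0 x).mpr (by simp [hx0])
    · rw [← heven x]
      exact fun e => hxe ((w p).injective e)
    · exact fun e => hxe (σ.injective e)
  exact ⟨p, (w_sign p).mp (hall ▸ hσ), hall⟩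

/-- Every subgroup of order 64 of `A₈` is self-normalising in `A₈`. -/
theorem mem_of_normalizes {P : Subgroup (Equiv.Perm (Fin 8))} (hcard : Nat.card P = 64)
    (hP : P ≤ alternatingGroup (Fin 8)) {σ : Equiv.Perm (Fin 8)}
    (hσ : σ ∈ alternatingGroup (Fin 8)) (h : ∀ g, g ∈ P ↔ σ * g * σ⁻¹ ∈ P) : σ ∈ P := by
  classical
  have := Fact.mk Nat.prime_two
  have hA : Nat.card (alternatingGroup (Fin 8)) = 20160 := by
    rw [nat_card_alternatingGroup, Nat.card_eq_fintype_card, Fintype.card_fin]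
    decide
  have hfac : 2 ^ (Nat.card (alternatingGroup (Fin 8))).factorization 2 = 64 := by
    rw [hA, show (20160 : ℕ) = 2 ^ 6 * 315 by norm_num, Nat.factorization_mul (by norm_num) (by norm_num),
      Nat.factorization_pow, Finsupp.add_apply, Finsupp.smul_apply, Nat.prime_two.factorization_self,
      Nat.factorization_eq_zero_of_not_dvd (show ¬ 2 ∣ 315 by norm_num)]
    norm_num
  have c0 : Nat.card (P0.subgroupOf (alternatingGroup (Fin 8))) =
      2 ^ (Nat.card (alternatingGroup (Fin 8))).factorization 2 := by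
    rw [Nat.card_congr (Subgroup.subgroupOfEquivOfLe P0_le_alternating).toEquiv, card_P0, hfac]
  have c1 : Nat.card (P.subgroupOf (alternatingGroup (Fin 8))) =
      2 ^ (Nat.card (alternatingGroup (Fin 8))).factorization 2 := by
    rw [Nat.card_congr (Subgroup.subgroupOfEquivOfLe hP).toEquiv, hcard, hfac]
  obtain ⟨a, ha⟩ := MulAction.exists_smul_eq (alternatingGroup (Fin 8)) (Sylow.ofCard _ c0)
    (Sylow.ofCard _ c1)
  have hmem : ∀ g : Equiv.Perm (Fin 8), g ∈ P ↔ (a : Equiv.Perm (Fin 8))⁻¹ * g * a ∈ P0 := by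
    have hle : ∀ g ∈ P0, (a : Equiv.Perm (Fin 8)) * g * (a : Equiv.Perm (Fin 8))⁻¹ ∈ P := by
      intro g hg
      have hx : a * ⟨g, P0_le_alternating hg⟩ * a⁻¹ ∈ (Sylow.ofCard _ c1 : Subgroup _) := by
        rw [← ha]
        exact ⟨⟨g, P0_le_alternating hg⟩, hg, rfl⟩
      exact hx
    have heq : P0.map (MulAut.conj (a : Equiv.Perm (Fin 8))).toMonoidHom = P := by
      refine Subgroup.eq_of_le_of_card_ge (fun x ⟨g, hg, e⟩ => e ▸ hle g hg) ?_
      rw [Subgroup.card_map_of_injective (MulAut.conj _).injective, card_P0, hcard]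
    intro g
    rw [← heq]
    constructor
    · rintro ⟨g', hg', rfl⟩
      simpa [mul_assoc] using hg'
    · intro hg
      exact ⟨_, hg, by simp [mul_assoc]⟩
  have hσ0 : (a : Equiv.Perm (Fin 8))⁻¹ * σ * a ∈ P0 := by
    refine mem_P0_of_normalizes (Equiv.Perm.mem_alternatingGroup.mp
      (mul_mem (mul_mem (inv_mem a.2) hσ) a.2)) fun g => ?_
    have e1 := hmem (a * g * (a : Equiv.Perm (Fin 8))⁻¹)
    have e2 := h (a * g * (a : Equiv.Perm (Fin 8))⁻¹)
    have e3 := hmem (σ * (a * g * (a : Equiv.Perm (Fin 8))⁻¹) * σ⁻¹)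
    simp only [mul_assoc, inv_mul_cancel_left, inv_mul_cancel, mul_one, mul_inv_rev, inv_inv] at e1 e2 e3 ⊢
    exact e1.symm.trans (e2.trans e3)
  exact (hmem σ).mpr hσ0

end Cfsg.Agent.H59.AltEight
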