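import Cfsg.Agent.S0016
import Mathlib

set_option autoImplicit false

namespace Cfsg.Agent.H59.ConjPSubgroups

open Subgroup

variable {P : Type*} [Group P] [Finite P] {p : ℕ} [Fact p.Prime]

/-- Order of the join of a subgroup with an element of prime order normalising it. -/
theorem card_sup_zpowers {A : Subgroup P} {w : P} (hw : orderOf w = p) (hA : w ∉ A)
    (hn : w ∈ Subgroup.normalizer (A : Set P)) : Nat.card ↥(A ⊔ zpowers w) = Nat.card A * p := by
  have hd : Disjoint A (zpowers w) := by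
    rw [disjoint_iff, eq_bot_iff]
    intro u hu
    by_contra h
    have hu1 : u ≠ 1 := h
    have hle : zpowers u ≤ zpowers w := zpowers_le.2 hu.2
    have hdv := Subgroup.card_dvd_of_le hle
    rw [Nat.card_zpowers, Nat.card_zpowers, hw] at hdv
    rcases (Nat.dvd_prime (Fact.out : p.Prime)).1 hdv with h1 | h1
    · exact hu1 (orderOf_eq_one_iff.1 h1)
    · have := Subgroup.eq_of_le_of_card_ge hle (by rw [Nat.card_zpowers, Nat.card_zpowers, hw, h1])
      exact hA ((zpowers_le.2 hu.1) (this ▸ mem_zpowers w))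
  have hle : zpowers w ≤ Subgroup.normalizer (A : Set P) := zpowers_le.2 hn
  rw [← hw, ← Nat.card_zpowers, ← Nat.card_prod]
  refine (Nat.card_eq_of_bijective
    (fun q : ↥A × ↥(zpowers w) => (⟨(q.1 : P) * q.2,
      mul_mem (mem_sup_left q.1.2) (mem_sup_right q.2.2)⟩ : ↥(A ⊔ zpowers w))) ⟨?_, ?_⟩).symm
  · intro a b h
    exact Subgroup.mul_injective_of_disjoint hd (congrArg Subtype.val h)
  · rintro ⟨g, hg⟩
    have hg' : g ∈ ((A ⊔ zpowers w : Subgroup P) : Set P) := hg
    rw [Subgroup.coe_mul_of_right_le_normalizer_left _ _ hle] at hg'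
    obtain ⟨a, ha, b, hb, rfl⟩ := Set.mem_mul.1 hg'
    exact ⟨(⟨a, ha⟩, ⟨b, hb⟩), rfl⟩

theorem comm_sup_zpowers {A : Subgroup P} {w : P} (hA : IsMulCommutative A)
    (hc : w ∈ centralizer (A : Set P)) : IsMulCommutative ↥(A ⊔ zpowers w) := by
  rw [← le_centralizer_iff_isMulCommutative]
  have hAA : A ≤ centralizer (A : Set P) := le_centralizer_iff_isMulCommutative.2 hA
  have hwA : zpowers w ≤ centralizer (A : Set P) := zpowers_le.2 hc
  have hww : zpowers w ≤ centralizer ((zpowers w : Subgroup P) : Set P) :=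
    le_centralizer_iff_isMulCommutative.2 inferInstance
  exact sup_le (le_centralizer_iff.1 (sup_le hAA hwA))
    (le_centralizer_iff.1 (sup_le (le_centralizer_iff.1 hwA) hww))

variable (hP : IsPGroup p P)
  (hI : ∀ H K : Subgroup P, Nat.card H = Nat.card K → Nonempty (↥H ≃* ↥K))

include hP hI in
theorem exponent_of_two (a b : P) (ha : orderOf a = p) (hb : orderOf b = p)
    (hab : zpowers a ≠ zpowers b) (g : P) : g ^ p = 1 := by
  have hp : p.Prime := Fact.out
  haveI : Nontrivial P := ⟨⟨a, 1, fun h => hp.ne_one (by rw [← ha, h, orderOf_one])⟩⟩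
  haveI := hP.center_nontrivial
  obtain ⟨z0, hz0⟩ := exists_prime_orderOf_dvd_card' (G := center P) p (by
    obtain ⟨k, hk, hk'⟩ := (hP.to_subgroup (center P)).nontrivial_iff_card.1 inferInstance
    rw [hk']; exact dvd_pow_self p hk.ne')
  set z : P := (z0 : P)
  have hz : orderOf z = p := by rw [← hz0]; exact Subgroup.orderOf_coe z0
  obtain ⟨w, hw, hwz⟩ : ∃ w : P, orderOf w = p ∧ w ∉ zpowers z := by
    have key : ∀ u : P, orderOf u = p → u ∈ zpowers z → zpowers u = zpowers z := fun u hu h =>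
      Subgroup.eq_of_le_of_card_ge (zpowers_le.2 h) (by rw [Nat.card_zpowers, Nat.card_zpowers, hu, hz])
    by_cases ha' : a ∈ zpowers z
    · exact ⟨b, hb, fun h => hab ((key a ha ha').trans (key b hb h).symm)⟩
    · exact ⟨a, ha, ha'⟩
  have hwc : w ∈ centralizer ((zpowers z : Subgroup P) : Set P) := by
    rw [Subgroup.mem_centralizer_iff]
    intro u hu
    have hu' : u ∈ center P := zpowers_le.2 z0.2 hu
    exact (Subgroup.mem_center_iff.1 hu' w).symm
  have hE : Nat.card ↥(zpowers z ⊔ zpowers w) = p ^ 2 := by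
    rw [card_sup_zpowers hw hwz ((centralizer_le_normalizer _) hwc), Nat.card_zpowers, hz, sq]
  have hExp : ∀ u : ↥(zpowers z ⊔ zpowers w), u ^ p = 1 := by
    haveI : IsMulCommutative ↥(zpowers z ⊔ zpowers w) := comm_sup_zpowers inferInstance hwc
    rintro ⟨u, hu⟩
    have hu' : u ∈ ((zpowers z ⊔ zpowers w : Subgroup P) : Set P) := hu
    rw [Subgroup.coe_mul_of_right_le_normalizer_left _ _
      (zpowers_le.2 ((centralizer_le_normalizer _) hwc))] at hu'
    obtain ⟨s, hs, t, ht, rfl⟩ := Set.mem_mul.1 hu'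
    apply Subtype.ext
    show (s * t) ^ p = 1
    have hcm : Commute s t := by
      have := (zpowers_le.2 hwc) ht
      exact Subgroup.mem_centralizer_iff.1 this s hs
    rw [hcm.mul_pow]
    obtain ⟨i, rfl⟩ := Subgroup.mem_zpowers_iff.1 hs
    obtain ⟨j, rfl⟩ := Subgroup.mem_zpowers_iff.1 ht
    have hz1 : z ^ (p : ℤ) = 1 := by rw [zpow_natCast, ← hz]; exact pow_orderOf_eq_one z
    have hw1 : w ^ (p : ℤ) = 1 := by rw [zpow_natCast, ← hw]; exact pow_orderOf_eq_one w
    rw [← zpow_natCast, ← zpow_mul, ← zpow_natCast (w ^ j), ← zpow_mul, mul_comm i, mul_comm j,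
      zpow_mul, zpow_mul, hz1, hw1]
    simp
  obtain ⟨k, hk⟩ := IsPGroup.iff_orderOf.1 hP g
  by_cases hk2 : k ≤ 1
  · apply orderOf_dvd_iff_pow_eq_one.1
    rw [hk]; exact (pow_dvd_pow p hk2).trans (by rw [pow_one])
  exfalso
  have ho : orderOf (g ^ p ^ (k - 2)) = p ^ 2 := by
    rw [orderOf_pow' _ (pow_ne_zero _ hp.ne_zero), hk, Nat.gcd_eq_right (pow_dvd_pow p (by omega)),
      Nat.pow_div (by omega) hp.pos]
    congr 1; omega
  obtain ⟨e⟩ := hI (zpowers (g ^ p ^ (k - 2))) (zpowers z ⊔ zpowers w)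
    (by rw [Nat.card_zpowers, ho, hE])
  have h1 := hExp (e ⟨_, mem_zpowers _⟩)
  rw [← map_pow, e.map_eq_one_iff] at h1
  have h2 : (g ^ p ^ (k - 2)) ^ p = 1 := congrArg Subtype.val h1
  have := Nat.le_of_dvd hp.pos (ho ▸ orderOf_dvd_of_pow_eq_one h2)
  nlinarith [hp.two_le]

include hP hI in
theorem card_of_exponent (hexp : ∀ g : P, g ^ p = 1) (hna : ¬ IsMulCommutative P) :
    Nat.card P = p ^ 3 := by
  have hp : p.Prime := Fact.out
  haveI := hP.isNilpotent
  have hord : ∀ g : P, g ≠ 1 → orderOf g = p := fun g hg => orderOf_eq_prime (hexp g) hg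
  obtain ⟨x, hx2, hxZ⟩ : ∃ x : P, x ∈ Subgroup.upperCentralSeries P 2 ∧ x ∉ center P := by
    by_contra h
    simp only [not_exists, not_and, not_not] at h
    have h12 : Subgroup.upperCentralSeries P 2 = Subgroup.upperCentralSeries P 1 := by
      refine le_antisymm ?_ (Subgroup.upperCentralSeries_mono P (by norm_num))
      intro u hu; rw [Subgroup.upperCentralSeries_one]; exact h u hu
    have hstab : ∀ n, Subgroup.upperCentralSeries P (n + 1) = Subgroup.upperCentralSeries P 1 := by
      intro n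
      induction n with
      | zero => rfl
      | succ n ih =>
        ext u
        rw [Subgroup.mem_upperCentralSeries_succ_iff, ih, ← h12, Subgroup.mem_upperCentralSeries_succ_iff]
        simp only [h12]
    obtain ⟨n, hn⟩ := (inferInstance : Group.IsNilpotent P).nilpotent
    have htop : center P = ⊤ := by
      rw [← Subgroup.upperCentralSeries_one, ← hstab n, eq_top_iff, ← hn]
      exact Subgroup.upperCentralSeries_mono P (by omega)
    exact hna ⟨⟨fun u v => Subgroup.mem_center_iff.1 (htop ▸ mem_top v) u⟩⟩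
  have hcomm : ∀ g : P, x * g * x⁻¹ * g⁻¹ ∈ center P := fun g => by
    have := (Subgroup.mem_upperCentralSeries_succ_iff.1 hx2) g
    rwa [Subgroup.upperCentralSeries_one] at this
  have hx1 : x ≠ 1 := fun h => hxZ (h ▸ one_mem _)
  have hxc : x ∈ centralizer ((center P : Subgroup P) : Set P) := by
    rw [Subgroup.mem_centralizer_iff]
    exact fun u hu => (Subgroup.mem_center_iff.1 hu x).symm
  have hEab : IsMulCommutative ↥(center P ⊔ zpowers x) := comm_sup_zpowers inferInstance hxc
  have hEcard : Nat.card ↥(center P ⊔ zpowers x) = Nat.card ↥(center P) * p :=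
    card_sup_zpowers (hord x hx1) hxZ ((centralizer_le_normalizer _) hxc)
  obtain ⟨y, hy⟩ : ∃ y, x * y * x⁻¹ * y⁻¹ ≠ 1 := by
    by_contra h
    simp only [not_exists, not_not] at h
    refine hxZ (Subgroup.mem_center_iff.2 fun g => ?_)
    have := h g
    rw [mul_inv_eq_one, mul_inv_eq_iff_eq_mul] at this
    exact this.symm
  set c := x * y * x⁻¹ * y⁻¹ with hcdef
  have hc : c ∈ center P := hcomm y
  have hcz : zpowers c ≤ center P := zpowers_le.2 hc
  have hxc' : x ∈ centralizer ((zpowers c : Subgroup P) : Set P) := centralizer_le hcz hxc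
  have hAcard : Nat.card ↥(zpowers c ⊔ zpowers x) = p ^ 2 := by
    rw [card_sup_zpowers (hord x hx1) (fun h => hxZ (hcz h)) ((centralizer_le_normalizer _) hxc'),
      Nat.card_zpowers, hord c hy, sq]
  haveI hAab : IsMulCommutative ↥(zpowers c ⊔ zpowers x) := comm_sup_zpowers inferInstance hxc'
  have hxA : x ∈ zpowers c ⊔ zpowers x := mem_sup_right (mem_zpowers x)
  have hyA : y ∉ zpowers c ⊔ zpowers x := fun h => hy (by
    have h' : x * y = y * x := congrArg Subtype.val
      (IsMulCommutative.is_comm.comm (⟨x, hxA⟩ : ↥(zpowers c ⊔ zpowers x)) ⟨y, h⟩)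
    show x * y * x⁻¹ * y⁻¹ = 1
    rw [h']; group)
  have hyn : y ∈ Subgroup.normalizer ((zpowers c ⊔ zpowers x : Subgroup P) : Set P) := by
    apply Subgroup.mem_normalizer_fintype
    intro u hu
    have hle : zpowers c ⊔ zpowers x ≤ (zpowers c ⊔ zpowers x).comap (MulAut.conj y).toMonoidHom := by
      refine sup_le (zpowers_le.2 ?_) (zpowers_le.2 ?_)
      · show y * c * y⁻¹ ∈ zpowers c ⊔ zpowers x
        rw [Subgroup.mem_center_iff.1 hc y, mul_inv_cancel_right]
        exact mem_sup_left (mem_zpowers c)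
      · show y * x * y⁻¹ ∈ zpowers c ⊔ zpowers x
        have : y * x * y⁻¹ = c⁻¹ * x := by rw [hcdef]; group
        rw [this]
        exact mul_mem (inv_mem (mem_sup_left (mem_zpowers c))) hxA
    exact hle hu
  have hM : Nat.card ↥(zpowers c ⊔ zpowers x ⊔ zpowers y) = p ^ 3 := by
    rw [card_sup_zpowers (hord y fun h => hyA (h ▸ one_mem _)) hyA hyn, hAcard]; ring
  have hnoab : ∀ H : Subgroup P, IsMulCommutative H → Nat.card H ≠ p ^ 3 := by
    intro H hH hHc
    obtain ⟨e⟩ := hI H _ (hHc.trans hM.symm)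
    refine hy ?_
    have h' := congrArg Subtype.val (e.symm.injective (by
      rw [map_mul, map_mul]; exact hH.is_comm.comm _ _) :
      (⟨x, mem_sup_left hxA⟩ * ⟨y, mem_sup_right (mem_zpowers y)⟩ :
        ↥(zpowers c ⊔ zpowers x ⊔ zpowers y)) = ⟨y, mem_sup_right (mem_zpowers y)⟩ * ⟨x, mem_sup_left hxA⟩)
    have h'' : x * y = y * x := h'
    show x * y * x⁻¹ * y⁻¹ = 1
    rw [h'']; group
  have hsmall : ∀ H : Subgroup P, IsMulCommutative H → Nat.card H ≤ p ^ 2 := by
    intro H hH
    by_contra hgt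
    obtain ⟨k, hk⟩ := IsPGroup.iff_card.1 (hP.to_subgroup H)
    have h3 : 3 ≤ k := by
      by_contra h
      exact hgt (hk ▸ Nat.pow_le_pow_right hp.pos (by omega))
    obtain ⟨K, hK⟩ := Sylow.exists_subgroup_card_pow_prime (G := H) p (hk ▸ pow_dvd_pow p h3)
    refine hnoab (K.map H.subtype) ?_ (by rw [Subgroup.card_map_of_injective H.subtype_injective]; exact hK)
    rw [← le_centralizer_iff_isMulCommutative]
    intro u hu
    rw [Subgroup.mem_centralizer_iff]
    intro v hv
    exact congrArg Subtype.val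
      (hH.is_comm.comm ⟨v, Subgroup.map_subtype_le K hv⟩ ⟨u, Subgroup.map_subtype_le K hu⟩)
  have hZ : Nat.card ↥(center P) ≤ p := by
    have := hsmall _ hEab
    rw [hEcard, sq] at this
    exact Nat.le_of_mul_le_mul_right this hp.pos
  have hCeq : centralizer ({x} : Set P) ≤ zpowers c ⊔ zpowers x := by
    intro w hw
    by_contra hwA
    have hw1 : w ≠ 1 := fun h => hwA (h ▸ one_mem _)
    have hwc : w ∈ centralizer ((zpowers c ⊔ zpowers x : Subgroup P) : Set P) := by
      rw [← zpowers_le, le_centralizer_iff]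
      refine sup_le (hcz.trans (center_le_centralizer _)) ?_
      rw [← le_centralizer_iff, zpowers_le, Subgroup.zpowers_eq_closure, Subgroup.centralizer_closure]
      exact hw
    have h1 := hsmall _ (comm_sup_zpowers hAab hwc)
    rw [card_sup_zpowers (hord w hw1) hwA ((centralizer_le_normalizer _) hwc), hAcard] at h1
    nlinarith [hp.two_le, pow_pos hp.pos 2]
  let φ : P →* ↥(center P) := MonoidHom.mk' (fun g => ⟨x * g * x⁻¹ * g⁻¹, hcomm g⟩) (fun g h => by
    apply Subtype.ext
    show x * (g * h) * x⁻¹ * (g * h)⁻¹ = x * g * x⁻¹ * g⁻¹ * (x * h * x⁻¹ * h⁻¹)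
    have := Subgroup.mem_center_iff.1 (hcomm h) g
    calc x * (g * h) * x⁻¹ * (g * h)⁻¹ = x * g * x⁻¹ * ((x * h * x⁻¹ * h⁻¹) * g⁻¹) := by group
      _ = _ := by rw [← Subgroup.mem_center_iff.1 (hcomm h) g⁻¹]; group)
  have hker : φ.ker ≤ centralizer ({x} : Set P) := by
    intro g hg
    have h : x * g * x⁻¹ * g⁻¹ = 1 := congrArg Subtype.val hg
    rw [Subgroup.mem_centralizer_singleton_iff]
    rw [mul_inv_eq_one, mul_inv_eq_iff_eq_mul] at h
    exact h.symm
  have hle : Nat.card P ≤ p ^ 3 := by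
    rw [← Subgroup.card_mul_index φ.ker, Subgroup.index_ker, pow_succ]
    refine Nat.mul_le_mul ?_ ?_
    · exact hAcard ▸ Nat.le_of_dvd Nat.card_pos (Subgroup.card_dvd_of_le (hker.trans hCeq))
    · exact le_trans (Nat.le_of_dvd Nat.card_pos (Subgroup.card_subgroup_dvd_card _)) hZ
  exact le_antisymm hle (hM ▸ Nat.le_of_dvd Nat.card_pos (Subgroup.card_subgroup_dvd_card _))

include hI in
theorem quaternion_small {n : ℕ} (e : P ≃* QuaternionGroup (2 ^ n)) : n ≤ 1 := by
  by_contra hn
  haveI : NeZero (2 ^ n) := ⟨by positivity⟩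
  haveI : Fact (Nat.Prime 2) := ⟨Nat.prime_two⟩
  set y := e.symm (QuaternionGroup.xa 0) with hy
  have hyo : orderOf y = 4 := by rw [hy, MulEquiv.orderOf_eq, QuaternionGroup.orderOf_xa]
  have hc : Nat.card P = 2 ^ (n + 2) := by
    rw [Nat.card_congr e.toEquiv, Nat.card_eq_fintype_card, QuaternionGroup.card, pow_add]; ring
  obtain ⟨M, hM, hyM⟩ := Sylow.exists_subgroup_card_pow_succ (G := P) (p := 2) (n := 2)
    (by rw [hc]; exact pow_dvd_pow 2 (by omega)) (H := zpowers y) (by rw [Nat.card_zpowers, hyo]; rfl)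
  set u := e.symm ((QuaternionGroup.a 1) ^ 2 ^ (n - 2)) with hu
  have huo : orderOf u = 8 := by
    rw [hu, MulEquiv.orderOf_eq, orderOf_pow' _ (by positivity), QuaternionGroup.orderOf_a_one,
      ← pow_succ', Nat.gcd_eq_right (pow_dvd_pow 2 (by omega)), Nat.pow_div (by omega) (by norm_num),
      show n + 1 - (n - 2) = 3 by omega]
    all_goals norm_num
  obtain ⟨f⟩ := hI (zpowers u) M (by rw [Nat.card_zpowers, huo, hM]; norm_num)
  set v := f ⟨u, mem_zpowers u⟩ with hv
  have hvo : orderOf (v : P) = 8 := by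
    rw [Subgroup.orderOf_coe, hv, MulEquiv.orderOf_eq, ← Subgroup.orderOf_coe]; exact huo
  haveI : IsMulCommutative M := ⟨⟨fun s t => f.symm.injective (by
    rw [map_mul, map_mul]; exact IsMulCommutative.is_comm.comm _ _)⟩⟩
  have hcomm : (v : P) * y = y * v := congrArg Subtype.val
    (IsMulCommutative.is_comm.comm v (⟨y, hyM (mem_zpowers y)⟩ : M))
  have h2 := congrArg e hcomm
  rw [map_mul, map_mul, hy, e.apply_symm_apply] at h2
  have hv8 : orderOf (e (v : P)) = 8 := by rw [MulEquiv.orderOf_eq]; exact hvo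
  cases he : e (v : P) with
  | xa i => rw [he, QuaternionGroup.orderOf_xa] at hv8; omega
  | a i =>
    rw [he, QuaternionGroup.a_mul_xa, QuaternionGroup.xa_mul_a, zero_add, zero_sub,
      QuaternionGroup.xa.injEq] at h2
    rw [he] at hv8
    have : (QuaternionGroup.a i) ^ 2 = (1 : QuaternionGroup (2 ^ n)) := by
      rw [sq, QuaternionGroup.a_mul_a]
      show QuaternionGroup.a (i + i) = QuaternionGroup.a 0
      congr 1
      nth_rewrite 1 [← h2]
      abel
    have := orderOf_dvd_of_pow_eq_one this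
    rw [hv8] at this
    norm_num at this

include hP hI in
theorem structure_aux :
    IsCyclic P ∨ (IsMulCommutative P ∧ ∀ g : P, g ^ p = 1) ∨
      (p = 2 ∧ Nonempty (P ≃* QuaternionGroup 2)) ∨
      (p ≠ 2 ∧ ¬ IsMulCommutative P ∧ Nat.card P = p ^ 3 ∧ Monoid.exponent P = p) := by
  have hp : p.Prime := Fact.out
  by_cases huniq : ∀ H K : Subgroup P, Nat.card H = p → Nat.card K = p → H = K
  · rcases Cfsg.Agent.S0016.result p hP huniq with h | ⟨h2, n, ⟨e⟩⟩
    · exact Or.inl h
    · have hn := quaternion_small hI e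
      interval_cases n
      · left
        haveI : IsCyclic (QuaternionGroup (2 ^ 0)) := by
          rw [pow_zero]; exact QuaternionGroup.quaternionGroup_one_isCyclic
        exact isCyclic_of_surjective e.symm e.symm.surjective
      · exact Or.inr (Or.inr (Or.inl ⟨h2, ⟨e⟩⟩))
  · simp only [not_forall] at huniq
    obtain ⟨H, K, hH, hK, hne⟩ := huniq
    obtain ⟨a, ha⟩ := exists_prime_orderOf_dvd_card' (G := H) p (by rw [hH])
    obtain ⟨b, hb⟩ := exists_prime_orderOf_dvd_card' (G := K) p (by rw [hK])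
    have ha' : orderOf (a : P) = p := by rw [Subgroup.orderOf_coe, ha]
    have hb' : orderOf (b : P) = p := by rw [Subgroup.orderOf_coe, hb]
    have hexp := exponent_of_two hP hI (a : P) b ha' hb' (fun h => hne (by
      rw [← Subgroup.eq_of_le_of_card_ge (zpowers_le.2 a.2) (by rw [Nat.card_zpowers, ha', hH]),
        ← Subgroup.eq_of_le_of_card_ge (zpowers_le.2 b.2) (by rw [Nat.card_zpowers, hb', hK]), h]))
    by_cases hc : IsMulCommutative P
    · exact Or.inr (Or.inl ⟨hc, hexp⟩)
    refine Or.inr (Or.inr (Or.inr ⟨?_, hc, card_of_exponent hP hI hexp hc, ?_⟩))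
    · intro h2
      apply hc
      refine ⟨⟨fun s t => ?_⟩⟩
      have key : ∀ g : P, g⁻¹ = g := fun g => by
        have := hexp g
        rw [h2, sq] at this
        exact inv_eq_of_mul_eq_one_left this
      calc s * t = (s * t)⁻¹ := (key _).symm
        _ = t⁻¹ * s⁻¹ := mul_inv_rev _ _
        _ = t * s := by rw [key, key]
    · have hd : Monoid.exponent P ∣ p := Monoid.exponent_dvd_of_forall_pow_eq_one hexp
      rcases (Nat.dvd_prime hp).1 hd with h | h
      · exfalso
        have := Monoid.pow_exponent_eq_one (a : P)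
        rw [h, pow_one] at this
        rw [this, orderOf_one] at ha'
        exact hp.ne_one ha'.symm
      · exact h

end Cfsg.Agent.H59.ConjPSubgroups
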