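import Cfsg.Agent.H59.SL2Word
import Cfsg.Agent.H60.Basic
import Cfsg.Agent.H59.ThompsonComplement

/-!
# Lower bounds for the codimension of fixed points in modules for `SL₂(q)`
-/

set_option autoImplicit false

namespace Cfsg.Agent.H59

open Subgroup

variable {G : Type*} [Group G] [Finite G] {p : ℕ} [Fact p.Prime]

/-- An element of primitive order modulo the centralizer of `V` moves a large part of `V`. -/
theorem pow_le_relIndex {V U : Subgroup G} (hV : IsPGroup p V) {g : G}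
    (hg : g ∈ normalizer (V : Set G)) (hU : ∀ v ∈ U, g * v = v * g) {n r : ℕ}
    (hr : IsPrimitivePow p n r)
    (hk : ∀ k : ℕ, g ^ k ∈ centralizer (V : Set G) ↔ r ∣ k) :
    p ^ (2 * n) ≤ U.relIndex V := by
  obtain ⟨⟨ℓ, e, hℓ, -, hℓp, rfl⟩, -, hprim⟩ := hr
  have hp : p.Prime := Fact.out
  set g₀ := g ^ ℓ ^ e with hg₀
  set C := V ⊓ centralizer ({g₀} : Set G) with hC
  have hUC : U ⊓ V ≤ C := fun v hv => ⟨hv.2, by
    rintro _ rfl
    exact ((show Commute g v from hU v hv.1).pow_left _).eq⟩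
  refine le_trans ?_ (Nat.le_of_dvd (Nat.pos_of_ne_zero (by
    exact index_ne_zero_of_finite)) (show C.relIndex V ∣ U.relIndex V by
      rw [← inf_relIndex_right U V]; exact relIndex_dvd_of_le_left V hUC))
  -- the action of the automorphism induced by `g`
  set φ : MulAut V := MulAut.conjNormal (H := V.subgroupOf (normalizer (V : Set G)))
    ⟨g, hg⟩ |> fun f => ((subgroupOfEquivOfLe Subgroup.le_normalizer).symm.trans f).trans
      (subgroupOfEquivOfLe Subgroup.le_normalizer) with hφ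
  have hφx : ∀ v : V, ((φ v : V) : G) = g * v * g⁻¹ := fun v => rfl
  have hφk : ∀ (k : ℕ) (v : V), (((φ ^ k) v : V) : G) = g ^ k * v * (g ^ k)⁻¹ := by
    intro k
    induction k with
    | zero => intro v; simp
    | succ k ih =>
      intro v
      rw [pow_succ', MulAut.mul_apply, hφx, ih, pow_succ']
      group
  have hord : orderOf φ = ℓ ^ (e + 1) := by
    refine Nat.dvd_antisymm ?_ ?_
    · refine orderOf_dvd_of_pow_eq_one (MulEquiv.ext fun v => Subtype.ext ?_)
      rw [hφk, ← (hk _).mpr dvd_rfl v v.2, mul_inv_cancel_right]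
      rfl
    · refine (hk _).mp fun v hv => ?_
      have := hφk (orderOf φ) ⟨v, hv⟩
      rw [pow_orderOf_eq_one] at this
      exact (eq_mul_inv_iff_mul_eq.mp this)
  set Z := zpowers φ with hZ
  -- the points not fixed by `g₀`
  let X := {v : V // (v : G) ∉ C}
  have hfix : ∀ v : V, (v : G) ∈ C ↔ (φ ^ ℓ ^ e) v = v := by
    intro v
    rw [Subtype.ext_iff, hφk, mul_inv_eq_iff_eq_mul, ← hg₀]
    exact ⟨fun h => h.2 g₀ rfl, fun h => ⟨v.2, by rintro _ rfl; exact h⟩⟩
  have hinv : ∀ (σ : Z) (v : V), (v : G) ∈ C → ((σ : MulAut V) v : G) ∈ C := by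
    rintro ⟨σ, hσ⟩ v hv
    obtain ⟨i, rfl⟩ := hσ
    rw [hfix] at hv ⊢
    rw [← MulAut.mul_apply, ((Commute.refl φ).zpow_right i).pow_left (ℓ ^ e) |>.eq, MulAut.mul_apply, hv]
  letI : MulAction Z X :=
    { smul := fun σ v => ⟨(σ : MulAut V) v.1, fun h => v.2 (by
        have := hinv σ⁻¹ _ h
        simpa using this)⟩
      one_smul := fun v => rfl
      mul_smul := fun a b v => rfl }
  have hsm : ∀ (σ : Z) (v : X), (σ • v).1 = (σ : MulAut V) v.1 := fun _ _ => rfl
  have hfree : ∀ v : X, MulAction.stabilizer Z v = ⊥ := by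
    intro v
    refine (eq_bot_iff_forall _).mpr fun σ hσ => ?_
    by_contra hne
    obtain ⟨σ, hσm⟩ := σ
    have hs : σ v.1 = v.1 := (hsm ⟨σ, hσm⟩ v).symm.trans (congrArg Subtype.val (MulAction.mem_stabilizer_iff.mp hσ))
    obtain ⟨i, rfl⟩ := mem_powers_iff_mem_zpowers.mpr hσm
    simp only at hs hne
    have hgcd : ¬ ℓ ^ (e + 1) ∣ i := fun h => hne (Subtype.ext (orderOf_dvd_iff_pow_eq_one.mp (hord ▸ h)))
    obtain ⟨j, hje, hj⟩ := (Nat.dvd_prime_pow hℓ).mp (Nat.gcd_dvd_right i (ℓ ^ (e + 1)))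
    have hje' : j ≤ e := by
      by_contra h
      obtain rfl : j = e + 1 := by omega
      exact hgcd (hj ▸ Nat.gcd_dvd_left _ _)
    have hmem : φ ^ ℓ ^ e ∈ MulAction.stabilizer (MulAut V) v.1 := by
      have h1 : φ ^ Nat.gcd i (orderOf φ) ∈ MulAction.stabilizer (MulAut V) v.1 := by
        rw [← zpow_natCast, Nat.gcd_eq_gcd_ab, zpow_add, zpow_mul, zpow_mul, zpow_natCast,
          zpow_natCast, pow_orderOf_eq_one, one_zpow, mul_one]
        exact zpow_mem hs _
      rw [hord, hj] at h1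
      rw [← Nat.add_sub_of_le hje', pow_add, pow_mul]
      exact pow_mem h1 _
    exact v.2 ((hfix v.1).mpr hmem)
  have hdvd : ℓ ^ (e + 1) ∣ Nat.card X := by
    have e2 := MulAction.selfEquivSigmaOrbits Z X
    have : Fintype (MulAction.orbitRel.Quotient Z X) := Fintype.ofFinite _
    rw [Nat.card_congr e2, Nat.card_sigma]
    refine Finset.dvd_sum fun ω _ => dvd_of_eq ?_
    have h1 := Nat.card_congr (MulAction.orbitEquivQuotientStabilizer Z ω.out)
    rw [hfree, ← index_eq_card, index_bot] at h1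
    rw [h1, hZ, Nat.card_zpowers, hord]
  -- count
  obtain ⟨a, ha⟩ := IsPGroup.iff_card.mp hV
  obtain ⟨b, hb⟩ := IsPGroup.iff_card.mp (hV.to_le (inf_le_left : C ≤ V))
  have hidx : Nat.card C * C.relIndex V = Nat.card V := by
    have := (C.subgroupOf V).card_mul_index
    rwa [Nat.card_congr (subgroupOfEquivOfLe (inf_le_left : C ≤ V)).toEquiv] at this
  obtain ⟨j, -, hj⟩ := (Nat.dvd_prime_pow hp).mp ⟨Nat.card C, by rw [← ha, ← hidx, mul_comm]⟩
  have hab : Nat.card X = p ^ b * (p ^ j - 1) := by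
    classical
    have hc : Nat.card {v : V // (v : G) ∈ C} = Nat.card C := Nat.card_congr
      { toFun := fun v => ⟨v.1, v.2⟩
        invFun := fun c => ⟨⟨c, c.2.1⟩, c.2⟩
        left_inv := fun v => rfl
        right_inv := fun c => rfl }
    have hs := Nat.card_congr (Equiv.sumCompl fun v : V => (v : G) ∈ C)
    rw [Nat.card_sum, hc, ← hidx, hb, hj] at hs
    rw [Nat.mul_sub_one]
    change p ^ b + Nat.card X = _ at hs
    omega
  rw [hj]
  refine Nat.pow_le_pow_right hp.pos ?_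
  by_contra hlt
  have hj0 : j ≠ 0 := by
    rintro rfl
    rw [pow_zero, relIndex_eq_one] at hj
    have := (hk (ℓ ^ e)).mp fun v hv => ((hj hv).2 g₀ rfl).symm
    have := Nat.le_of_dvd (Nat.pow_pos hℓ.pos) this
    exact absurd this (not_le.mpr (Nat.pow_lt_pow_right hℓ.one_lt (Nat.lt_succ_self e)))
  refine hprim j (Nat.pos_of_ne_zero hj0) (by omega) ?_
  refine (Nat.Coprime.dvd_of_dvd_mul_left ?_ (hab ▸ hdvd))
  exact (((Nat.coprime_primes hℓ hp).mpr hℓp).pow (e + 1) b)

end Cfsg.Agent.H59
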