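import Cfsg.Agent.H45.CosetOrbit

/-! Lower bound chain for the centraliser of an involution in He. -/

set_option autoImplicit false

namespace Cfsg.Agent.H59.HeCentE

open Cfsg.Agent.H45

/-- a stabiliser chain -/
def chain : List Lvl := [
  ⟨0, [[6, 5, 6, 5], [5], [3, 4, 5, 3, 2, 3, 5, 4, 3, 6, 3, 4, 5, 3, 2, 3, 5, 4, 3, 6], [3, 4, 6, 3, 2, 3, 6, 4, 3, 3, 4, 5, 3, 2, 3, 5, 4, 3, 3, 4, 6, 3, 2, 3, 6, 4, 3], [3, 4, 5, 3, 2, 3, 5, 4, 3], [3, 4, 6, 3, 2, 3, 6, 4, 3, 5, 3, 4, 6, 3, 2, 3, 6, 4, 3], [1, 3, 4, 5, 3, 2, 3, 5, 4, 3, 3, 4, 6, 3, 2, 3, 6, 4, 3, 5, 3, 4, 6, 3, 2, 3, 6, 4, 3, 6, 3, 4, 5, 3, 2, 3, 5, 4, 3, 6, 1], [1, 3, 4, 5, 3, 2, 3, 5, 4, 3, 6, 3, 4, 5, 3, 2, 3, 5, 4, 3, 1], [1, 3, 4,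 6, 3, 2, 3, 6, 4, 3, 1, 3, 4, 5, 3, 2, 3, 5, 4, 3, 1, 3, 4, 6, 3, 2, 3, 6, 4, 3, 1], [1], [1, 3, 4, 6, 3, 2, 3, 6, 4, 3, 5, 3, 4, 6, 3, 2, 3, 6, 4, 3, 1]], 42, [0x81520987c50887c50380750980890480890380fc0986c00886c00380740980d50480d50381fa0386ac0980280880cb09817e0386ad09809408812a09813c09813c03806b08803c09803c08803c0481d20981d20380320880590980590880590480040880040480040380010880010480010380010280000a800009]⟩,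
  ⟨40, [[6, 5, 6, 5], [5], [3, 4, 5, 3, 2, 3, 5, 4, 3, 6, 3, 4, 5, 3, 2, 3, 5, 4, 3, 6], [3, 4, 6, 3, 2, 3, 6, 4, 3, 3, 4, 5, 3, 2, 3, 5, 4, 3, 3, 4, 6, 3, 2, 3, 6, 4, 3], [3, 4, 5, 3, 2, 3, 5, 4, 3], [3, 4, 6, 3, 2, 3, 6, 4, 3, 5, 3, 4, 6, 3, 2, 3, 6, 4, 3], [1, 3, 4, 5, 3, 2, 3, 5, 4, 3, 3, 4, 6, 3, 2, 3, 6, 4, 3, 5, 3, 4, 6, 3, 2, 3, 6, 4, 3, 6, 3, 4, 5, 3, 2, 3, 5, 4, 3, 6, 1], [1, 3, 4, 5, 3, 2, 3, 5, 4, 3, 6, 3, 4, 5, 3, 2, 3, 5, 4, 3, 1], [1, 3, 4, 6, 3, 2, 3, 6, 4, 3, 1, 3, 4, 5, 3, 2, 3, 5, 4, 3, 1, 3, 4, 6, 3, 2, 3, 6, 4, 3, 1]], 4, [0x809408802808802807]⟩,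
  ⟨116, [[6, 5, 6, 5], [5], [3, 4, 5, 3, 2, 3, 5, 4, 3, 6, 3, 4, 5, 3, 2, 3, 5, 4, 3, 6], [3, 4, 6, 3, 2, 3, 6, 4, 3, 3, 4, 5, 3, 2, 3, 5, 4, 3, 3, 4, 6, 3, 2, 3, 6, 4, 3], [3, 4, 5, 3, 2, 3, 5, 4, 3], [3, 4, 6, 3, 2, 3, 6, 4, 3, 5, 3, 4, 6, 3, 2, 3, 6, 4, 3], [1, 3, 4, 5, 3, 2, 3, 5, 4, 3, 3, 4, 6, 3, 2, 3, 6, 4, 3, 5, 3, 4, 6, 3, 2, 3, 6, 4, 3, 6, 3, 4, 5, 3, 2, 3, 5, 4, 3, 6, 1]], 2, [0x807406]⟩,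
  ⟨185, [[6, 5, 6, 5], [5], [3, 4, 5, 3, 2, 3, 5, 4, 3, 6, 3, 4, 5, 3, 2, 3, 5, 4, 3, 6], [3, 4, 6, 3, 2, 3, 6, 4, 3, 3, 4, 5, 3, 2, 3, 5, 4, 3, 3, 4, 6, 3, 2, 3, 6, 4, 3], [3, 4, 5, 3, 2, 3, 5, 4, 3], [3, 4, 6, 3, 2, 3, 6, 4, 3, 5, 3, 4, 6, 3, 2, 3, 6, 4, 3]], 4, [0x81210580b90580b904]⟩,
  ⟨1, [[6, 5, 6, 5], [5], [3, 4, 5, 3, 2, 3, 5, 4, 3, 6, 3, 4, 5, 3, 2, 3, 5, 4, 3, 6], [3, 4, 6, 3, 2, 3, 6, 4, 3, 3, 4, 5, 3, 2, 3, 5, 4, 3, 3, 4, 6, 3, 2, 3, 6, 4, 3]], 4, [0x800403800103800102]⟩,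
  ⟨137, [[6, 5, 6, 5], [5]], 2, [0x808901]⟩,
  ⟨5, [[6, 5, 6, 5]], 2, [0x800500]⟩]

end Cfsg.Agent.H59.HeCentE
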