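import Cfsg.Agent.Compute.Chain

/-! Words and matrices of the generators for the centraliser of an involution in He. -/

set_option autoImplicit false

namespace Cfsg.Agent.H59.HeCentWords

/-- words in the generators of He -/
def words : List (List ℕ) := [[6, 5, 6, 5],
  [5],
  [3, 4, 5, 3, 2, 3, 5, 4, 3, 6, 3, 4, 5, 3, 2, 3, 5, 4, 3, 6],
  [3, 4, 6, 3, 2, 3, 6, 4, 3, 3, 4, 5, 3, 2, 3, 5, 4, 3, 3, 4, 6, 3, 2, 3, 6, 4, 3],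
  [3, 4, 5, 3, 2, 3, 5, 4, 3],
  [3, 4, 6, 3, 2, 3, 6, 4, 3, 5, 3, 4, 6, 3, 2, 3, 6, 4, 3],
  [1, 3, 4, 5, 3, 2, 3, 5, 4, 3, 3, 4, 6, 3, 2, 3, 6, 4, 3, 5, 3, 4, 6, 3, 2, 3, 6, 4, 3, 6, 3, 4, 5, 3, 2, 3, 5, 4, 3, 6, 1],
  [1, 3, 4, 5, 3, 2, 3, 5, 4, 3, 6, 3, 4, 5, 3, 2, 3, 5, 4, 3, 1],
  [1, 3, 4, 6, 3, 2, 3, 6, 4, 3, 1, 3, 4, 5, 3, 2, 3, 5, 4, 3, 1, 3, 4, 6, 3, 2, 3, 6, 4, 3, 1],
  [1],
  [1, 3, 4, 6, 3, 2, 3, 6, 4, 3, 5, 3, 4, 6, 3, 2, 3, 6, 4, 3, 1]]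

/-- rows (as bit masks) of the matrices -/
def mats : List (List ℕ) := [[3, 2, 4, 8, 16], [1, 2, 6, 8, 16], [19, 2, 4, 8, 16], [17, 2, 22, 8, 16], [17, 2, 4, 26, 16], [1, 2, 4, 10, 16], [27, 2, 4, 10, 18], [21, 2, 4, 8, 16], [7, 2, 4, 12, 16], [9, 2, 4, 8, 26], [3, 2, 4, 10, 18]]

/-- rows of the inverse matrices -/
def invMats : List (List ℕ) := [[3, 2, 4, 8, 16], [1, 2, 6, 8, 16], [19, 2, 4, 8, 16], [17, 2, 22, 8, 16], [17, 2, 4, 26, 16], [1, 2, 4, 10, 16], [27, 2, 4, 10, 18], [21, 2, 4, 8, 16], [7, 2, 4, 12, 16], [9, 2, 4, 8, 26], [3, 2, 4, 10, 18]]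

end Cfsg.Agent.H59.HeCentWords
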