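import Cfsg.Agent.H59.HeCentBase
import Cfsg.Agent.H59.HeCentD
import Cfsg.Agent.H59.HeCentE
import Cfsg.Agent.H59.HeCentWords

/-!
Kernel checks for the centraliser of an involution in He.
-/

set_option autoImplicit false
set_option maxRecDepth 100000
set_option Elab.async false

namespace Cfsg.Agent.H59.HeCentChecks

open Cfsg.Agent.Compute Cfsg.Agent.H45 HeCentBase

theorem chainD_ok : checkChain wordOps HeCentD.chain = true := by decide +kernel

theorem orderD : order HeCentD.chain = 21504 := by decide +kernel

theorem chainE_ok : chainCheck HePres.pres.gl.length 2058 HeI2058.cols HeCentE.chain = true := by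
  rw [HeMain.rl]; decide +kernel

theorem prodE : chainProd HeCentE.chain = 21504 := by decide +kernel

theorem gensE : (HeCentE.chain.all fun lv => lv.gens.all fun g =>
    decide (g ∈ HeCentWords.words)) = true := by decide +kernel

theorem gensD : (nextGens HeCentD.chain).map (fun g => g.1.1) = HeCentWords.words := by
  decide +kernel

theorem lenD : (nextGens HeCentD.chain).length = 11 ∧ HeCentWords.words.length = 11 := by
  decide +kernel

theorem commute_ok : (HeCentWords.words.all fun w =>
    sameBase (w ++ [4]) ([4] ++ w) && lettersOK w) = true := by decide +kernel

theorem z_ok : sameBase [4] [] = false ∧ sameBase [4, 4] [] = true := by decide +kernel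

theorem fix_count :
    ((List.range 2058).filter fun i => Nat.beq (imgWd [4] i) i).length = 42 := by
  decide +kernel

end Cfsg.Agent.H59.HeCentChecks
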