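import Cfsg.Agent.H59.Trace
import Cfsg.Agent.H60.Basic

/-!
# Kieler's lemma
-/

set_option autoImplicit false

namespace Cfsg.Agent.H59

open Subgroup
open scoped commutatorElement

universe u

variable {G : Type u} [Group G] {p : ℕ}

/-- If `X/S` has order prime to `p`, the p-group `T` normalizes everything and the common fixed
points of `T` and `S` on `V` are fixed by `X`, so are all fixed points of `S`. -/
theorem fixed_le_centralizer [Finite G] [Fact p.Prime] {V X S T : Subgroup G}
    (hV : Cfsg.IsElementaryAbelian p V) (hSX : S ≤ X) (hn : ¬ p ∣ S.relIndex X)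
    (hXV : X ≤ normalizer (V : Set G)) (hTV : T ≤ normalizer (V : Set G))
    (hTX : T ≤ normalizer (X : Set G)) (hTS : T ≤ normalizer (S : Set G)) (hT : IsPGroup p T)
    (hfix : ∀ z ∈ V, z ∈ centralizer (S : Set G) → z ∈ centralizer (T : Set G) →
      z ∈ centralizer (X : Set G)) :
    V ⊓ centralizer (S : Set G) ≤ centralizer (X : Set G) := by
  classical
  set U := V ⊓ centralizer (S : Set G) with hU
  have hcomm : ∀ a b : U, a * b = b * a := fun a b =>
    Subtype.ext (congrArg (fun z : V => (z : G))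
      (hV.1.is_comm.comm (⟨a, a.2.1⟩ : V) ⟨b, b.2.1⟩))
  have hcV : ∀ a b : V, a * b = b * a := hV.1.is_comm.comm
  letI : CommGroup V := { (inferInstance : Group V) with mul_comm := hcV }
  set S' : Subgroup X := S.subgroupOf X with hS'
  letI : Fintype (X ⧸ S') := Fintype.ofFinite _
  have hmem : ∀ (x : X) (z : U), (x : G) * z * (x : G)⁻¹ ∈ V := fun x z =>
    (mem_normalizer_iff.mp (hXV x.2) _).mp z.2.1
  let f : U → X ⧸ S' → V := fun z q => Quotient.liftOn' q (fun x => (⟨_, hmem x z⟩ : V)) (by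
    intro a b hab
    rw [QuotientGroup.leftRel_apply] at hab
    apply Subtype.ext
    have h1 : ((a : G)⁻¹ * b) * z = z * ((a : G)⁻¹ * b) := z.2.2 _ hab
    calc (a : G) * z * (a : G)⁻¹ = a * (z * ((a : G)⁻¹ * b)) * (b : G)⁻¹ := by group
      _ = b * z * (b : G)⁻¹ := by rw [← h1]; group)
  have hf : ∀ (z : U) (x : X), ((f z (QuotientGroup.mk x) : V) : G) = x * z * (x : G)⁻¹ :=
    fun z x => rfl
  let F : U →* V :=
    { toFun := fun z => ∏ q, f z q
      map_one' := Finset.prod_eq_one fun q _ => by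
        obtain ⟨x, rfl⟩ := QuotientGroup.mk_surjective q
        exact Subtype.ext (by simp [hf])
      map_mul' := fun a b => by
        rw [← Finset.prod_mul_distrib]
        refine Finset.prod_congr rfl fun q _ => ?_
        obtain ⟨x, rfl⟩ := QuotientGroup.mk_surjective q
        exact Subtype.ext (by simp [hf, mul_assoc]) }
  -- fixed by `X`
  have hFX : ∀ z : U, ((F z : V) : G) ∈ centralizer (X : Set G) := by
    intro z g hg
    let c : V →* V :=
      { toFun := fun v => ⟨g * v * g⁻¹, (mem_normalizer_iff.mp (hXV hg) _).mp v.2⟩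
        map_one' := Subtype.ext (by simp)
        map_mul' := fun a b => Subtype.ext (by simp [mul_assoc]) }
    have h1 : c (∏ q, f z q) = ∏ q, f z q := by
      rw [map_prod]
      refine Fintype.prod_equiv (MulAction.toPerm (⟨g, hg⟩ : X)) _ _ fun q => ?_
      obtain ⟨x, rfl⟩ := QuotientGroup.mk_surjective q
      apply Subtype.ext
      simp only [MulAction.toPerm_apply, MulAction.Quotient.smul_mk, hf]
      simp [c, hf, mul_assoc]
    exact mul_inv_eq_iff_eq_mul.mp (congrArg Subtype.val h1)
  -- `T`-equivariant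
  have hequiv : ∀ t (ht : t ∈ T) (z w : U), (w : G) = t * z * t⁻¹ →
      ((F w : V) : G) = t * F z * t⁻¹ := by
    intro t ht z w hw
    let c : V →* V :=
      { toFun := fun v => ⟨t * v * t⁻¹, (mem_normalizer_iff.mp (hTV ht) _).mp v.2⟩
        map_one' := Subtype.ext (by simp)
        map_mul' := fun a b => Subtype.ext (by simp [mul_assoc]) }
    suffices h : c (∏ q, f z q) = ∏ q, f w q from (congrArg Subtype.val h).symm
    rw [map_prod]
    let φ : X → X := fun x => ⟨t * x * t⁻¹, (mem_normalizer_iff.mp (hTX ht) _).mp x.2⟩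
    let ψ : X ⧸ S' → X ⧸ S' := fun q => QuotientGroup.mk (φ q.out)
    have hψ : ∀ q, ((f w (ψ q) : V) : G) = t * (f z q : V) * t⁻¹ := by
      intro q
      conv_rhs => rw [← QuotientGroup.out_eq' q, hf]
      simp only [ψ, hf, hw, φ]
      group
    have hbij : Function.Bijective ψ := by
      refine Finite.surjective_iff_bijective.mp fun q => ?_
      obtain ⟨y, rfl⟩ := QuotientGroup.mk_surjective q
      set x : X := ⟨t⁻¹ * y * t, by
        simpa using (mem_normalizer_iff.mp (inv_mem (hTX ht)) _).mp y.2⟩ with hx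
      refine ⟨QuotientGroup.mk x, ?_⟩
      obtain ⟨s, hs⟩ := QuotientGroup.mk_out_eq_mul S' x
      simp only [ψ, hs]
      refine (QuotientGroup.eq.mpr ?_).symm
      change (y : G)⁻¹ * (t * ((t⁻¹ * y * t) * (s : X)) * t⁻¹) ∈ S
      rw [show (y : G)⁻¹ * (t * ((t⁻¹ * y * t) * (s : X)) * t⁻¹) = t * ((s : X) : G) * t⁻¹ by group]
      exact (mem_normalizer_iff.mp (hTS ht) _).mp s.2
    exact Fintype.prod_bijective ψ hbij _ _ fun q => Subtype.ext (hψ q).symm
  -- injective
  have hinj : Function.Injective F := by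
    rw [← MonoidHom.ker_eq_bot_iff]
    by_contra hne
    set K := F.ker.map U.subtype with hK
    have hK1 : K ≠ ⊥ := fun h => hne ((Subgroup.map_eq_bot_iff_of_injective _ U.subtype_injective).mp h)
    have hKU : K ≤ U := map_subtype_le _
    have hKp : IsPGroup p K := (H60.isPGroup_of_isElementaryAbelian hV).to_le (hKU.trans inf_le_left)
    have hTK : T ≤ normalizer (K : Set G) := fun t ht => mem_normalizer_of_forall fun u hu => by
      obtain ⟨z, hz, rfl⟩ := hu
      have hw : t * (z : G) * t⁻¹ ∈ U := by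
        refine ⟨(mem_normalizer_iff.mp (hTV ht) _).mp z.2.1, ?_⟩
        exact (mem_normalizer_iff.mp (H60.normalizer_le_normalizer_centralizer S (hTS ht)) _).mp z.2.2
      refine ⟨⟨_, hw⟩, Subtype.ext ?_, rfl⟩
      rw [hequiv t ht z ⟨_, hw⟩ rfl, show F z = 1 from hz]
      simp
    have h2 := H60.inf_centralizer_ne_bot hT hKp hTK hK1
    refine h2 ((eq_bot_iff_forall _).mpr ?_)
    rintro u ⟨⟨z, hz, rfl⟩, huT⟩
    have huX := hfix _ z.2.1 z.2.2 huT
    have h3 : ((F z : V) : G) = (z : G) ^ S.relIndex X := by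
      have : ∀ q, f z q = (⟨z, z.2.1⟩ : V) := fun q => by
        obtain ⟨x, rfl⟩ := QuotientGroup.mk_surjective q
        exact Subtype.ext (by
          rw [hf, show (x : G) * z = z * x from huX _ x.2, mul_inv_cancel_right])
      change ((∏ q, f z q : V) : G) = _
      rw [Finset.prod_congr rfl fun q _ => this q, Finset.prod_const, Finset.card_univ,
        ← Nat.card_eq_fintype_card, Subgroup.coe_pow]
      rfl
    rw [show F z = 1 from hz] at h3
    exact mem_bot.mp (mem_of_pow_mem (W := (⊥ : Subgroup G)) (hV.2 _ z.2.1) hn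
      (mem_bot.mpr h3.symm))
  -- all values lie in `U`
  intro z hz
  have hFU : ∀ w : U, ((F w : V) : G) ∈ U := fun w =>
    ⟨(F w).2, centralizer_le hSX (hFX w)⟩
  obtain ⟨w, hw⟩ := Finite.surjective_of_injective (f := fun w : U => (⟨_, hFU w⟩ : U))
    (fun a b h => hinj (Subtype.ext (congrArg (fun u : U => (u : G)) h))) ⟨z, hz⟩
  rw [← show ((F w : V) : G) = z from congrArg Subtype.val hw]
  exact hFX w

theorem mem_omegaOne_center {T : Subgroup G} {z : G}
    (hz : z ∈ Cfsg.omegaOne p (T ⊓ centralizer (T : Set G))) :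
    z ∈ T ∧ z ∈ centralizer (T : Set G) ∧ z ^ p = 1 := by
  have hTT : T ⊓ centralizer (T : Set G) ≤
      centralizer ((T ⊓ centralizer (T : Set G) : Subgroup G) : Set G) :=
    fun a ha b hb => ha.2 b hb.1
  rw [omegaOne_eq_omegaAb _ hTT] at hz
  exact ⟨hz.1.1, hz.1.2, hz.2⟩

/-- Kieler's lemma for a normal subgroup. -/
theorem kieler_normal [Finite G] [Fact p.Prime]
    (hG : centralizer (Cfsg.pCore p G : Set G) ≤ Cfsg.pCore p G) (T : Sylow p G)
    (L : Subgroup G) [hLn : L.Normal] :
    L ⊓ centralizer (Cfsg.omegaOne p ((T : Subgroup G) ⊓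
        centralizer ((T : Subgroup G) : Set G)) : Set G) =
      L ⊓ centralizer (Cfsg.omegaOne p (((T : Subgroup G) ⊓ L) ⊓
        centralizer ((((T : Subgroup G) ⊓ L) : Subgroup G) : Set G)) : Set G) := by
  set S := (T : Subgroup G) ⊓ L with hS
  set ZT := Cfsg.omegaOne p ((T : Subgroup G) ⊓ centralizer ((T : Subgroup G) : Set G)) with hZT
  set ZS := Cfsg.omegaOne p (S ⊓ centralizer (S : Set G)) with hZS
  have hrel : ∀ X : Subgroup G, S ≤ X → X ≤ L → ¬ p ∣ S.relIndex X := fun X hSX hXL hd =>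
    not_dvd_relIndex_inf T (le_normalizer_of_normal (H := L))
      (hd.trans ⟨X.relIndex L, (relIndex_mul_relIndex S X L hSX hXL).symm⟩)
  apply le_antisymm
  · refine le_inf inf_le_left ?_
    set X := L ⊓ centralizer (ZT : Set G) with hX
    set PL : Subgroup G := Cfsg.pCoreOf p L with hPL
    set A := PL ⊓ centralizer (PL : Set G) with hA
    have hAA : A ≤ centralizer (A : Set G) := fun a ha b hb => ha.2 b hb.1
    set V := omegaAb p A hAA with hV
    have hPn : ∀ g : G, g ∈ normalizer (PL : Set G) := fun g =>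
      H60.normalizer_le_normalizer_pCoreOf L (le_normalizer_of_normal (mem_top g))
    have hVn : ∀ g : G, g ∈ normalizer (V : Set G) := fun g => mem_normalizer_of_forall fun v hv =>
      ⟨⟨(mem_normalizer_iff.mp (hPn g) v).mp hv.1.1,
        (mem_normalizer_iff.mp (H60.normalizer_le_normalizer_centralizer PL (hPn g)) v).mp hv.1.2⟩,
        by rw [conj_pow, hv.2, mul_one, mul_inv_cancel]⟩
    have hSX : S ≤ X := le_inf inf_le_right fun s hs z hz =>
      ((mem_omegaOne_center hz).2.1 s hs.1).symm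
    have hcharL := H61.charP_of_injective hG L.subtype L.subtype_injective
      (by rw [range_subtype]; exact le_normalizer_of_normal)
    have hPLS : PL ≤ S := le_inf
      ((Cores.le_pCore (N := PL) (hN := normalizer_eq_top_iff.mp (top_le_iff.mp fun g _ => hPn g))
        (H60.pCoreOf_isPGroup L)).trans (Cores.pCore_le_sylow T)) (map_subtype_le _)
    have hfix := fixed_le_centralizer (V := V) (X := X) (S := S) (T := (T : Subgroup G))
      (isElementaryAbelian_omegaAb A hAA) hSX (hrel X hSX inf_le_left) (fun g _ => hVn g)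
      (fun g _ => hVn g) (fun t ht => mem_normalizer_of_forall fun x hx => ⟨hLn.conj_mem x hx.1 t, ?_⟩)
      (fun t ht => mem_normalizer_of_forall fun x hx =>
        ⟨(mul_mem (mul_mem ht hx.1) (inv_mem ht) : t * x * t⁻¹ ∈ (T : Subgroup G)), hLn.conj_mem x hx.2 t⟩)
      T.isPGroup' ?_
    · intro g hg z hz
      obtain ⟨hzS, hzc, hzp⟩ := mem_omegaOne_center hz
      have hzPL : z ∈ PL := ⟨⟨z, hzS.2⟩, hcharL (show (⟨z, hzS.2⟩ : L) ∈ _ from fun q hq =>
        Subtype.ext (hzc _ (hPLS (mem_map_of_mem L.subtype hq)))), rfl⟩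
      have hzV : z ∈ V := ⟨⟨hzPL, fun q hq => hzc q (hPLS hq)⟩, hzp⟩
      exact (hfix ⟨hzV, hzc⟩ g hg).symm
    · intro z hz
      have h := hx.2 z hz
      have htz : t * z = z * t := (mem_omegaOne_center hz).2.1 t ht
      have h4 : t⁻¹ * z = z * t⁻¹ := by rw [inv_mul_eq_iff_eq_mul, ← mul_assoc, htz, mul_inv_cancel_right]
      calc z * (t * x * t⁻¹) = t * (z * x) * t⁻¹ := by rw [← mul_assoc, ← mul_assoc, ← htz]; group
        _ = t * x * t⁻¹ * z := by rw [h, mul_assoc (t * x), h4]; group
    · intro z hzV _ hzT x hx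
      have : z ∈ ZT := subset_closure ⟨⟨(hPLS hzV.1.1).1, hzT⟩, hzV.2⟩
      exact (hx.2 z this).symm
  · refine le_inf inf_le_left ?_
    set X := L ⊓ centralizer (ZS : Set G) with hX
    set P := Cfsg.pCore p G with hP
    set A := P ⊓ centralizer (P : Set G) with hA
    have hAA : A ≤ centralizer (A : Set G) := fun a ha b hb => ha.2 b hb.1
    set V := omegaAb p A hAA with hV
    have hPn : P.Normal := inferInstance
    have hCn : (centralizer (P : Set G)).Normal := normal_centralizer
    have hVn : V.Normal := ⟨fun v hv g => ⟨⟨hPn.conj_mem v hv.1.1 g, hCn.conj_mem v hv.1.2 g⟩,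
      by rw [conj_pow, hv.2, mul_one, mul_inv_cancel]⟩⟩
    have hPT : P ≤ (T : Subgroup G) := Cores.pCore_le_sylow T
    intro g hg z hz
    obtain ⟨hzT, hzc, hzp⟩ := mem_omegaOne_center hz
    have hzV : z ∈ V := ⟨⟨hG (fun q hq => hzc q (hPT hq)), fun q hq => hzc q (hPT hq)⟩, hzp⟩
    have hSX : S ≤ X := le_inf inf_le_right fun s hs w hw =>
      ((mem_omegaOne_center hw).2.1 s hs).symm
    have hVp := isElementaryAbelian_omegaAb (p := p) A hAA
    obtain ⟨π, hπV, hπc, hπW⟩ := exists_trace hVp.1 (X := X) (S := S) le_normalizer_of_normal hzV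
      (fun s hs => hzc s hs.1) ⁅V, X⁆ fun x hx => commutator_mem_commutator hzV hx
    refine (mem_centralizer_iff.mp (?_ : z ∈ centralizer ({g} : Set G)) g rfl).symm
    refine mem_of_pow_mem hzp (hrel X hSX inf_le_left) ?_
    have h1 : z ^ S.relIndex X * π⁻¹ ∈ ZS := by
      have hV' : z ^ S.relIndex X * π⁻¹ ∈ V := mul_mem (pow_mem hzV _) (inv_mem hπV)
      refine subset_closure ⟨⟨⟨hPT hV'.1.1, ?_⟩, ?_⟩, hV'.2⟩
      · exact (commutator_mono le_rfl inf_le_left).trans (Subgroup.commutator_le_right V L) hπW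
      · exact (mul_mem (pow_mem (show z ∈ centralizer (S : Set G) from fun s hs => hzc s hs.1) _)
          (inv_mem (centralizer_le hSX hπc)) : z ^ S.relIndex X * π⁻¹ ∈ centralizer (S : Set G))
    have h2 : z ^ S.relIndex X * π⁻¹ ∈ centralizer ({g} : Set G) := by
      rintro _ rfl; exact (hg.2 _ h1).symm
    have h3 : π ∈ centralizer ({g} : Set G) := by
      rintro _ rfl; exact hπc _ hg
    simpa using mul_mem h2 h3

/-- Kieler's lemma. -/
theorem kieler_aux [Fact p.Prime] : ∀ (n : ℕ) (G : Type u) [Group G] [Finite G], Nat.card G ≤ n →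
    centralizer (Cfsg.pCore p G : Set G) ≤ Cfsg.pCore p G → ∀ (T : Sylow p G) (L : Subgroup G),
      L.IsSubnormal →
      L ⊓ centralizer (Cfsg.omegaOne p ((T : Subgroup G) ⊓
          centralizer ((T : Subgroup G) : Set G)) : Set G) =
        L ⊓ centralizer (Cfsg.omegaOne p (((T : Subgroup G) ⊓ L) ⊓
          centralizer ((((T : Subgroup G) ⊓ L) : Subgroup G) : Set G)) : Set G) := by
  intro n
  induction n with
  | zero => intro G _ _ hn; exact absurd hn (by have := Nat.card_pos (α := G); omega)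
  | succ n ih =>
    intro G _ _ hn hG T L hL
    by_cases htop : L = ⊤
    · subst htop; simp
    obtain ⟨K, hKn, hLK, hK⟩ := hL.lt_normal.resolve_left htop
    have hlt : Nat.card K < Nat.card G := by
      refine lt_of_le_of_ne (Nat.card_le_card_of_injective _ Subtype.val_injective) fun h => ?_
      exact hK.ne (eq_top_of_card_eq K h)
    obtain ⟨P, hP⟩ := exists_sylow_eq_inf T (C := K) le_normalizer_of_normal
    have h := congrArg (Subgroup.map K.subtype) (ih K (by omega)
      (H61.charP_of_injective hG K.subtype K.subtype_injective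
        (by rw [range_subtype]; exact le_normalizer_of_normal)) P (L.subgroupOf K) hL.subgroupOf)
    have e1 : ∀ A : Subgroup K, (A ⊓ centralizer (A : Set K)).map K.subtype =
        A.map K.subtype ⊓ centralizer (A.map K.subtype : Set G) := by
      intro A
      ext x
      constructor
      · rintro ⟨a, ⟨ha, hac⟩, rfl⟩
        exact ⟨mem_map_of_mem _ ha, by rintro _ ⟨b, hb, rfl⟩; exact congrArg Subtype.val (hac b hb)⟩
      · rintro ⟨⟨a, ha, rfl⟩, hac⟩
        exact ⟨a, ⟨ha, fun b hb => Subtype.ext (hac _ (mem_map_of_mem K.subtype hb))⟩, rfl⟩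
    have e2 : ∀ A : Subgroup K, (Cfsg.omegaOne p A).map K.subtype =
        Cfsg.omegaOne p (A.map K.subtype) := by
      intro A
      rw [Cfsg.omegaOne, Cfsg.omegaOne, MonoidHom.map_closure]
      congr 1
      ext x
      constructor
      · rintro ⟨a, ⟨ha, hap⟩, rfl⟩
        exact ⟨mem_map_of_mem _ ha, congrArg Subtype.val hap⟩
      · rintro ⟨⟨a, ha, rfl⟩, hap⟩
        exact ⟨a, ⟨ha, K.subtype_injective (by simpa using hap)⟩, rfl⟩
    have e3 : ∀ A : Subgroup K, (L.subgroupOf K ⊓ centralizer (A : Set K)).map K.subtype =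
        L ⊓ centralizer (A.map K.subtype : Set G) := by
      intro A
      ext x
      constructor
      · rintro ⟨a, ⟨ha, hac⟩, rfl⟩
        exact ⟨ha, by rintro _ ⟨b, hb, rfl⟩; exact congrArg Subtype.val (hac b hb)⟩
      · rintro ⟨hx, hxc⟩
        exact ⟨⟨x, hLK hx⟩, ⟨hx, fun b hb => Subtype.ext (hxc _ (mem_map_of_mem K.subtype hb))⟩, rfl⟩
    rw [hP] at h
    simp only [e3, e2, e1, Subgroup.map_inf _ _ _ K.subtype_injective, subgroupOf_map_subtype,
      inf_of_le_left hLK, inf_of_le_left (inf_le_right : (T : Subgroup G) ⊓ K ≤ K)] at h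
    rw [show ((T : Subgroup G) ⊓ K) ⊓ L = (T : Subgroup G) ⊓ L by
      rw [inf_assoc, inf_of_le_right hLK]] at h
    have hs := kieler_normal hG T K
    rw [← h, ← inf_of_le_left hLK, inf_assoc, hs, ← inf_assoc, inf_of_le_left hLK]

end Cfsg.Agent.H59
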