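import Cfsg.Agent.H59.Kieler
import Cfsg.Agent.H62.SubnormalJoin
import Cfsg.Agent.H77.Subnormal

/-!
# Kieler's lemma in groups of local characteristic p, point stabilizers of subnormal subgroups
-/

set_option autoImplicit false

namespace Cfsg.Agent.H59

open Subgroup

universe u

variable {G : Type u} [Group G] {p : ℕ}

local notation "ZO" A:max => Cfsg.omegaOne p (A ⊓ centralizer ((A : Subgroup G) : Set G))

theorem omegaOne_center_ne_bot [Finite G] [Fact p.Prime] {A : Subgroup G} (hA : IsPGroup p A)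
    (h : A ≠ ⊥) : ZO A ≠ ⊥ := by
  intro h0
  have h1 := H60.inf_centralizer_ne_bot hA hA le_normalizer h
  have h2 : p ∣ Nat.card ↥(A ⊓ centralizer (A : Set G)) := by
    obtain ⟨n, hn⟩ := (hA.to_le inf_le_left).exists_card_eq
    rw [hn]
    exact dvd_pow_self p fun h3 => h1 (Subgroup.eq_bot_of_card_eq _ (by rw [hn, h3, pow_zero]))
  obtain ⟨z, hz⟩ := exists_prime_orderOf_dvd_card' p h2
  have h3 : (z : G) ∈ ZO A := subset_closure ⟨z.2, congrArg Subtype.val (hz ▸ pow_orderOf_eq_one z)⟩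
  rw [h0, mem_bot] at h3
  rw [show z = 1 from Subtype.ext h3, orderOf_one] at hz
  exact (Fact.out : p.Prime).one_lt.ne hz

theorem normalizer_le_normalizer_omegaOne_center [Finite G] (A : Subgroup G) :
    normalizer (A : Set G) ≤ normalizer (ZO A : Set G) := fun g hg =>
  mem_normalizer_of_forall fun z hz => by
    obtain ⟨h1, h2, h3⟩ := mem_omegaOne_center hz
    exact subset_closure ⟨⟨(mem_normalizer_iff.mp hg z).mp h1,
      (mem_normalizer_iff.mp (H60.normalizer_le_normalizer_centralizer A hg) z).mp h2⟩,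
      by rw [conj_pow, h3, mul_one, mul_inv_cancel]⟩

theorem map_omegaOne_center (W : Subgroup G) (A : Subgroup W) :
    (Cfsg.omegaOne p (A ⊓ centralizer (A : Set W))).map W.subtype = ZO (A.map W.subtype) := by
  rw [Cfsg.omegaOne, Cfsg.omegaOne, MonoidHom.map_closure]
  congr 1
  ext x
  constructor
  · rintro ⟨a, ⟨⟨ha, hac⟩, hap⟩, rfl⟩
    exact ⟨⟨mem_map_of_mem _ ha, by rintro _ ⟨b, hb, rfl⟩; exact congrArg Subtype.val (hac b hb)⟩,
      congrArg Subtype.val hap⟩
  · rintro ⟨⟨⟨a, ha, rfl⟩, hac⟩, hap⟩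
    exact ⟨a, ⟨⟨ha, fun b hb => Subtype.ext (hac _ (mem_map_of_mem W.subtype hb))⟩,
      W.subtype_injective (by simpa using hap)⟩, rfl⟩

theorem coe_mem_centralizer_iff (W : Subgroup G) (B : Subgroup W) (x : W) :
    (x : G) ∈ centralizer (B.map W.subtype : Set G) ↔ x ∈ centralizer (B : Set W) := by
  constructor
  · exact fun h b hb => Subtype.ext (h _ (mem_map_of_mem W.subtype hb))
  · rintro h _ ⟨b, hb, rfl⟩; exact congrArg Subtype.val (h b hb)

/-- Kieler's lemma inside a p-local subgroup. -/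
theorem kieler_in_local [Finite G] [hp : Fact p.Prime] (hG : Cfsg.IsOfLocalCharacteristic p G)
    {U : Subgroup G} (hU : IsPGroup p U) (hU1 : U ≠ ⊥) (P : Sylow p ↥(normalizer (U : Set G)))
    {L : Subgroup G} (hL : L.IsSubnormal) {x : G} (hx : x ∈ L) (hxU : x ∈ normalizer (U : Set G)) :
    x ∈ centralizer (ZO ((P : Subgroup ↥(normalizer (U : Set G))).map
        (normalizer (U : Set G)).subtype) : Set G) ↔
      x ∈ centralizer (ZO ((P : Subgroup ↥(normalizer (U : Set G))).map
        (normalizer (U : Set G)).subtype ⊓ L) : Set G) := by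
  have h := kieler_aux _ ↥(normalizer (U : Set G)) le_rfl (hG.2 U hU hU1) P (L.subgroupOf (normalizer (U : Set G))) hL.subgroupOf
  have h' := SetLike.ext_iff.mp h ⟨x, hxU⟩
  simp only [mem_inf, mem_subgroupOf, hx, true_and] at h'
  rw [← coe_mem_centralizer_iff, ← coe_mem_centralizer_iff, map_omegaOne_center,
    map_omegaOne_center, Subgroup.map_inf _ _ _ (normalizer (U : Set G)).subtype_injective, subgroupOf_map_subtype] at h'
  rw [show (P : Subgroup ↥(normalizer (U : Set G))).map (normalizer (U : Set G)).subtype ⊓ (L ⊓ normalizer (U : Set G)) = (P : Subgroup ↥(normalizer (U : Set G))).map (normalizer (U : Set G)).subtype ⊓ L by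
    rw [← inf_assoc]; exact inf_of_le_left (inf_le_left.trans (map_subtype_le _))] at h'
  exact h'

/-- A p-subgroup containing `T ∩ L`, for a subnormal `L`, meets `L` in `T ∩ L`. -/
theorem inf_eq_of_subnormal [Finite G] [Fact p.Prime] (T : Sylow p G) {L : Subgroup G}
    (hL : L.IsSubnormal) {A : Subgroup G} (hA : IsPGroup p A) (hle : (T : Subgroup G) ⊓ L ≤ A) :
    A ⊓ L = (T : Subgroup G) ⊓ L := by
  obtain ⟨Q, hQ⟩ := S0542.inf_sylow p L hL T
  refine le_antisymm ?_ (le_inf hle inf_le_right)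
  have h1 : (Q : Subgroup L) ≤ A.subgroupOf L := by
    rw [hQ]; exact fun y hy => hle ⟨hy, y.2⟩
  have h2 := Q.is_maximal' (hA.comap_of_injective L.subtype L.subtype_injective) h1
  intro y hy
  have h3 : (⟨y, hy.2⟩ : L) ∈ A.subgroupOf L := hy.1
  rw [show A.subgroupOf L = (Q : Subgroup L) from h2, hQ] at h3
  exact ⟨h3, hy.2⟩

/-- Kieler's lemma in a group of local characteristic p. -/
theorem kieler_local [Finite G] [hp : Fact p.Prime] (hG : Cfsg.IsOfLocalCharacteristic p G)
    (T : Sylow p G) {L : Subgroup G} (hL : L.IsSubnormal) (hS : (T : Subgroup G) ⊓ L ≠ ⊥) {x : G}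
    (hx : x ∈ L) :
    x ∈ centralizer (ZO (T : Subgroup G) : Set G) ↔
      x ∈ centralizer (ZO ((T : Subgroup G) ⊓ L) : Set G) := by
  have hT1 : (T : Subgroup G) ≠ ⊥ := fun h => hS (by rw [h, bot_inf_eq])
  have hmain : ∀ U : Subgroup G, IsPGroup p U → U ≠ ⊥ → (T : Subgroup G) ≤ normalizer (U : Set G) →
      ∀ L : Subgroup G, L.IsSubnormal → ∀ x ∈ L, x ∈ normalizer (U : Set G) →
      (x ∈ centralizer (ZO (T : Subgroup G) : Set G) ↔
        x ∈ centralizer (ZO ((T : Subgroup G) ⊓ L) : Set G)) := by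
    intro U hU hU1 hTU L hL x hx hxU
    have h := kieler_in_local hG hU hU1 (T.subtype hTU) hL hx hxU
    rwa [Sylow.coe_subtype, subgroupOf_map_subtype, inf_of_le_left hTU] at h
  constructor
  · intro h
    exact (hmain _ (T.isPGroup'.to_le fun z hz => (mem_omegaOne_center hz).1)
      (omegaOne_center_ne_bot T.isPGroup' hT1)
      (le_normalizer.trans (normalizer_le_normalizer_omegaOne_center _)) L hL x hx
      (centralizer_le_normalizer _ h)).mp h
  · induction hL with
    | top => rw [inf_top_eq]; exact id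
    | step A B hAB hB hn ih =>
      intro h
      have hSB : (T : Subgroup G) ⊓ B ≠ ⊥ := fun h0 =>
        hS (eq_bot_iff.mpr (h0 ▸ inf_le_inf_left _ hAB))
      refine ih hSB (hAB hx) ?_
      have hA : A.IsSubnormal := .step A B hAB hB hn
      have hBn : B ≤ normalizer (A : Set G) := (normal_subgroupOf_iff_le_normalizer hAB).mp hn
      set U := ZO ((T : Subgroup G) ⊓ A) with hUdef
      have hTB : (T : Subgroup G) ⊓ B ≤ normalizer (U : Set G) :=
        (le_normalizer_inf_of_le (T : Subgroup G) A B hBn).trans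
          (normalizer_le_normalizer_omegaOne_center _)
      have hU : IsPGroup p U :=
        T.isPGroup'.to_le fun z hz => (mem_omegaOne_center hz).1.1
      obtain ⟨P, hP⟩ := ((T.isPGroup'.to_le inf_le_left).comap_of_injective
        (normalizer (U : Set G)).subtype (normalizer (U : Set G)).subtype_injective :
          IsPGroup p (((T : Subgroup G) ⊓ B).subgroupOf (normalizer (U : Set G)))).exists_le_sylow
      set P' := (P : Subgroup ↥(normalizer (U : Set G))).map (normalizer (U : Set G)).subtype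
      have hle : (T : Subgroup G) ⊓ B ≤ P' := fun y hy =>
        ⟨⟨y, hTB hy⟩, hP (show (⟨y, hTB hy⟩ : ↥(normalizer (U : Set G))) ∈ _ from hy), rfl⟩
      have hxU : x ∈ normalizer (U : Set G) := centralizer_le_normalizer _ h
      have hU1 : U ≠ ⊥ := omegaOne_center_ne_bot (T.isPGroup'.to_le inf_le_left) hS
      have hP' : IsPGroup p P' := P.isPGroup'.map _
      have eA : P' ⊓ A = (T : Subgroup G) ⊓ A :=
        inf_eq_of_subnormal T hA hP' ((inf_le_inf_left _ hAB).trans hle)
      have eB : P' ⊓ B = (T : Subgroup G) ⊓ B := inf_eq_of_subnormal T hB hP' hle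
      have k1 := kieler_in_local hG hU hU1 P hA hx hxU
      have k2 := kieler_in_local hG hU hU1 P hB (hAB hx) hxU
      rw [eA] at k1
      rw [eB] at k2
      exact k2.mp (k1.mpr h)
where
  le_normalizer_inf_of_le (T A B : Subgroup G) (h : B ≤ normalizer (A : Set G)) :
      T ⊓ B ≤ normalizer ((T ⊓ A : Subgroup G) : Set G) :=
    H60.le_normalizer_inf (inf_le_left.trans le_normalizer) (inf_le_right.trans h)

/-- The point stabilizer of a subnormal subgroup via the centre of the Sylow subgroup. -/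
theorem pointStabilizer_eq [Finite G] [hp : Fact p.Prime] (hG : Cfsg.IsOfLocalCharacteristic p G)
    (T : Sylow p G) {L : Subgroup G} (hL : L.IsSubnormal) :
    Cfsg.pointStabilizer p L ((T : Subgroup G) ⊓ L) =
      closure {x : G | x ∈ L ⊓ centralizer (ZO (T : Subgroup G) : Set G) ∧
        ∃ k : ℕ, orderOf x = p ^ k} := by
  rw [Cfsg.pointStabilizer]
  congr 1
  ext x
  simp only [Set.mem_setOf_eq, mem_inf, and_congr_left_iff, and_congr_right_iff]
  rintro ⟨k, hk⟩ hx
  by_cases hS : (T : Subgroup G) ⊓ L = ⊥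
  · have h1 : x = 1 := by
      obtain ⟨Q, hQ⟩ := S0542.inf_sylow p L hL T
      have hxp : IsPGroup p (zpowers (⟨x, hx⟩ : L)) :=
        IsPGroup.of_card (n := k) (by rw [Nat.card_zpowers, orderOf_mk, hk])
      obtain ⟨R, hR⟩ := hxp.exists_le_sylow
      have hQ1 : Nat.card (Q : Subgroup L) = 1 := by
        rw [hQ, Subgroup.card_eq_one, subgroupOf_eq_bot, disjoint_iff]
        exact hS
      have hR1 : (R : Subgroup L) = ⊥ := by
        rw [← Subgroup.card_eq_one, Sylow.card_eq_multiplicity, ← Q.card_eq_multiplicity, hQ1]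
      simpa [hR1] using hR (mem_zpowers _)
    subst h1
    simp [one_mem]
  · exact (kieler_local hG T hL hS hx).symm

end Cfsg.Agent.H59

namespace Cfsg.Agent.H59

open Subgroup

universe u

variable {G : Type u} [Group G] {p : ℕ}

/-- The p-elements of `(L₁ ⊔ L₂) ⊓ C` lie in the join of the parts from `L₁` and `L₂`, when `C`
centralizes enough to contain the Sylow intersection. -/
theorem mem_sup_pElementClosure [Finite G] [hp : Fact p.Prime] (T : Sylow p G) {L₁ L₂ : Subgroup G}
    (h₁ : L₁.IsSubnormal) (h₂ : L₂.IsSubnormal) (C : Subgroup G) (hC : (T : Subgroup G) ≤ C)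
    {x : G} (hx : x ∈ (L₁ ⊔ L₂) ⊓ C) {k : ℕ} (hk : orderOf x = p ^ k) :
    x ∈ closure {y : G | y ∈ L₁ ⊓ C ∧ ∃ k : ℕ, orderOf y = p ^ k} ⊔
      closure {y : G | y ∈ L₂ ⊓ C ∧ ∃ k : ℕ, orderOf y = p ^ k} := by
  set L := L₁ ⊔ L₂ with hL
  set K := L ⊓ C with hK
  set J : Subgroup G := closure {y : G | y ∈ L₁ ⊓ C ∧ ∃ k : ℕ, orderOf y = p ^ k} ⊔
      closure {y : G | y ∈ L₂ ⊓ C ∧ ∃ k : ℕ, orderOf y = p ^ k} with hJ
  have hpart : ∀ A : Subgroup G, A.IsSubnormal → A ≤ L →
      closure {y : G | y ∈ A ⊓ C ∧ ∃ k : ℕ, orderOf y = p ^ k} ≤ K ∧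
      ((closure {y : G | y ∈ A ⊓ C ∧ ∃ k : ℕ, orderOf y = p ^ k}).subgroupOf K).IsSubnormal ∧
      (T : Subgroup G) ⊓ A ≤ closure {y : G | y ∈ A ⊓ C ∧ ∃ k : ℕ, orderOf y = p ^ k} := by
    intro A hA hAL
    set P := closure {y : G | y ∈ A ⊓ C ∧ ∃ k : ℕ, orderOf y = p ^ k} with hP
    have hPA : P ≤ A ⊓ C := (closure_le _).mpr fun y hy => hy.1
    have hPK : P ≤ K := hPA.trans (inf_le_inf_right _ hAL)
    have hn : (P.subgroupOf (A ⊓ C)).Normal := by
      refine (normal_subgroupOf_iff_le_normalizer hPA).mpr fun g hg => mem_normalizer_of_forall ?_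
      intro y hy
      have : y ∈ P.comap (MulAut.conj g).toMonoidHom := by
        refine ((closure_le _).mpr fun z hz => ?_ : P ≤ P.comap (MulAut.conj g).toMonoidHom) hy
        exact subset_closure ⟨mul_mem (mul_mem hg hz.1) (inv_mem hg), by
          change ∃ k, orderOf (MulAut.conj g z) = p ^ k; rw [MulEquiv.orderOf_eq]; exact hz.2⟩
      exact this
    refine ⟨hPK, ?_, fun t ht => subset_closure ⟨⟨ht.2, hC ht.1⟩, ?_⟩⟩
    · have hsn : ((A ⊓ C).subgroupOf K).IsSubnormal := by
        have e : (A ⊓ C).subgroupOf K = A.subgroupOf K := by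
          ext y
          exact ⟨fun h => h.1, fun h => ⟨h, y.2.2⟩⟩
        exact e ▸ hA.subgroupOf
      have := hn
      exact .step _ _ (comap_mono hPA) hsn
        ((normal_subgroupOf_iff_le_normalizer (comap_mono hPA)).mpr fun g hg => by
          refine mem_normalizer_of_forall fun y hy => ?_
          exact (mem_normalizer_iff.mp ((normal_subgroupOf_iff_le_normalizer hPA).mp hn hg) _).mp hy)
    · obtain ⟨m, hm⟩ := T.isPGroup' ⟨t, ht.1⟩
      obtain ⟨j, -, hj⟩ := (Nat.dvd_prime_pow hp.out).mp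
        (orderOf_dvd_of_pow_eq_one (congrArg Subtype.val hm))
      exact ⟨j, hj⟩
  obtain ⟨hK1, hs1, hT1⟩ := hpart L₁ h₁ le_sup_left
  obtain ⟨hK2, hs2, hT2⟩ := hpart L₂ h₂ le_sup_right
  have hJsn : (J.subgroupOf K).IsSubnormal := by
    rw [hJ, subgroupOf_sup hK1 hK2]
    exact H30.isSubnormal_sup hs1 hs2
  have hTJ : (T : Subgroup G) ⊓ L ≤ J := by
    rw [inf_comm, H62.SubnormalJoin.sup_inf_sylow T L₁ L₂ h₁ h₂, inf_comm L₁, inf_comm L₂]
    exact sup_le_sup hT1 hT2
  have hnd : ¬ p ∣ J.relIndex K := by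
    intro hd
    obtain ⟨Q, hQ⟩ := S0542.inf_sylow p L (H30.isSubnormal_sup h₁ h₂) T
    apply Q.not_dvd_index
    rw [hQ]
    change p ∣ (T : Subgroup G).relIndex L
    rw [← inf_relIndex_right, ← relIndex_mul_relIndex _ K L
      (le_inf inf_le_right (inf_le_left.trans hC)) inf_le_left,
      ← relIndex_mul_relIndex _ J K hTJ (sup_le hK1 hK2)]
    exact dvd_mul_of_dvd_left (dvd_mul_of_dvd_right hd _) _
  have h := H77.pow_index_mem_of_subnormal hJsn (⟨x, hx⟩ : K)
  change x ^ J.relIndex K ∈ J at h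
  have hcop : (J.relIndex K).Coprime (orderOf x) :=
    hk ▸ ((hp.out.coprime_iff_not_dvd.mpr hnd).symm.pow_right k)
  obtain ⟨j, hj⟩ := exists_pow_eq_self_of_coprime hcop
  exact hj ▸ pow_mem h j

end Cfsg.Agent.H59
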