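import Cfsg.Agent.H59.YMinimal
import Cfsg.Agent.FusionSys.StronglyEmbedded

/-!
# The L-Lemma
-/

set_option autoImplicit false

namespace Cfsg.Agent.H59

open Subgroup Cfsg.Agent.H60

universe u

variable {G : Type u} [Group G] {p : ℕ}

/-- Candidates for `L` in the L-Lemma: some conjugate `M'` of `M` contains a p-subgroup `S` of `L`
above `A ⊔ O`, and is larger than the intersections of `M'` with proper bad subgroups. -/
def LGood (p : ℕ) (O M A L : Subgroup G) : Prop :=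
  O ≤ L ∧ A ≤ L ∧ ¬ A ≤ Cfsg.pCoreOf p L ∧
    ∃ (g : G) (S : Subgroup G), IsPGroup p S ∧ A ⊔ O ≤ S ∧ S ≤ L ⊓ cj M g ∧ ¬ L ≤ cj M g ∧
      ∀ X P : Subgroup G, IsPGroup p P → O ≤ P → (∃ h ∈ L, cj A h ≤ P) → P ≤ X ⊓ cj M g → X < L →
        ¬ X ≤ cj M g → Nat.card P < Nat.card S

theorem cj_pCoreOf_le [Finite G] (L : Subgroup G) (k : G) :
    cj (Cfsg.pCoreOf p L) k ≤ Cfsg.pCoreOf p (cj L k) :=
  le_pCoreOf (cj_mono (pCoreOf_le L) k)
    (cj_normalizer (Cfsg.pCoreOf p L) k ▸ cj_mono (le_normalizer_pCoreOf L) k)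
    (isPGroup_cj (pCoreOf_isPGroup L) k)

theorem LGood.conj [Finite G] {O M A L : Subgroup G} (hO : O.Normal) (h : LGood p O M A L) (k : G) :
    LGood p O M (cj A k) (cj L k) := by
  obtain ⟨hOL, hAL, hA, g, S, hSp, hAS, hSL, hLM, hcond⟩ := h
  have hOk : ∀ x : G, cj O x = O := fun x => cj_eq_self_iff.mpr (by
    rw [normalizer_eq_top_iff.mpr hO]; exact mem_top x)
  refine ⟨hOk k ▸ cj_mono hOL k, cj_mono hAL k, fun h => hA ?_, k * g, cj S k, isPGroup_cj hSp k,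
    ?_, ?_, ?_, ?_⟩
  · have h1 := (cj_mono h k⁻¹).trans (cj_pCoreOf_le _ _)
    rwa [cj_cj, cj_cj, inv_mul_cancel, cj_one, cj_one] at h1
  · have := cj_mono hAS k
    rwa [cj_sup, hOk] at this
  · rw [← cj_cj, ← cj_inf]; exact cj_mono hSL k
  · rw [← cj_cj, cj_le_cj_iff]; exact hLM
  · intro X P hPp hOP hA' hPX hXL hXM
    obtain ⟨a, ha, hAP⟩ := hA'
    rw [← cj_cj] at hPX hXM
    have h1 := hcond (cj X k⁻¹) (cj P k⁻¹) (isPGroup_cj hPp _) (hOk k⁻¹ ▸ cj_mono hOP _)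
      ⟨k⁻¹ * a * k, mem_cj.mp ha, by
        have := cj_mono hAP k⁻¹
        simpa only [cj_cj, mul_assoc] using this⟩
      (by
        have := cj_mono hPX k⁻¹
        rwa [cj_inf, cj_cj (cj M g), inv_mul_cancel, cj_one] at this)
      (by
        refine lt_of_le_of_ne ((cj_le_iff _).mpr (by rw [inv_inv]; exact hXL.le)) fun e => hXL.ne ?_
        rw [← e, cj_cj, mul_inv_cancel, cj_one])
      (fun h => hXM ((le_cj_iff k).mpr h))
    rwa [card_cj, ← card_cj S k] at h1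

/-- The L-Lemma. -/
theorem lLemma [Finite G] [hp : Fact p.Prime] (T : Sylow p G)
    (hmin : Cfsg.IsMinimalOver (T : Subgroup G)) {M : Subgroup G} (hM : IsCoatom M)
    (hTM : (T : Subgroup G) ≤ M) {A : Subgroup G} (hAT : A ≤ (T : Subgroup G))
    (hA : ¬ A ≤ Cfsg.pCore p G) :
    ∃ (L : Subgroup G) (g : G), ¬ A ≤ Cfsg.pCoreOf p L ∧ A ⊔ Cfsg.pCore p G ≤ L ∧
      A ⊔ Cfsg.pCoreOf p L ≤ L ⊓ cj M g ∧ L ⊓ cj M g < L ∧
      ∀ X : Subgroup G, A ⊔ Cfsg.pCoreOf p L ≤ X → X < L → X ≤ L ⊓ cj M g := by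
  classical
  set O := Cfsg.pCore p G with hO
  have hOn : O.Normal := Cfsg.pCore_normal p G
  have hOp : IsPGroup p O := Cores.pCore_isPGroup
  have htop : LGood p O M A ⊤ := by
    refine ⟨le_top, le_top, fun h => hA (h.trans ?_), 1, T, T.isPGroup',
      sup_le hAT (Cores.pCore_le_sylow T), by simpa using hTM, ?_, ?_⟩
    · haveI : (Cfsg.pCoreOf p (⊤ : Subgroup G)).Normal :=
        normalizer_eq_top_iff.mp (top_le_iff.mp (le_normalizer_pCoreOf ⊤))
      exact Cores.le_pCore (pCoreOf_isPGroup ⊤)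
    · rw [cj_one, top_le_iff]; exact hM.1
    · intro X P hPp hOP _ hPX hX hXM
      rw [cj_one] at hPX hXM
      obtain ⟨Q, hQ⟩ := hPp.exists_le_sylow
      refine lt_of_le_of_ne (le_trans (card_le_of_le hQ) (Sylow.card_eq_multiplicity Q ▸
        (Sylow.card_eq_multiplicity T).ge)) fun hcard => hXM ?_
      have hPQ : P = (Q : Subgroup G) := eq_of_le_of_card_ge hQ (by
        rw [hcard, Sylow.card_eq_multiplicity, Sylow.card_eq_multiplicity])
      obtain ⟨c, hc⟩ := MulAction.exists_smul_eq G T Q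
      have hPc : P = cj (T : Subgroup G) c := by rw [hPQ, ← hc]; rfl
      have hTX : (T : Subgroup G) ≤ cj X c⁻¹ := (le_cj_iff _).mpr (by
        rw [inv_inv, ← hPc]; exact hPX.trans inf_le_left)
      have hTMc : (T : Subgroup G) ≤ cj M c⁻¹ := (le_cj_iff _).mpr (by
        rw [inv_inv, ← hPc]; exact hPX.trans inf_le_right)
      have hne : ∀ Y : Subgroup G, Y ≠ ⊤ → cj Y c⁻¹ ≠ ⊤ := fun Y hY e => hY (by
        have := congrArg Nat.card (congrArg (fun B : Subgroup G => ↥B) e)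
        rw [card_cj] at this
        exact eq_top_of_card_eq _ (this.trans Subgroup.card_top))
      have hMc : cj M c⁻¹ = M := eq_of_le_of_card_ge (minOver_le hmin hM hTM hTMc (hne M hM.1))
        (card_cj M c⁻¹).ge
      exact (cj_le_cj_iff c⁻¹).mp ((minOver_le hmin hM hTM hTX (hne X hX.ne)).trans hMc.ge)
  obtain ⟨L₁, ⟨k, hk⟩, hmin₁⟩ := exists_minimalFor_of_wellFoundedLT
    (fun L : Subgroup G => ∃ k, LGood p O M (cj A k) L) (fun L => Nat.card L)
    ⟨⊤, 1, by rwa [cj_one]⟩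
  set L := cj L₁ k⁻¹ with hLdef
  have hmin' : ∀ (X : Subgroup G) h, LGood p O M (cj A h) X → Nat.card L ≤ Nat.card X :=
    fun X h hX => by
      rw [hLdef, card_cj]
      rcases le_total (Nat.card L₁) (Nat.card X) with h1 | h1
      · exact h1
      · exact hmin₁ ⟨h, hX⟩ h1
  have hgood : LGood p O M A L := by
    have := hk.conj hOn k⁻¹
    rwa [cj_cj, inv_mul_cancel, cj_one] at this
  obtain ⟨hOL, hAL, hAc, g, S, hSp, hAS, hSL, hLM, hcond⟩ := hgood
  set N := cj M g with hN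
  have hAconj : ∀ h ∈ L, ¬ cj A h ≤ Cfsg.pCoreOf p L := fun h hh hle => hAc (by
    have h1 := cj_mono hle h⁻¹
    rwa [cj_cj, inv_mul_cancel, cj_one,
      cj_eq_of_mem (le_normalizer_pCoreOf L) (inv_mem hh)] at h1)
  have hmain : ∀ X : Subgroup G, A ⊔ O ≤ X → X < L → X ≤ N := by
    by_contra hcon
    push Not at hcon
    obtain ⟨X₀, hX₀, hX₀L, hX₀N⟩ := hcon
    let Bad : Subgroup G × Subgroup G → Prop := fun q =>
      IsPGroup p q.2 ∧ O ≤ q.2 ∧ (∃ h ∈ L, cj A h ≤ q.2) ∧ q.2 ≤ q.1 ⊓ N ∧ q.1 < L ∧ ¬ q.1 ≤ N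
    haveI := Fintype.ofFinite (Subgroup G × Subgroup G)
    have hne : (Finset.univ.filter Bad).Nonempty := by
      refine ⟨(X₀, A ⊔ O), Finset.mem_filter.mpr ⟨Finset.mem_univ _, ?_, le_sup_right,
        ⟨1, one_mem L, by rw [cj_one]; exact le_sup_left⟩, le_inf hX₀ ?_, hX₀L, hX₀N⟩⟩
      · exact hSp.to_le hAS
      · exact (hAS.trans hSL).trans inf_le_right
    obtain ⟨q₀, hq₀, hmax⟩ := Finset.exists_max_image _ (fun q => Nat.card q.2) hne
    obtain ⟨⟨X, P⟩, hXP, hminX⟩ := Finset.exists_min_image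
      ((Finset.univ.filter Bad).filter fun q => Nat.card q₀.2 ≤ Nat.card q.2) (fun q => Nat.card q.1)
      ⟨q₀, Finset.mem_filter.mpr ⟨hq₀, le_rfl⟩⟩
    simp only [Finset.mem_filter, Finset.mem_univ, true_and] at hXP hminX hmax hq₀
    obtain ⟨⟨hPp, hOP, ⟨h₀, hh₀, hh₀P⟩, hPX, hXL, hXN⟩, hPmax⟩ := hXP
    have hle : ∀ Y Q, Bad (Y, Q) → Nat.card Q ≤ Nat.card P := fun Y Q h =>
      (hmax (Y, Q) h).trans hPmax
    -- a p-subgroup of `L ⊓ N` properly above `P`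
    obtain ⟨P', hP'p, hP'L, hP'P, hP'n⟩ : ∃ P' : Subgroup G, IsPGroup p P' ∧ P' ≤ L ⊓ N ∧
        P < P' ∧ P' ≤ normalizer (P : Set G) := by
      have hPLN : P ≤ L ⊓ N := le_inf (hPX.trans (inf_le_left.trans hXL.le)) (hPX.trans inf_le_right)
      obtain ⟨R, hR⟩ := (hPp.comap_subtype : IsPGroup p (P.subgroupOf (L ⊓ N))).exists_le_sylow
      obtain ⟨R', hR'⟩ := (hSp.comap_subtype : IsPGroup p (S.subgroupOf (L ⊓ N))).exists_le_sylow
      set S' := (R : Subgroup ↥(L ⊓ N)).map (L ⊓ N).subtype with hS'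
      have hS'p : IsPGroup p S' := R.isPGroup'.map _
      have hPS' : P ≤ S' := fun x hx => ⟨⟨x, hPLN hx⟩, hR (show (⟨x, hPLN hx⟩ : ↥(L ⊓ N)) ∈ _ from hx), rfl⟩
      have hlt : P < S' := by
        refine lt_of_le_of_ne hPS' fun e => ?_
        have h1 : Nat.card P < Nat.card S := hcond X P hPp hOP ⟨h₀, hh₀, hh₀P⟩ hPX hXL hXN
        have h2 : Nat.card S ≤ Nat.card (R' : Subgroup ↥(L ⊓ N)) := by
          rw [← Nat.card_congr (subgroupOfEquivOfLe hSL).toEquiv]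
          exact card_le_of_le hR'
        rw [Sylow.card_eq_multiplicity R', ← Sylow.card_eq_multiplicity R,
          Nat.card_congr ((R : Subgroup ↥(L ⊓ N)).equivMapOfInjective _ (L ⊓ N).subtype_injective).toEquiv] at h2
        rw [← hS', ← e] at h2
        omega
      have h3 := FusionSys.lt_inf_normalizer_of_lt hS'p hlt
      exact ⟨_, hS'p.to_le inf_le_left, inf_le_left.trans (map_subtype_le _), h3, inf_le_right⟩
    -- nothing normalized by `P'` and outside `N` lies above `P`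
    have hstep : ∀ Y : Subgroup G, P' ≤ Y → Y < L → Y ≤ N := by
      intro Y hY hYL
      by_contra hYN
      have h1 := hle Y P' ⟨hP'p, hOP.trans hP'P.le, ⟨h₀, hh₀, hh₀P.trans hP'P.le⟩,
        le_inf hY (hP'L.trans inf_le_right), hYL, hYN⟩
      exact (lt_irrefl P) (lt_of_lt_of_le hP'P (eq_of_le_of_card_ge hP'P.le h1).ge)
    have hnormP : ∀ W : Subgroup G, W ≤ L → IsPGroup p W → (∃ h ∈ L, cj A h ≤ W) →
        P' ≤ normalizer (W : Set G) → L ⊓ normalizer (W : Set G) ≤ N := by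
      intro W hWL hWp hW hP'W
      refine hstep _ (le_inf (hP'L.trans inf_le_left) hP'W) (lt_of_le_of_ne inf_le_left fun e => ?_)
      obtain ⟨h, hh, hhW⟩ := hW
      exact hAconj h hh (hhW.trans (le_pCoreOf hWL (inf_eq_left.mp e) hWp))
    have hPL : P ≤ L := hPX.trans (inf_le_left.trans hXL.le)
    have hmaxP : ∀ Q : Subgroup G, IsPGroup p Q → P ≤ Q → Q ≤ X → Q = P := by
      intro Q hQ hPQ hQX
      by_contra hne
      have h1 := FusionSys.lt_inf_normalizer_of_lt hQ (lt_of_le_of_ne hPQ (Ne.symm hne))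
      have h2 : Q ⊓ normalizer (P : Set G) ≤ N :=
        (inf_le_inf_right _ (hQX.trans hXL.le)).trans
          (hnormP P hPL hPp ⟨h₀, hh₀, hh₀P⟩ hP'n)
      have h3 := hle X (Q ⊓ normalizer (P : Set G)) ⟨hQ.to_le inf_le_left, hOP.trans h1.le,
        ⟨h₀, hh₀, hh₀P.trans h1.le⟩, le_inf (inf_le_left.trans hQX) h2, hXL, hXN⟩
      exact (lt_irrefl P) (lt_of_lt_of_le h1 (eq_of_le_of_card_ge h1.le h3).ge)
    set R := Cfsg.pCoreOf p X with hR
    have hRP : R ≤ P := by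
      have h := hmaxP (P ⊔ R) (hPp.to_sup_of_normal_right' (pCoreOf_isPGroup X)
        ((hPX.trans inf_le_left).trans (le_normalizer_pCoreOf X))) le_sup_left
        (sup_le (hPX.trans inf_le_left) (pCoreOf_le X))
      exact le_sup_right.trans h.le
    have hAR : ∀ h ∈ L, cj A h ≤ P → cj A h ≤ R := by
      intro h hh hhP
      by_contra hnot
      have h1 := hmin' X h ⟨hOP.trans (hPX.trans inf_le_left), hhP.trans (hPX.trans inf_le_left),
        hnot, g, P, hPp, sup_le hhP hOP, hPX, hXN, fun Y Q hQp hOQ hQA hQY hYX hYN => by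
          obtain ⟨a, ha, haQ⟩ := hQA
          have hbad : Bad (Y, Q) := ⟨hQp, hOQ, ⟨a * h, mul_mem (hXL.le ha) hh, cj_cj A h a ▸ haQ⟩,
            hQY, hYX.trans hXL, hYN⟩
          refine lt_of_le_of_ne (hle Y Q hbad) fun e => ?_
          have h2 := hminX (Y, Q) ⟨hbad, hPmax.trans e.ge⟩
          exact (lt_irrefl Y) (lt_of_lt_of_le hYX (eq_of_le_of_card_ge hYX.le h2).ge)⟩
      exact (lt_irrefl X) (lt_of_lt_of_le hXL (eq_of_le_of_card_ge hXL.le h1).ge)
    set W : Subgroup G := ⨆ h : {h : G // h ∈ L ∧ cj A h ≤ P}, cj A (h : G) with hW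
    have hWP : W ≤ P := iSup_le fun h => h.2.2
    have hinv : ∀ x ∈ L, (∀ h ∈ L, cj A h ≤ P → cj A (x * h) ≤ P) → x ∈ normalizer (W : Set G) := by
      intro x hx hxh
      refine mem_normalizer_fintype fun w hw => ?_
      have h1 : cj W x ≤ W := by
        rw [hW, cj, Subgroup.map_iSup]
        refine iSup_le fun h => ?_
        change cj (cj A (h : G)) x ≤ _
        rw [cj_cj]
        exact le_iSup (fun h : {h : G // h ∈ L ∧ cj A h ≤ P} => cj A (h : G))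
          ⟨x * h, mul_mem hx h.2.1, hxh h h.2.1 h.2.2⟩
      exact h1 ⟨w, hw, by simp⟩
    have hXW : X ≤ normalizer (W : Set G) := fun x hx => hinv x (hXL.le hx) fun h hh hhP => by
      have h1 := cj_mono (hAR h hh hhP) x
      rw [cj_cj, cj_eq_of_mem (le_normalizer_pCoreOf X) hx] at h1
      exact h1.trans hRP
    have hP'W : P' ≤ normalizer (W : Set G) := fun x hx =>
      hinv x ((hP'L hx).1) fun h _ hhP => by
        have h1 := cj_mono hhP x
        rwa [cj_cj, cj_eq_of_mem hP'n hx] at h1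
    exact hXN ((le_inf hXL.le hXW).trans (hnormP W (hWP.trans hPL) (hPp.to_le hWP)
      ⟨h₀, hh₀, le_iSup (fun h : {h : G // h ∈ L ∧ cj A h ≤ P} => cj A (h : G)) ⟨h₀, hh₀, hh₀P⟩⟩ hP'W))
  have hOc : O ≤ Cfsg.pCoreOf p L :=
    le_pCoreOf hOL (by rw [normalizer_eq_top_iff.mpr hOn]; exact le_top) hOp
  have hB : A ⊔ Cfsg.pCoreOf p L < L := by
    refine lt_of_le_of_ne (sup_le hAL (pCoreOf_le L)) fun e => hAc ?_
    have hLp : IsPGroup p L := e ▸ IsPGroup.to_sup_of_normal_right'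
      (hSp.to_le (le_sup_left.trans hAS)) (pCoreOf_isPGroup L)
      (hAL.trans (le_normalizer_pCoreOf L))
    exact hAL.trans (le_pCoreOf le_rfl Subgroup.le_normalizer hLp)
  refine ⟨L, g, hAc, sup_le hAL hOL, le_inf hB.le (hmain _ (sup_le_sup_left hOc A) hB),
    lt_of_le_of_ne inf_le_left fun e => hLM (inf_eq_left.mp e), fun X hX hXL =>
      le_inf hXL.le (hmain X ((sup_le_sup_left hOc A).trans hX) hXL)⟩

/-- A unique maximal subgroup over `A ⊔ O_p(L)` is generated past by two conjugates of `A`. -/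
theorem sup_conj_eq_of_unique [Finite G] [hp : Fact p.Prime] {A L L₀ : Subgroup G}
    (hAp : IsPGroup p A) (hA : ¬ A ≤ Cfsg.pCoreOf p L) (h0 : A ⊔ Cfsg.pCoreOf p L ≤ L₀)
    (hlt : L₀ < L) (huniq : ∀ X : Subgroup G, A ⊔ Cfsg.pCoreOf p L ≤ X → X < L → X ≤ L₀)
    {x : G} (hx : x ∈ L) (hx0 : x ∉ L₀) :
    (A ⊔ cj A x) ⊔ Cfsg.pCoreOf p L = L := by
  have hAL : A ≤ L := (le_sup_left.trans h0).trans hlt.le
  have hxn : cj (Cfsg.pCoreOf p L) x = Cfsg.pCoreOf p L := cj_eq_of_mem (le_normalizer_pCoreOf L) hx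
  by_contra hne
  have hle : (A ⊔ cj A x) ⊔ Cfsg.pCoreOf p L ≤ L :=
    sup_le (sup_le hAL ((cj_mono hAL x).trans (cj_le_of_mem hx))) (pCoreOf_le L)
  have h1 := huniq _ (sup_le (le_sup_left.trans le_sup_left) le_sup_right) (lt_of_le_of_ne hle hne)
  have h2 : cj (A ⊔ Cfsg.pCoreOf p L) x ≤ L₀ := by
    rw [cj_sup, hxn]
    exact sup_le ((le_sup_right.trans le_sup_left).trans h1) (le_sup_right.trans h1)
  rw [cj_le_iff] at h2
  have h3 : cj L₀ x⁻¹ ≤ L := (cj_mono hlt.le _).trans (cj_le_of_mem (inv_mem hx))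
  have h4 : cj L₀ x⁻¹ ≤ L₀ := huniq _ h2 (lt_of_le_of_ne h3 fun e => hlt.ne
    (eq_of_le_of_card_ge hlt.le (by rw [← card_cj L₀ x⁻¹, e])))
  have h5 : x⁻¹ ∈ normalizer (L₀ : Set G) :=
    cj_eq_self_iff.mp (eq_of_le_of_card_ge h4 (card_cj L₀ x⁻¹).ge)
  have h6 : L ⊓ normalizer (L₀ : Set G) = L := by
    by_contra hne6
    have h7 := huniq _ (h0.trans (le_inf hlt.le Subgroup.le_normalizer))
      (lt_of_le_of_ne inf_le_left hne6) ⟨L.inv_mem hx, h5⟩
    exact hx0 (inv_inv x ▸ L₀.inv_mem h7)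
  have hn : (L₀.subgroupOf L).Normal :=
    (normal_subgroupOf_iff_le_normalizer hlt.le).mpr (inf_eq_left.mp h6)
  have hBp : IsPGroup p ↥(A ⊔ Cfsg.pCoreOf p L) :=
    hAp.to_sup_of_normal_right' (pCoreOf_isPGroup L) (hAL.trans (le_normalizer_pCoreOf L))
  obtain ⟨Q, hQ⟩ := ((hBp.comap_of_injective L.subtype L.subtype_injective).comap_of_injective
    (L₀.subgroupOf L).subtype (L₀.subgroupOf L).subtype_injective).exists_le_sylow
  have hfr := Sylow.normalizer_sup_eq_top Q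
  set Q' := ((Q : Subgroup ↥(L₀.subgroupOf L)).map (L₀.subgroupOf L).subtype).map L.subtype with hQ'
  have hBQ : A ⊔ Cfsg.pCoreOf p L ≤ Q' := fun y hy =>
    ⟨⟨y, hlt.le (h0 hy)⟩, ⟨⟨⟨y, hlt.le (h0 hy)⟩, h0 hy⟩, hQ (show _ ∈ _ from hy), rfl⟩, rfl⟩
  have hQL : Q' ≤ L₀ := by
    rintro _ ⟨_, ⟨z, -, rfl⟩, rfl⟩; exact z.2
  have h8 : L ≤ (L ⊓ normalizer (Q' : Set G)) ⊔ L₀ := by
    intro y hy
    have h9 : (⟨y, hy⟩ : L) ∈ (⊤ : Subgroup L) := mem_top _
    rw [← hfr] at h9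
    have h10 := mem_map_of_mem L.subtype h9
    rw [Subgroup.map_sup, subgroupOf_map_subtype] at h10
    refine sup_le_sup (le_inf (map_subtype_le _) (Subgroup.le_normalizer_map _)) inf_le_left h10
  by_cases h11 : L ⊓ normalizer (Q' : Set G) = L
  · exact hA ((le_sup_left.trans hBQ).trans (le_pCoreOf (hQL.trans hlt.le) (inf_eq_left.mp h11)
      ((Q.isPGroup'.map _).map _)))
  · have h12 := huniq _ (hBQ.trans (le_inf (hQL.trans hlt.le) Subgroup.le_normalizer))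
      (lt_of_le_of_ne inf_le_left h11)
    exact hlt.not_ge (h8.trans (sup_le h12 le_rfl))

end Cfsg.Agent.H59
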