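import Cfsg.Agent.H59.ModelSubTools
import Cfsg.Agent.S5118

/-!
Normal subsystems of the fusion system of a group with self-centralizing `O_p` come from normal subgroups.
-/

set_option autoImplicit false

namespace Cfsg.Agent.H59.ModelSub

open Cfsg Cfsg.FusionSystem Cfsg.Agent.FusionSys

universe u

variable {G : Type u} [Group G] [Finite G] {p : ℕ} [Fact p.Prime] {T : Subgroup G}

/-- The hypotheses of the correspondence. -/
structure Setup (S : Sylow p G) (E : FusionSystem T) : Prop where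
  cent : Subgroup.centralizer ((pCore p G : Subgroup G) : Set G) ≤ pCore p G
  normal : E.IsNormalIn (groupFusionSystem (S : Subgroup G)) p

namespace Setup

variable {S : Sylow p G} {E : FusionSystem T} (D : Setup S E)

include D in
theorem T_le : T ≤ (S : Subgroup G) := D.normal.1.2.2.2.1.1

include D in
theorem isPGroup_T : IsPGroup p T := S.isPGroup'.to_le D.T_le

include D in
theorem E_sat : E.IsSaturated p := D.normal.1.1

include D in
theorem inv : E.IsInvariantIn (groupFusionSystem (S : Subgroup G)) := D.normal.1.2.2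

omit [Finite G] in
theorem conj_mem_Q {x : G} (hx : x ∈ pCore p G) (g : G) : g * x * g⁻¹ ∈ pCore p G :=
  (Cfsg.pCore_normal p G).conj_mem x hx g

theorem Q_le (S : Sylow p G) : pCore p G ≤ (S : Subgroup G) := Cores.pCore_le_sylow S

include D in
/-- Strong closure of `T`, for conjugation. -/
theorem conj_mem_T {x : G} (hx : x ∈ T) (g : G) (h : g * x * g⁻¹ ∈ (S : Subgroup G)) :
    g * x * g⁻¹ ∈ T := by
  refine (stronglyClosed_iff.1 D.inv.2.1).2 (Subgroup.zpowers x) (conjMap g) (Subgroup.zpowers_le.2 hx)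
    (isMap_group_iff.2 ⟨Subgroup.zpowers_le.2 (D.T_le hx), g, fun y hy => ⟨?_, rfl⟩⟩) x
    (Subgroup.mem_zpowers x)
  obtain ⟨n, rfl⟩ := Subgroup.mem_zpowers_iff.1 hy
  rw [← conj_zpow]
  exact zpow_mem h n

include D in
theorem T_normalized {x t : G} (hx : x ∈ (S : Subgroup G)) (ht : t ∈ T) : x * t * x⁻¹ ∈ T :=
  D.conj_mem_T ht x (mul_mem (mul_mem hx (D.T_le ht)) (Subgroup.inv_mem _ hx))

include D in
theorem R_normal : (pCore p G ⊓ T).Normal where
  conj_mem x hx g :=
    ⟨conj_mem_Q hx.1 g, D.conj_mem_T hx.2 g (Q_le S (conj_mem_Q hx.1 g))⟩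

include D in
theorem isMap_R (g : G) : IsMap (groupFusionSystem (S : Subgroup G)) (pCore p G ⊓ T) (conjMap g) :=
  isMap_group_iff.2 ⟨inf_le_left.trans (Q_le S), g,
    fun x hx => ⟨Q_le S (conj_mem_Q hx.1 g), rfl⟩⟩

include D in
theorem exists_conj_of_isMap {P : Subgroup G} {f : G → G} (hf : IsMap E P f) :
    ∃ g : G, ∀ x ∈ P, f x = g * x * g⁻¹ := by
  obtain ⟨-, g, hg⟩ := isMap_group_iff.1 (isSubsystemOf_iff_isMap.1 D.inv.1 P f hf)
  exact ⟨g, fun x hx => (hg x hx).2⟩

include D in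
theorem R_mapsTo {f : G → G} (hf : IsMap E (pCore p G ⊓ T) f) {x : G} (hx : x ∈ pCore p G ⊓ T) :
    f x ∈ pCore p G ⊓ T := by
  obtain ⟨g, hg⟩ := D.exists_conj_of_isMap hf
  rw [hg x hx]
  exact D.R_normal.conj_mem x hx g

include D in
theorem R_le : pCore p G ⊓ T ≤ T := inf_le_right

/-- The candidate supplement: induces automorphisms in the subsystem on `R` and is trivial on `O_p(G)/R`. -/
def lset (_ : Setup S E) : Set G :=
  {g | IsMap E (pCore p G ⊓ T) (conjMap g) ∧
    ∀ q ∈ pCore p G, g * q * g⁻¹ * q⁻¹ ∈ pCore p G ⊓ T}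

include D in
theorem one_mem_lset : (1 : G) ∈ D.lset := by
  refine ⟨?_, fun q _ => by simp⟩
  rw [conjMap_one]
  exact isMap_id E inf_le_right

include D in
theorem mul_mem_lset {a b : G} (ha : a ∈ D.lset) (hb : b ∈ D.lset) : a * b ∈ D.lset := by
  refine ⟨?_, fun q hq => ?_⟩
  · rw [conjMap_mul]
    exact hb.1.comp ha.1 fun x hx => D.R_mapsTo hb.1 hx
  · have h1 := D.R_normal.conj_mem _ (hb.2 q hq) a
    have h2 := ha.2 q hq
    have e : a * b * q * (a * b)⁻¹ * q⁻¹ = a * (b * q * b⁻¹ * q⁻¹) * a⁻¹ * (a * q * a⁻¹ * q⁻¹) := by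
      group
    rw [e]
    exact mul_mem h1 h2

/-- The subgroup `L`. -/
def L : Subgroup G where
  carrier := D.lset
  one_mem' := D.one_mem_lset
  mul_mem' := D.mul_mem_lset
  inv_mem' := by
    intro a ha
    have hpow : ∀ n : ℕ, a ^ n ∈ D.lset := by
      intro n
      induction n with
      | zero => simpa using D.one_mem_lset
      | succ n ih => rw [pow_succ]; exact D.mul_mem_lset ih ha
    have hpos : 0 < orderOf a := orderOf_pos a
    have e : a⁻¹ = a ^ (orderOf a - 1) := by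
      refine inv_eq_of_mul_eq_one_right ?_
      rw [← pow_succ', Nat.sub_add_cancel hpos, pow_orderOf_eq_one]
    rw [e]
    exact hpow _

include D in
theorem L_normal : D.L.Normal where
  conj_mem l hl g := by
    have hθ : IsIso (groupFusionSystem (S : Subgroup G)) (pCore p G ⊓ T) (pCore p G ⊓ T) (conjMap g) := by
      refine ⟨D.isMap_R g, ?_⟩
      ext y
      constructor
      · rintro ⟨x, hx, rfl⟩
        exact D.R_normal.conj_mem x hx g
      · intro hy
        refine ⟨g⁻¹ * y * g, by simpa using D.R_normal.conj_mem y hy g⁻¹, ?_⟩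
        show g * (g⁻¹ * y * g) * g⁻¹ = y
        group
    obtain ⟨f, hf, he⟩ := isMap_transport D.inv inf_le_right hθ hl.1 fun x hx => D.R_mapsTo hl.1 hx
    refine ⟨hf.congr fun y hy => ?_, fun q hq => ?_⟩
    · obtain ⟨x, hx, rfl⟩ := hθ.exists_preimage hy
      rw [he x hx]
      show g * l * g⁻¹ * (g * x * g⁻¹) * (g * l * g⁻¹)⁻¹ = g * (l * x * l⁻¹) * g⁻¹
      group
    · have h1 := D.R_normal.conj_mem _ (hl.2 (g⁻¹ * q * g) (by simpa using conj_mem_Q hq g⁻¹)) g
      have e : g * l * g⁻¹ * q * (g * l * g⁻¹)⁻¹ * q⁻¹ =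
          g * (l * (g⁻¹ * q * g) * l⁻¹ * (g⁻¹ * q * g)⁻¹) * g⁻¹ := by group
      rw [e]
      exact h1

include D in
theorem T_le_L : T ≤ D.L := by
  intro t ht
  refine ⟨isMap_conj E inf_le_right ht, fun q hq => ?_⟩
  refine ⟨mul_mem (conj_mem_Q hq t) (Subgroup.inv_mem _ hq), ?_⟩
  have e : t * q * t⁻¹ * q⁻¹ = t * (q * t⁻¹ * q⁻¹) := by group
  rw [e]
  exact mul_mem ht (D.T_normalized (Q_le S hq) (Subgroup.inv_mem _ ht))

/-- The kernel of the action of `L` on `R`. -/
def K : Subgroup G := D.L ⊓ Subgroup.centralizer ((pCore p G ⊓ T : Subgroup G) : Set G)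

include D in
theorem K_normal : D.K.Normal := by
  haveI := D.L_normal
  haveI := D.R_normal
  unfold K
  infer_instance

include D in
theorem K_isPGroup : IsPGroup p D.K := by
  refine isPGroup_of_coprime_trivial fun k hk hcop => ?_
  have hkc : k ∈ Subgroup.centralizer ((pCore p G : Subgroup G) : Set G) := by
    refine Subgroup.mem_centralizer_iff.2 fun q hq => ?_
    set r := k * q * k⁻¹ * q⁻¹ with hr
    have hrR := hk.1.2 q hq
    have hfix : k * r * k⁻¹ = r := by
      rw [← Subgroup.mem_centralizer_iff.1 hk.2 r hrR, mul_inv_cancel_right]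
    have h1 := conj_pow_mul (m := k) (q := q) (r := r) (by rw [hr]; group) hfix (orderOf k)
    rw [pow_orderOf_eq_one, one_mul, inv_one, mul_one, eq_comm, mul_eq_right] at h1
    have hr1 : r = 1 := by
      obtain ⟨i, hi⟩ := Cores.pCore_isPGroup (p := p) (G := G) ⟨r, hrR.1⟩
      have hi' : r ^ p ^ i = 1 := congrArg Subtype.val hi
      have hd := Nat.dvd_gcd (orderOf_dvd_of_pow_eq_one h1) (orderOf_dvd_of_pow_eq_one hi')
      rw [hcop.pow_right i, Nat.dvd_one, orderOf_eq_one_iff] at hd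
      exact hd
    rw [hr, mul_inv_eq_one, mul_inv_eq_iff_eq_mul] at hr1
    exact hr1.symm
  obtain ⟨i, hi⟩ := Cores.pCore_isPGroup (p := p) (G := G) ⟨k, D.cent hkc⟩
  have hd := orderOf_dvd_of_pow_eq_one (show k ^ p ^ i = 1 from congrArg Subtype.val hi)
  exact orderOf_eq_one_iff.1 (Nat.eq_one_of_dvd_coprimes hcop (dvd_refl _)
    (((Nat.dvd_prime_pow Fact.out).1 hd).elim fun j hj => by
      rcases Nat.eq_zero_or_pos j with rfl | hj0
      · rw [hj.2, pow_zero]; exact one_dvd _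
      · exfalso
        have : p ∣ orderOf k := hj.2 ▸ dvd_pow_self p hj0.ne'
        exact (Fact.out : p.Prime).ne_one (Nat.eq_one_of_dvd_coprimes hcop this (dvd_refl p))))

include D in
theorem K_le_Q : D.K ≤ pCore p G := by
  haveI := D.K_normal
  exact Cores.le_pCore D.K_isPGroup

include D in
/-- Every automorphism of `T` in `E` of order prime to `p` is induced by an element of `L` of such order. -/
theorem lift {α : MulAut T} (hα : α ∈ E.autGroup T) (hc : (orderOf α).Coprime p) :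
    ∃ m ∈ D.L, (orderOf m).Coprime p ∧ ∀ x ∈ T, m * x * m⁻¹ = autMap α x := by
  obtain ⟨β, hβ, hβT, hβC⟩ := D.normal.2 α hα
  have hW : T ⊔ centralizerIn (S : Subgroup G) T ≤ (S : Subgroup G) := sup_le D.T_le centralizerIn_le
  obtain ⟨-, g, hg⟩ := isMap_group_iff.1 ((mem_autGroup_iff hW).1 hβ)
  have hgT : ∀ x ∈ T, g * x * g⁻¹ = autMap α x := by
    intro x hx
    rw [← (hg x (Subgroup.mem_sup_left hx)).2, autMap_apply _ (Subgroup.mem_sup_left hx),
      autMap_apply α hx]
    exact hβT ⟨x, hx⟩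
  have hgC : ∀ c ∈ centralizerIn (S : Subgroup G) T, c⁻¹ * (g * c * g⁻¹) ∈ T := by
    intro c hcc
    rw [← (hg c (Subgroup.mem_sup_right hcc)).2, autMap_apply _ (Subgroup.mem_sup_right hcc)]
    exact (hβC ⟨c, Subgroup.mem_sup_right hcc⟩ hcc).1
  -- the commutators with `O_p(G)` lie in `T C_S(T)`
  have hN : ∀ q ∈ pCore p G, g * q * g⁻¹ * q⁻¹ ∈ T ⊔ centralizerIn (S : Subgroup G) T := by
    intro q hq
    set c := g * q * g⁻¹ * q⁻¹ with hcdef
    have hcQ : c ∈ pCore p G := mul_mem (conj_mem_Q hq g) (Subgroup.inv_mem _ hq)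
    have hcn : ∀ x : G, x ∈ (S : Subgroup G) → x ∈ Subgroup.normalizer (T : Set G) := fun x hx =>
      mem_normalizer_of_maps fun y hy => D.T_normalized hx hy
    have hqn := hcn q (Q_le S hq)
    have hcn' := hcn c (Q_le S hcQ)
    have hqE : conjAut hqn * α⁻¹ * (conjAut hqn)⁻¹ ∈ E.autGroup T := by
      have hqF : conjAut hqn ∈ (groupFusionSystem (S : Subgroup G)).autGroup T :=
        conjAut_mem_autGroup _ D.T_le ⟨Q_le S hq, hqn⟩
      obtain ⟨-, -, h3, -⟩ := Transp.isInvariant_iff_isMap.1 D.inv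
      have h := h3 T _ ((mem_autGroup_iff le_rfl).1 (Subgroup.inv_mem _ hα)) _ hqF
      refine mem_autGroup_of_isMap ((h.mono ?_).congr fun x hx => ?_)
      · intro x hx
        rw [← autMap_inv_apply (conjAut hqn) hx]
        exact Subgroup.subset_closure ⟨_, autMap_mem _ hx, rfl⟩
      · rw [autMap_mul _ _ hx, autMap_mul _ _ (autMap_mem _ hx)]; rfl
    have hcE : conjAut hcn' ∈ E.autGroup T := by
      have e : conjAut hcn' = α * (conjAut hqn * α⁻¹ * (conjAut hqn)⁻¹) := by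
        refine aut_ext fun x hx => ?_
        rw [autMap_conjAut hcn' hx, autMap_mul _ _ hx, autMap_mul _ _ hx,
          autMap_mul _ _ (autMap_mem _ hx)]
        have hy : autMap (conjAut hqn)⁻¹ x = q⁻¹ * x * q := by
          have h := autMap_inv_apply (conjAut hqn) hx
          rw [autMap_conjAut hqn (autMap_mem _ hx)] at h
          have h' : q * autMap (conjAut hqn)⁻¹ x * q⁻¹ = x := h
          calc autMap (conjAut hqn)⁻¹ x = q⁻¹ * (q * autMap (conjAut hqn)⁻¹ x * q⁻¹) * q := by group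
            _ = q⁻¹ * x * q := by rw [h']
        have hz : autMap α⁻¹ (q⁻¹ * x * q) = g⁻¹ * (q⁻¹ * x * q) * g := by
          have hxT : q⁻¹ * x * q ∈ T := hy ▸ autMap_mem _ hx
          have h := autMap_inv_apply α hxT
          rw [← hgT _ (autMap_mem _ hxT)] at h
          calc autMap α⁻¹ (q⁻¹ * x * q) = g⁻¹ * (g * autMap α⁻¹ (q⁻¹ * x * q) * g⁻¹) * g := by group
            _ = _ := by rw [h]
        rw [hy, autMap_conjAut hqn (autMap_mem _ (hy ▸ autMap_mem _ hx)), hz, conjMap_apply q,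
          ← hgT _ (D.T_normalized (Q_le S hq) (hz ▸ autMap_mem _ (hy ▸ autMap_mem _ hx)))]
        simp only [conjMap_apply, hcdef]
        group
      rw [e]
      exact mul_mem hα hqE
    have hfa := isFullyAutomized_of_isFullyNormalized D.isPGroup_T D.E_sat (isFullyNormalized_S E)
    set A := E.autGroup T
    obtain ⟨Rs, hRs⟩ : ∃ Rs : Sylow p A, (Rs : Subgroup A) = (autInducedBy T T).subgroupOf A := hfa.2
    let N : Subgroup A := (autInducedBy (pCore p G) T).subgroupOf A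
    haveI : Finite A := finite_autGroup E le_rfl
    haveI : N.Normal := ⟨fun n hn a => by
      obtain ⟨y, hy, hyn, hye⟩ := mem_autInducedBy.1 (show (n : MulAut T) ∈ autInducedBy (pCore p G) T from hn)
      obtain ⟨h, hh⟩ := D.exists_conj_of_isMap ((mem_autGroup_iff le_rfl).1 a.2)
      have hnz : h * y * h⁻¹ ∈ Subgroup.normalizer (T : Set G) := hcn _ (Q_le S (conj_mem_Q hy h))
      show ((a : MulAut T) * (n : MulAut T) * (a : MulAut T)⁻¹) ∈ autInducedBy (pCore p G) T
      refine mem_autInducedBy.2 ⟨_, conj_mem_Q hy h, hnz, aut_ext fun x hx => ?_⟩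
      have hinv : autMap (a : MulAut T)⁻¹ x = h⁻¹ * x * h := by
        have h' := autMap_inv_apply (a : MulAut T) hx
        rw [hh _ (autMap_mem _ hx)] at h'
        calc autMap (a : MulAut T)⁻¹ x = h⁻¹ * (h * autMap (a : MulAut T)⁻¹ x * h⁻¹) * h := by group
          _ = _ := by rw [h']
      rw [autMap_mul _ _ hx, autMap_mul _ _ (autMap_mem _ hx), hinv, hye,
        autMap_conjAut hyn (hinv ▸ autMap_mem _ hx), autMap_conjAut hnz hx,
        hh (conjMap y (h⁻¹ * x * h)) (D.T_normalized (Q_le S hy) (hinv ▸ autMap_mem _ hx))]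
      simp only [conjMap_apply]
      group⟩
    have hNp : IsPGroup p N :=
      (isPGroup_autInducedBy Cores.pCore_isPGroup T).comap_of_injective A.subtype A.subtype_injective
    have hmem : (⟨conjAut hcn', hcE⟩ : A) ∈ (Rs : Subgroup A) :=
      isPGroup_le_sylow hNp Rs (show conjAut hcn' ∈ autInducedBy (pCore p G) T from
        mem_autInducedBy.2 ⟨c, hcQ, hcn', rfl⟩)
    rw [hRs] at hmem
    obtain ⟨t, ht, htn, hte⟩ := mem_autInducedBy.1 (show conjAut hcn' ∈ autInducedBy T T from hmem)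
    have hC : t⁻¹ * c ∈ centralizerIn (S : Subgroup G) T := by
      refine FusionSys.mem_centralizerIn.2 ⟨mul_mem (Subgroup.inv_mem _ (D.T_le ht)) (Q_le S hcQ), fun y hy => ?_⟩
      have h := congrArg (fun a => autMap a y) hte
      simp only [autMap_conjAut hcn' hy, autMap_conjAut htn hy, conjMap_apply] at h
      calc y * (t⁻¹ * c) = t⁻¹ * (t * y * t⁻¹) * c := by group
        _ = t⁻¹ * (c * y * c⁻¹) * c := by rw [h]
        _ = _ := by group
    have e : c = t * (t⁻¹ * c) := by group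
    rw [e]
    exact mul_mem (Subgroup.mem_sup_left ht) (Subgroup.mem_sup_right hC)
  -- `g` is trivial on `(O_p(G) ∩ T C_S(T))/R`
  have hsub : ∀ w ∈ pCore p G, w ∈ T ⊔ centralizerIn (S : Subgroup G) T →
      g * w * g⁻¹ * w⁻¹ ∈ pCore p G ⊓ T := by
    intro w hwQ hw
    refine ⟨mul_mem (conj_mem_Q hwQ g) (Subgroup.inv_mem _ hwQ), ?_⟩
    have hle : centralizerIn (S : Subgroup G) T ≤ Subgroup.normalizer (T : Set G) :=
      centralizerIn_le_normalizerIn.trans inf_le_right
    have hw' : w ∈ ((T ⊔ centralizerIn (S : Subgroup G) T : Subgroup G) : Set G) := hw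
    rw [Subgroup.coe_mul_of_right_le_normalizer_left _ _ hle] at hw'
    obtain ⟨t, ht, d, hd, rfl⟩ := Set.mem_mul.1 hw'
    have hz := hgC d hd
    have hdc : ∀ y ∈ T, y * d = d * y := (FusionSys.mem_centralizerIn.1 hd).2
    have e : g * (t * d) * g⁻¹ * (t * d)⁻¹ =
        g * t * g⁻¹ * (d * (d⁻¹ * (g * d * g⁻¹)) * d⁻¹) * t⁻¹ := by group
    rw [e, ← hdc _ hz, mul_inv_cancel_right]
    exact mul_mem (mul_mem (by rw [hgT t ht]; exact autMap_mem α ht) hz) (Subgroup.inv_mem _ ht)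
  haveI := D.R_normal
  obtain ⟨k, hk1, hk2⟩ := exists_pow_coprime g hc
  have hpow : ∀ (n : ℕ) (x : G), x ∈ T → g ^ n * x * (g ^ n)⁻¹ = autMap (α ^ n) x := by
    intro n
    induction n with
    | zero => intro x hx; rw [pow_zero, pow_zero, autMap_apply _ hx]; simp
    | succ n ih =>
      intro x hx
      rw [pow_succ' α n, autMap_mul _ _ hx, ← ih x hx, ← hgT _ (ih x hx ▸ autMap_mem _ hx), pow_succ' g n]
      group
  -- the powers of `g` keep these properties
  have hstab : ∀ w ∈ pCore p G, w ∈ T ⊔ centralizerIn (S : Subgroup G) T → ∀ n : ℕ,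
      g ^ n * w * (g ^ n)⁻¹ * w⁻¹ ∈ pCore p G ⊓ T := by
    intro w hwQ hw n
    induction n with
    | zero => simp
    | succ n ih =>
      have e : g ^ (n + 1) * w * (g ^ (n + 1))⁻¹ * w⁻¹ =
          g * (g ^ n * w * (g ^ n)⁻¹ * w⁻¹) * g⁻¹ * (g * w * g⁻¹ * w⁻¹) := by
        rw [pow_succ']; group
      rw [e]
      exact mul_mem (D.R_normal.conj_mem _ ih g) (hsub w hwQ hw)
  have hquot : ∀ q ∈ pCore p G, ∀ n : ℕ,
      g ^ n * q * (g ^ n)⁻¹ * q⁻¹ ∈ pCore p G ⊓ (T ⊔ centralizerIn (S : Subgroup G) T) := by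
    intro q hq n
    induction n with
    | zero => simp
    | succ n ih =>
      have h2 := hsub _ ih.1 ih.2
      have e : g ^ (n + 1) * q * (g ^ (n + 1))⁻¹ * q⁻¹ =
          (g * (g ^ n * q * (g ^ n)⁻¹ * q⁻¹) * g⁻¹ * (g ^ n * q * (g ^ n)⁻¹ * q⁻¹)⁻¹) *
            (g ^ n * q * (g ^ n)⁻¹ * q⁻¹) * (g * q * g⁻¹ * q⁻¹) := by
        rw [pow_succ']; group
      rw [e]
      exact mul_mem (mul_mem ⟨h2.1, Subgroup.mem_sup_left h2.2⟩ ih)
        ⟨mul_mem (conj_mem_Q hq g) (Subgroup.inv_mem _ hq), hN q hq⟩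
  set m := g ^ k with hm
  refine ⟨m, ⟨?_, fun q hq => ?_⟩, hk1, fun x hx => ?_⟩
  · refine (((mem_autGroup_iff le_rfl).1 hα).mono inf_le_right).congr fun x hx => ?_
    show m * x * m⁻¹ = autMap α x
    rw [hpow k x hx.2, pow_eq_self_of_modEq (pow_orderOf_eq_one α) hk2]
  · set c := m * q * m⁻¹ * q⁻¹ with hc'
    obtain ⟨hcQ, hcW⟩ := hquot q hq k
    have hiter : ∀ n : ℕ, ∃ r ∈ pCore p G ⊓ T, m ^ n * q * (m ^ n)⁻¹ = r * (c ^ n * q) := by
      intro n
      induction n with
      | zero => exact ⟨1, one_mem _, by simp⟩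
      | succ n ih =>
        obtain ⟨r, hr, he⟩ := ih
        have hcn : c ^ n ∈ pCore p G ⊓ (T ⊔ centralizerIn (S : Subgroup G) T) :=
          Subgroup.pow_mem _ (Subgroup.mem_inf.2 ⟨hcQ, hcW⟩) n
        have h2 : m * c ^ n * m⁻¹ * (c ^ n)⁻¹ ∈ pCore p G ⊓ T := hstab _ hcn.1 hcn.2 k
        refine ⟨m * r * m⁻¹ * (m * c ^ n * m⁻¹ * (c ^ n)⁻¹),
          mul_mem (D.R_normal.conj_mem r hr m) h2, ?_⟩
        calc m ^ (n + 1) * q * (m ^ (n + 1))⁻¹ = m * (m ^ n * q * (m ^ n)⁻¹) * m⁻¹ := by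
              rw [pow_succ' m n]; group
          _ = m * (r * (c ^ n * q)) * m⁻¹ := by rw [he]
          _ = m * r * m⁻¹ * (m * c ^ n * m⁻¹ * (c ^ n)⁻¹) * (c ^ n * (m * q * m⁻¹)) := by group
          _ = _ := by rw [show m * q * m⁻¹ = c * q by rw [hc']; group, pow_succ c n]; group
    obtain ⟨r, hr, he⟩ := hiter (orderOf m)
    rw [pow_orderOf_eq_one, one_mul, inv_one, mul_one, ← mul_assoc, eq_comm, mul_eq_right,
      mul_eq_one_iff_eq_inv] at he
    refine mem_of_pow_coprime (n := orderOf m) ?_ ?_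
    · obtain ⟨i, hi⟩ := Cores.pCore_isPGroup (p := p) (G := G) ⟨c, hcQ⟩
      refine Nat.Coprime.coprime_dvd_right (orderOf_dvd_of_pow_eq_one
        (show c ^ p ^ i = 1 from congrArg Subtype.val hi)) (hk1.pow_right i)
    · exact (Subgroup.inv_mem_iff (pCore p G ⊓ T)).1 (he ▸ hr)
  · rw [hpow k x hx, pow_eq_self_of_modEq (pow_orderOf_eq_one α) hk2]

end Setup

end Cfsg.Agent.H59.ModelSub
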