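import Cfsg.Agent.H59.ModelSub

/-!
The normal subgroup belonging to a normal subsystem of a model, and its uniqueness.
-/

set_option autoImplicit false

namespace Cfsg.Agent.H59.ModelSub

open Cfsg Cfsg.FusionSystem Cfsg.Agent.FusionSys

universe u

section Aut

variable {X : Type*} [Group X] {p : ℕ} [Fact p.Prime]

theorem quot_pow_eq [Finite X] {N : Subgroup X} [N.Normal] {x : X} {k : ℕ}
    (hk : k ≡ 1 [MOD N.index]) : x⁻¹ * x ^ k ∈ N := by
  rw [← QuotientGroup.eq, QuotientGroup.mk_pow]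
  refine (pow_eq_self_of_modEq ?_ hk).symm
  rw [← QuotientGroup.mk_pow, QuotientGroup.eq_one_iff]
  exact Subgroup.pow_index_mem N x

/-- A subgroup containing a normal subgroup of index prime to `p` and all elements of order prime to `p`. -/
theorem mem_of_coprime_elements [Finite X] {N : Subgroup X} [N.Normal] (B : Subgroup X) (hNB : N ≤ B)
    (hN : ¬ p ∣ N.index) (h : ∀ x, (orderOf x).Coprime p → x ∈ B) (x : X) : x ∈ B := by
  obtain ⟨k, hk1, hk2⟩ := exists_pow_coprime x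
    ((Nat.Prime.coprime_iff_not_dvd (Fact.out : p.Prime)).2 hN).symm
  have h1 := B.mul_mem (h _ hk1) (B.inv_mem (hNB (quot_pow_eq (N := N) (x := x) hk2)))
  rwa [mul_inv_rev, mul_inv_cancel_left, inv_inv] at h1

theorem conj_conjAut {P : Subgroup X} {a : MulAut P} {h y : X}
    (ha : ∀ x ∈ P, autMap a x = h * x * h⁻¹) (hy : y ∈ Subgroup.normalizer (P : Set X)) {x : X}
    (hx : x ∈ P) :
    autMap (a * conjAut hy * a⁻¹) x = h * y * h⁻¹ * x * (h * y * h⁻¹)⁻¹ := by
  have hinv : autMap a⁻¹ x = h⁻¹ * x * h := by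
    have h' := autMap_inv_apply a hx
    rw [ha _ (autMap_mem _ hx)] at h'
    calc autMap a⁻¹ x = h⁻¹ * (h * autMap a⁻¹ x * h⁻¹) * h := by group
      _ = _ := by rw [h']
  have hx' : h⁻¹ * x * h ∈ P := hinv ▸ autMap_mem _ hx
  rw [autMap_mul _ _ hx, autMap_mul _ _ (autMap_mem _ hx), hinv, autMap_conjAut hy hx',
    ha _ (show conjMap y (h⁻¹ * x * h) ∈ P from (Subgroup.mem_normalizer_iff.1 hy _).1 hx')]
  simp only [conjMap_apply]
  group

end Aut

variable {G : Type u} [Group G] [Finite G] {p : ℕ} [Fact p.Prime] {T : Subgroup G}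

namespace Setup

variable {S : Sylow p G} {E : FusionSystem T} (D : Setup S E)

include D in
theorem isFullyNormalized_R : E.IsFullyNormalized (pCore p G ⊓ T) := by
  refine ⟨inf_le_right, fun Q hQ => ?_⟩
  obtain ⟨f, hf⟩ := Cfsg.Agent.FusionSys.isConj_iff.1 hQ
  have hle : Q ≤ pCore p G ⊓ T := fun y hy => by
    obtain ⟨x, hx, rfl⟩ := hf.exists_preimage hy
    exact D.R_mapsTo hf.isMap hx
  rw [Subgroup.eq_of_le_of_card_ge hle hf.card_eq.le]

include D in
theorem surj {a : MulAut ↥(pCore p G ⊓ T)} (ha : a ∈ E.autGroup (pCore p G ⊓ T)) :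
    ∃ l ∈ D.L, ∀ x ∈ pCore p G ⊓ T, l * x * l⁻¹ = autMap a x := by
  haveI := D.R_normal
  haveI := D.L_normal
  set c : G →* MulAut ↥(pCore p G ⊓ T) := MulAut.conjNormal with hc
  have hcap : ∀ (g : G) (x : G), x ∈ pCore p G ⊓ T → autMap (c g) x = g * x * g⁻¹ := fun g x hx => by
    rw [autMap_apply _ hx]; rfl
  suffices hA : a ∈ D.L.map c by
    obtain ⟨l, hl, rfl⟩ := hA
    exact ⟨l, hl, fun x hx => (hcap l x hx).symm⟩
  have hfa := isFullyAutomized_of_isFullyNormalized D.isPGroup_T D.E_sat D.isFullyNormalized_R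
  set A := E.autGroup (pCore p G ⊓ T)
  obtain ⟨Rs, hRs⟩ : ∃ Rs : Sylow p A,
      (Rs : Subgroup A) = (autInducedBy T (pCore p G ⊓ T)).subgroupOf A := hfa.2
  haveI : Finite A := finite_autGroup E inf_le_right
  set B := (D.L.map c).subgroupOf A with hB
  haveI : B.Normal := ⟨fun b hb y => by
    obtain ⟨l, hl, he⟩ := Subgroup.mem_subgroupOf.1 hb
    obtain ⟨h, hh⟩ := D.exists_conj_of_isMap ((mem_autGroup_iff inf_le_right).1 y.2)
    have hy : (y : MulAut ↥(pCore p G ⊓ T)) = c h := aut_ext fun x hx => by rw [hh x hx, hcap h x hx]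
    refine Subgroup.mem_subgroupOf.2 ⟨h * l * h⁻¹, D.L_normal.conj_mem l hl h, ?_⟩
    rw [map_mul, map_mul, map_inv, he, ← hy]
    rfl⟩
  have hRB : (Rs : Subgroup A) ≤ B := by
    intro y hy
    rw [hRs] at hy
    obtain ⟨t, ht, htn, hte⟩ := mem_autInducedBy.1 (Subgroup.mem_subgroupOf.1 hy)
    refine Subgroup.mem_subgroupOf.2 ⟨t, D.T_le_L ht, ?_⟩
    rw [hte]
    exact aut_ext fun x hx => by rw [hcap t x hx, autMap_conjAut htn hx]; rfl
  have hidx : ¬ p ∣ B.index := fun h => Rs.not_dvd_index (h.trans (Subgroup.index_dvd_of_le hRB))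
  have hx : (⟨a, ha⟩ : A) ∈ (Subgroup.normalizer ((Rs : Subgroup A) : Set A) ⊔ B) :=
    (Sylow.normalizer_sup_eq_top' Rs hRB) ▸ Subgroup.mem_top _
  rw [Subgroup.mem_sup_of_normal_right] at hx
  obtain ⟨n, hn, b, hb, hnb⟩ := hx
  have hnB : n ∈ B := by
    obtain ⟨k, hk1, hk2⟩ := exists_pow_coprime n
      ((Nat.Prime.coprime_iff_not_dvd (Fact.out : p.Prime)).2 hidx).symm
    suffices hnk : n ^ k ∈ B by
      have h1 := B.mul_mem hnk (B.inv_mem (quot_pow_eq (N := B) (x := n) hk2))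
      rwa [mul_inv_rev, mul_inv_cancel_left, inv_inv] at h1
    have hn' : n ^ k ∈ Subgroup.normalizer ((Rs : Subgroup A) : Set A) := Subgroup.pow_mem _ hn k
    generalize n ^ k = n' at hn' hk1 ⊢
    obtain ⟨f, hf, he⟩ := receptive_extend (receptive_of_isFullyNormalized D.isPGroup_T D.E_sat
      D.isFullyNormalized_R) (isIso_autMap inf_le_right n'.2) (N := T) fun t ht => by
        have htn : t ∈ Subgroup.normalizer ((pCore p G ⊓ T : Subgroup G) : Set G) :=
          mem_normalizer_of_maps fun y hy => D.R_normal.conj_mem y hy t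
        refine inExt_autMap ht htn ?_
        have h1 : conjAut htn ∈ autInducedBy T (pCore p G ⊓ T) := mem_autInducedBy.2 ⟨t, ht, htn, rfl⟩
        have h2 : conjAut htn ∈ A := autInducedBy_le_autGroup E inf_le_right h1
        have h3 : (⟨_, h2⟩ : A) ∈ (Rs : Subgroup A) := by rw [hRs]; exact h1
        have h4 := (Subgroup.mem_normalizer_iff.1 hn' _).1 h3
        rw [hRs] at h4
        exact h4
    rw [sup_eq_left.2 inf_le_right] at hf
    obtain ⟨α, hα, hαe⟩ := (IsIso.mk hf (hf.image_eq_of_mapsTo fun x hx => hf.mem_S hx)).exists_aut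
    obtain ⟨k', hk'1, hk'2⟩ := exists_pow_coprime α hk1
    obtain ⟨m, hm, -, hme⟩ := D.lift (Subgroup.pow_mem _ hα k') hk'1
    have hres : ∀ (j : ℕ) (x : G), x ∈ pCore p G ⊓ T →
        autMap (α ^ j) x = autMap ((n' : MulAut ↥(pCore p G ⊓ T)) ^ j) x := by
      intro j
      induction j with
      | zero => intro x hx; rw [pow_zero, pow_zero, autMap_apply _ hx, autMap_apply _ hx.2]; rfl
      | succ j ih =>
        intro x hx
        rw [pow_succ' α, pow_succ' (n' : MulAut ↥(pCore p G ⊓ T)), autMap_mul _ _ hx.2,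
          autMap_mul _ _ hx, ih x hx, hαe _ (autMap_mem _ hx).2, he _ (autMap_mem _ hx)]
    refine Subgroup.mem_subgroupOf.2 ⟨m, hm, aut_ext fun x hx => ?_⟩
    rw [hcap m x hx, hme x hx.2, hres k' x hx,
      pow_eq_self_of_modEq (m := orderOf n') ?_ hk'2]
    rw [← Subgroup.coe_pow, pow_orderOf_eq_one, Subgroup.coe_one]
  exact Subgroup.mem_subgroupOf.1 (hnb ▸ B.mul_mem hnB hb : (⟨a, ha⟩ : A) ∈ B)

include D in
theorem exists_decomp {x : G} (hxS : x ∈ (S : Subgroup G)) (hxL : x ∈ D.L) :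
    ∃ t ∈ T, t⁻¹ * x ∈ D.K := by
  haveI := D.R_normal
  set c : G →* MulAut ↥(pCore p G ⊓ T) := MulAut.conjNormal with hc
  have hcap : ∀ (g : G) (x : G), x ∈ pCore p G ⊓ T → autMap (c g) x = g * x * g⁻¹ := fun g x hx => by
    rw [autMap_apply _ hx]; rfl
  have hfa := isFullyAutomized_of_isFullyNormalized D.isPGroup_T D.E_sat D.isFullyNormalized_R
  set A := E.autGroup (pCore p G ⊓ T)
  obtain ⟨Rs, hRs⟩ : ∃ Rs : Sylow p A,
      (Rs : Subgroup A) = (autInducedBy T (pCore p G ⊓ T)).subgroupOf A := hfa.2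
  set M := (((S : Subgroup G) ⊓ D.L).map c).subgroupOf A
  have hM : IsPGroup p M :=
    ((S.isPGroup'.to_le inf_le_left).map c).comap_of_injective A.subtype A.subtype_injective
  have hRM : (Rs : Subgroup A) ≤ M := by
    intro y hy
    rw [hRs] at hy
    obtain ⟨t, ht, htn, hte⟩ := mem_autInducedBy.1 (Subgroup.mem_subgroupOf.1 hy)
    refine Subgroup.mem_subgroupOf.2 ⟨t, ⟨D.T_le ht, D.T_le_L ht⟩, ?_⟩
    rw [hte]
    exact aut_ext fun x hx => by rw [hcap t x hx, autMap_conjAut htn hx]; rfl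
  have hMR : M = (Rs : Subgroup A) := Rs.is_maximal' hM hRM
  have hcA : c x ∈ A := mem_autGroup_of_isMap (hxL.1.congr fun y hy => by rw [hcap x y hy]; rfl)
  have hmem : (⟨c x, hcA⟩ : A) ∈ M := Subgroup.mem_subgroupOf.2 ⟨x, ⟨hxS, hxL⟩, rfl⟩
  rw [hMR, hRs] at hmem
  obtain ⟨t, ht, htn, hte⟩ := mem_autInducedBy.1 (Subgroup.mem_subgroupOf.1 hmem)
  refine ⟨t, ht, D.L.mul_mem (D.L.inv_mem (D.T_le_L ht)) hxL,
    Subgroup.mem_centralizer_iff.2 fun y hy => ?_⟩
  have h := congrArg (fun b => autMap b y) hte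
  simp only [hcap x y hy, autMap_conjAut htn hy, conjMap_apply] at h
  calc y * (t⁻¹ * x) = t⁻¹ * (t * y * t⁻¹) * x := by group
    _ = t⁻¹ * (x * y * x⁻¹) * x := by rw [h]
    _ = _ := by group

/-- Elements of `K` commute with elements of `L` modulo `R`. -/
theorem commutator_mem_R {l k : G} (hl : l ∈ D.L) (hk : k ∈ D.K) :
    l * k * l⁻¹ * k⁻¹ ∈ pCore p G ⊓ T := hl.2 k (D.K_le_Q hk)

include D in
/-- The subgroup of `L` cut out by the transfer. -/
theorem exists_kernel : ∃ H₀ : Subgroup ↥D.L, H₀.Normal ∧ (∃ k : ℕ, H₀.index = p ^ k) ∧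
    T.subgroupOf D.L ≤ H₀ ∧ ∀ x : ↥D.L, x ∈ H₀ → (x : G) ∈ (S : Subgroup G) → (x : G) ∈ T := by
  haveI := D.L_normal
  obtain ⟨Q, hQ⟩ := Cfsg.Agent.Thompson.exists_sylow_inf_normal S D.L
  have hQe : (Q : Subgroup D.L) = (S : Subgroup G).subgroupOf D.L := by
    apply Subgroup.map_injective D.L.subtype_injective
    rw [hQ, Subgroup.subgroupOf_map_subtype]
  set P := (S : Subgroup G).subgroupOf D.L with hP
  have hPS : ∀ a : P, ((a : D.L) : G) ∈ (S : Subgroup G) := fun a => Subgroup.mem_subgroupOf.1 a.2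
  haveI hN : ((T.subgroupOf D.L).subgroupOf P).Normal := ⟨fun t ht a =>
    D.T_normalized (hPS a) ht⟩
  set π := QuotientGroup.mk' ((T.subgroupOf D.L).subgroupOf P) with hπ
  have hker : ∀ a : P, π a = 1 ↔ ((a : D.L) : G) ∈ T := fun a => QuotientGroup.eq_one_iff a
  have hdec : ∀ a : P, ∃ k : P, ((k : D.L) : G) ∈ D.K ∧ π a = π k := by
    intro a
    obtain ⟨t, ht, hk⟩ := D.exists_decomp (hPS a) (a : D.L).2
    let t' : P := ⟨⟨t, D.T_le_L ht⟩, Subgroup.mem_subgroupOf.2 (D.T_le ht)⟩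
    refine ⟨t'⁻¹ * a, hk, ?_⟩
    rw [map_mul, map_inv, (hker t').2 ht, inv_one, one_mul]
  have hcomm : ∀ u v : P ⧸ (T.subgroupOf D.L).subgroupOf P, u * v = v * u := by
    intro u v
    obtain ⟨a, rfl⟩ := QuotientGroup.mk'_surjective _ u
    obtain ⟨b, rfl⟩ := QuotientGroup.mk'_surjective _ v
    obtain ⟨k, hk, hka⟩ := hdec a
    obtain ⟨k', hk', hkb⟩ := hdec b
    rw [← hπ, hka, hkb]
    have h1 : π (k * k' * k⁻¹ * k'⁻¹) = 1 :=
      (hker _).2 (D.commutator_mem_R (k : D.L).2 hk').2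
    rw [map_mul, map_mul, map_mul, map_inv, map_inv, mul_inv_eq_one, mul_inv_eq_iff_eq_mul] at h1
    exact h1
  letI : CommGroup (P ⧸ (T.subgroupOf D.L).subgroupOf P) :=
    { (inferInstance : Group (P ⧸ (T.subgroupOf D.L).subgroupOf P)) with mul_comm := hcomm }
  haveI : P.FiniteIndex := inferInstance
  let φ : P →* P ⧸ (T.subgroupOf D.L).subgroupOf P := π
  set V := MonoidHom.transfer φ with hV
  haveI : Fintype (D.L ⧸ P) := Fintype.ofFinite _
  have hT1 : ∀ t : D.L, (t : G) ∈ T → V t = 1 := by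
    intro t ht
    classical
    haveI : Fintype (Quotient (MulAction.orbitRel (Subgroup.zpowers t) (D.L ⧸ P))) := Fintype.ofFinite _
    rw [hV, MonoidHom.transfer_eq_prod_quotient_orbitRel_zpowers_quot]
    refine Finset.prod_eq_one fun q _ => (hker _).2 ?_
    have hmem := Subgroup.mem_subgroupOf.1 (QuotientGroup.out_conj_pow_minimalPeriod_mem P t q.out)
    simp only [Subgroup.coe_mul, Subgroup.coe_inv, Subgroup.coe_pow] at hmem ⊢
    have h1 := D.conj_mem_T (Subgroup.pow_mem T ht (Function.minimalPeriod (t • ·) q.out))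
      ((q.out.out : D.L) : G)⁻¹ (by rw [inv_inv]; exact hmem)
    rw [inv_inv] at h1
    exact h1
  haveI := D.K_normal
  have hK1 : ∀ k : P, ((k : D.L) : G) ∈ D.K → V (k : D.L) = φ k ^ P.index := by
    intro k hk
    classical
    haveI : Fintype (Quotient (MulAction.orbitRel (Subgroup.zpowers (k : D.L)) (D.L ⧸ P))) := Fintype.ofFinite _
    have hfix : ∀ q : D.L ⧸ P, Function.minimalPeriod (((k : D.L)) • ·) q = 1 := by
      intro q
      rw [Function.minimalPeriod_eq_one_iff_isFixedPt]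
      induction q using QuotientGroup.induction_on with
      | _ g =>
        show (((k : D.L) * g : D.L) : D.L ⧸ P) = (g : D.L ⧸ P)
        rw [QuotientGroup.eq]
        refine Subgroup.mem_subgroupOf.2 ?_
        simp only [Subgroup.coe_mul, Subgroup.coe_inv, mul_inv_rev]
        refine Q_le S (D.K_le_Q ?_)
        have h := D.K_normal.conj_mem _ (D.K.inv_mem hk) ((g : G))⁻¹
        rwa [inv_inv] at h
    have hsum := Subgroup.index_eq_sum_minimalPeriod P (k : D.L)
    simp only [hfix, Finset.sum_const, Finset.card_univ, smul_eq_mul, mul_one] at hsum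
    rw [hV, MonoidHom.transfer_eq_prod_quotient_orbitRel_zpowers_quot, hsum]
    rw [Finset.prod_eq_pow_card (b := φ k) fun q _ => ?_, Finset.card_univ]
    rw [← mul_inv_eq_one, ← map_inv, ← map_mul]
    refine (hker _).2 ?_
    simp only [Subgroup.coe_mul, Subgroup.coe_inv, Subgroup.coe_pow, hfix, pow_one]
    have h := D.commutator_mem_R (D.L.inv_mem (q.out.out : D.L).2) hk
    rw [inv_inv] at h
    exact h.2
  refine ⟨V.ker, inferInstance, ?_, fun t ht => hT1 t ht, fun x hx hxS => ?_⟩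
  · rw [Subgroup.index_ker]
    exact (((Sylow.isPGroup' Q).of_equiv (MulEquiv.subgroupCongr hQe)).to_quotient
      ((T.subgroupOf D.L).subgroupOf P)).to_subgroup V.range |> IsPGroup.iff_card.1
  · set a : P := ⟨x, Subgroup.mem_subgroupOf.2 hxS⟩ with ha
    obtain ⟨k, hk, hak⟩ := hdec a
    have h1 : ((a⁻¹ * k : P) : D.L).1 ∈ T := (hker _).1 (by rw [map_mul, map_inv, hak, inv_mul_cancel])
    have h2 : V (x : D.L) = φ k ^ P.index := by
      have e : (k : D.L) = x * ((a⁻¹ * k : P) : D.L) := by simp [ha]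
      have := congrArg V e
      rw [map_mul, hT1 _ h1, mul_one, hK1 k hk] at this
      exact this.symm
    rw [MonoidHom.mem_ker.1 hx] at h2
    have hPp : IsPGroup p P := (Sylow.isPGroup' Q).of_equiv (MulEquiv.subgroupCongr hQe)
    obtain ⟨i, hi⟩ := (hPp.to_quotient ((T.subgroupOf D.L).subgroupOf P)) (φ k)
    have hcop : P.index.Coprime p :=
      ((Nat.Prime.coprime_iff_not_dvd (Fact.out : p.Prime)).2 (hQe ▸ Q.not_dvd_index)).symm
    have hd := Nat.dvd_gcd (orderOf_dvd_of_pow_eq_one h2.symm) (orderOf_dvd_of_pow_eq_one hi)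
    rw [(hcop.pow_right i).gcd_eq_one, Nat.dvd_one, orderOf_eq_one_iff] at hd
    exact (hker a).1 (hak.trans hd)

end Setup

end Cfsg.Agent.H59.ModelSub
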