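import Cfsg.Agent.H59.ModelSubGroup

/-!
Existence and uniqueness of the normal subgroup with a given normal fusion subsystem in a model.
-/

set_option autoImplicit false

namespace Cfsg.Agent.H59.ModelSub

open Cfsg Cfsg.FusionSystem Cfsg.Agent.FusionSys

universe u

variable {G : Type u} [Group G] [Finite G] {p : ℕ} [Fact p.Prime] {T : Subgroup G}

namespace Setup

variable {S : Sylow p G} {E : FusionSystem T} (D : Setup S E)

/-- A normal subgroup of `L` with the properties of the one sought. -/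
structure Good (H : Subgroup G) : Prop where
  normal : H.Normal
  le : H ≤ D.L
  T_le : T ≤ H
  inter : (S : Subgroup G) ⊓ H = T
  coprime_mem : ∀ x ∈ D.L, (orderOf x).Coprime p → x ∈ H

include D in
theorem exists_good : ∃ H : Subgroup G, D.Good H := by
  haveI := D.L_normal
  obtain ⟨H₀, hn, ⟨k, hk⟩, hT, hS⟩ := D.exists_kernel
  haveI := hn
  obtain ⟨Q, hQ⟩ := Cfsg.Agent.Thompson.exists_sylow_inf_normal S D.L
  have hQe : (Q : Subgroup D.L) = (S : Subgroup G).subgroupOf D.L := by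
    apply Subgroup.map_injective D.L.subtype_injective
    rw [hQ, Subgroup.subgroupOf_map_subtype]
  have hinf : T.subgroupOf D.L = H₀ ⊓ (Q : Subgroup D.L) := by
    refine le_antisymm (le_inf hT fun t ht => hQe.ge (show (t : G) ∈ (S : Subgroup G) from D.T_le ht))
      fun x hx => hS x hx.1 (hQe.le hx.2)
  have hrel : ¬ p ∣ (T.subgroupOf D.L).relIndex H₀ := by
    rw [hinf, inf_comm, Subgroup.inf_relIndex_right]
    exact not_dvd_relIndex_of_normal _ H₀ Q.not_dvd_index
  refine ⟨H₀.map D.L.subtype, ⟨fun x hx g => ?_⟩, Subgroup.map_subtype_le _,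
    fun t ht => ⟨⟨t, D.T_le_L ht⟩, hT ht, rfl⟩, le_antisymm ?_ (fun t ht => ⟨D.T_le ht, ⟨t, D.T_le_L ht⟩, hT ht, rfl⟩),
    fun x hx hc => ⟨⟨x, hx⟩, mem_of_index_pow hk ?_, rfl⟩⟩
  · obtain ⟨x, hx, rfl⟩ := hx
    obtain ⟨l, hl, n, hn', hg⟩ := exists_mul_normalizing Q g
    rw [hQ] at hn'
    set c : MulAut D.L := MulAut.conjNormal n with hc
    have hidx : (H₀.comap c.toMonoidHom).index = p ^ k := by
      rw [Subgroup.index_comap_of_surjective (f := c.toMonoidHom) _ c.surjective, hk]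
    have hsub : H₀ ≤ H₀.comap c.toMonoidHom := by
      refine le_of_index_pow hidx ?_ hrel
      intro t ht
      refine hT ?_
      show n * (t : G) * n⁻¹ ∈ T
      exact D.conj_mem_T ht n ((Subgroup.mem_normalizer_iff.1 hn' _).1 ⟨D.T_le ht, t.2⟩).1
    have h1 : c x ∈ H₀ := hsub hx
    refine ⟨⟨l, hl⟩ * c x * ⟨l, hl⟩⁻¹, hn.conj_mem _ h1 _, ?_⟩
    rw [hg]
    show l * (n * (x : G) * n⁻¹) * l⁻¹ = l * n * (x : G) * (l * n)⁻¹
    group
  · rintro _ ⟨hxS, x, hx, rfl⟩
    exact hS x hx hxS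
  · rwa [← Subgroup.orderOf_coe]

variable {D}

theorem Good.sylow {H : Subgroup G} (hH : D.Good H) :
    ∃ R : Sylow p H, (R : Subgroup H) = T.subgroupOf H := by
  haveI := hH.normal
  obtain ⟨R, hR⟩ := Cfsg.Agent.Thompson.exists_sylow_inf_normal S H
  refine ⟨R, Subgroup.map_injective H.subtype_injective ?_⟩
  rw [hR, hH.inter, Subgroup.subgroupOf_map_subtype, inf_eq_left.2 hH.T_le]

theorem Good.saturated {H : Subgroup G} (hH : D.Good H) :
    (fusionSystemOfSubgroup H T hH.T_le).IsSaturated p := by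
  haveI := hH.normal
  have h := Cfsg.Agent.S5118.result p S H
  have gen : ∀ (U : Subgroup G) (hUH : U ≤ H), (S : Subgroup G) ⊓ H = U →
      (fusionSystemOfSubgroup H U hUH).IsSaturated p := by
    rintro U hUH rfl
    exact h.1.1
  exact gen T hH.T_le hH.inter

theorem Good.sub_le {H : Subgroup G} (hH : D.Good H) : E ≤ fusionSystemOfSubgroup H T hH.T_le := by
  haveI : Finite T := inferInstance
  refine le_of_autGroup_fullyNormalized D.isPGroup_T D.E_sat fun P hP big => ?_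
  set B := (fusionSystemOfSubgroup H T hH.T_le).autGroup P
  have hconj : ∀ a ∈ E.autGroup P, ∀ c ∈ autInducedBy T P, a * c * a⁻¹ ∈ B := by
    intro a ha c hc
    obtain ⟨t, ht, htn, rfl⟩ := mem_autInducedBy.1 hc
    obtain ⟨h, hh⟩ := D.exists_conj_of_isMap ((mem_autGroup_iff hP.1).1 ha)
    refine mem_autGroup_of_isMap (isMap_subgroup_iff.2 ⟨hP.1, h * t * h⁻¹,
      hH.normal.conj_mem t (hH.T_le ht) h, fun x hx => ?_⟩)
    rw [← conj_conjAut hh htn hx]
    exact ⟨hP.1 (autMap_mem _ hx), rfl⟩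
  rcases hP.1.eq_or_lt with rfl | hlt
  · intro a ha
    haveI : Finite (E.autGroup P) := finite_autGroup E le_rfl
    have hfa := isFullyAutomized_of_isFullyNormalized D.isPGroup_T D.E_sat hP
    rw [isFullyAutomized_iff D.isPGroup_T] at hfa
    haveI : ((autInducedBy P P).subgroupOf (E.autGroup P)).Normal := ⟨fun n hn y => by
      obtain ⟨t, ht, htn, hte⟩ := mem_autInducedBy.1 (Subgroup.mem_subgroupOf.1 hn)
      obtain ⟨h, hh⟩ := D.exists_conj_of_isMap ((mem_autGroup_iff le_rfl).1 y.2)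
      have hht : h * t * h⁻¹ ∈ P := hh t ht ▸ autMap_mem _ ht
      refine Subgroup.mem_subgroupOf.2 (mem_autInducedBy.2 ⟨_, hht, Subgroup.le_normalizer hht,
        aut_ext fun x hx => ?_⟩)
      show autMap ((y : MulAut P) * (n : MulAut P) * (y : MulAut P)⁻¹) x = _
      rw [hte, conj_conjAut hh htn hx, autMap_conjAut _ hx]
      rfl⟩
    have h := mem_of_coprime_elements (N := (autInducedBy P P).subgroupOf (E.autGroup P))
      (B.subgroupOf (E.autGroup P))
      (fun n hn => autInducedBy_le_autGroup _ le_rfl hn) hfa.2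
      (fun y hy => ?_) ⟨a, ha⟩
    · exact h
    · obtain ⟨m, hm, hmc, hme⟩ := D.lift y.2 (by rwa [Subgroup.orderOf_coe])
      refine mem_autGroup_of_isMap (isMap_subgroup_iff.2 ⟨le_rfl, m, hH.coprime_mem m hm hmc,
        fun x hx => ?_⟩)
      rw [hme x hx]
      exact ⟨autMap_mem _ hx, rfl⟩
  · refine autGroup_le_of_conj_ext D.isPGroup_T D.E_sat hP hlt B hconj fun a _ W f hW hf he => ?_
    haveI : Finite W := finite_of_le hf.le
    have hcard : Nat.card P < Nat.card W := by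
      by_contra hge
      exact hW.ne (Subgroup.eq_of_le_of_card_ge hW.le (not_lt.1 hge))
    exact mem_autGroup_of_isMap (((big W f hcard hf).mono hW.le).congr fun x hx => (he x hx).symm)

theorem Good.le_sub {H : Subgroup G} (hH : D.Good H) : fusionSystemOfSubgroup H T hH.T_le ≤ E := by
  have hEle := le_iff_isMap.1 hH.sub_le
  refine le_of_autGroup_fullyNormalized D.isPGroup_T hH.saturated fun P hP big => ?_
  rcases hP.1.eq_or_lt with rfl | hlt
  · intro a ha
    obtain ⟨-, h, hh, hhe⟩ := isMap_subgroup_iff.1 ((mem_autGroup_iff le_rfl).1 ha)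
    have hR : pCore p G ⊓ P ≤ P := inf_le_right
    have hf : IsIso E (pCore p G ⊓ P) (pCore p G ⊓ P) (conjMap h) := by
      refine ⟨(hH.le hh).1, ?_⟩
      ext y
      constructor
      · rintro ⟨x, hx, rfl⟩
        exact D.R_normal.conj_mem x hx h
      · intro hy
        refine ⟨h⁻¹ * y * h, by simpa using D.R_normal.conj_mem y hy h⁻¹, ?_⟩
        show h * (h⁻¹ * y * h) * h⁻¹ = y
        group
    obtain ⟨ψ, hψ, hψe⟩ := receptive_extend (receptive_of_isFullyNormalized D.isPGroup_T D.E_sat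
      D.isFullyNormalized_R) hf (N := P) fun t ht => by
        refine ⟨ht, mem_normalizer_of_maps fun y hy => D.R_normal.conj_mem y hy t,
          h * t * h⁻¹, (hhe t ht).1, fun y _ => ?_⟩
        show h * (t * y * t⁻¹) * h⁻¹ = h * t * h⁻¹ * (h * y * h⁻¹) * (h * t * h⁻¹)⁻¹
        group
    rw [sup_eq_left.2 hR] at hψ
    obtain ⟨-, h', hh', hhe'⟩ := isMap_subgroup_iff.1 (hEle P ψ hψ)
    have hz : h'⁻¹ * h ∈ D.K := by
      refine ⟨hH.le (H.mul_mem (H.inv_mem hh') hh), Subgroup.mem_centralizer_iff.2 fun y hy => ?_⟩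
      have e : h' * y * h'⁻¹ = h * y * h⁻¹ := (hhe' y (hR hy)).2.symm.trans (hψe y hy)
      calc y * (h'⁻¹ * h) = h'⁻¹ * (h' * y * h'⁻¹) * h := by group
        _ = h'⁻¹ * (h * y * h⁻¹) * h := by rw [e]
        _ = _ := by group
    have hzT : h'⁻¹ * h ∈ P :=
      hH.inter.le ⟨Q_le S (D.K_le_Q hz), H.mul_mem (H.inv_mem hh') hh⟩
    refine mem_autGroup_of_isMap (((isMap_conj E le_rfl hzT).comp hψ fun x hx => ?_).congr fun x hx => ?_)
    · exact P.mul_mem (P.mul_mem hzT hx) (P.inv_mem hzT)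
    · have hx' : h'⁻¹ * h * x * (h'⁻¹ * h)⁻¹ ∈ P := P.mul_mem (P.mul_mem hzT hx) (P.inv_mem hzT)
      show autMap a x = ψ (h'⁻¹ * h * x * (h'⁻¹ * h)⁻¹)
      rw [(hhe' _ hx').2, (hhe x hx).2]
      group
  · refine autGroup_le_of_conj_ext D.isPGroup_T hH.saturated hP hlt (E.autGroup P)
      (fun a ha c hc => ?_) fun a _ W f hW hf he => ?_
    · obtain ⟨t, ht, htn, rfl⟩ := mem_autInducedBy.1 hc
      obtain ⟨-, h, -, hhe⟩ := isMap_subgroup_iff.1 ((mem_autGroup_iff hP.1).1 ha)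
      have hPS : P ≤ (S : Subgroup G) := hP.1.trans D.T_le
      have hθ : IsIso (groupFusionSystem (S : Subgroup G)) P P (autMap a) :=
        ⟨isMap_group_iff.2 ⟨hPS, h, fun x hx => ⟨(hhe x hx).2 ▸ hPS (autMap_mem a hx), (hhe x hx).2⟩⟩,
          image_autMap a⟩
      obtain ⟨f, hf, hfe⟩ := isMap_transport D.inv hP.1 hθ (isMap_conj E hP.1 ht)
        fun x hx => (Subgroup.mem_normalizer_iff.1 htn x).1 hx
      refine mem_autGroup_of_isMap (hf.congr fun y hy => ?_)
      obtain ⟨x, hx, rfl⟩ := hθ.exists_preimage hy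
      rw [hfe x hx, ← autMap_mul _ a hx, inv_mul_cancel_right, autMap_mul _ _ hx, autMap_conjAut htn hx]
    · haveI : Finite W := finite_of_le hf.le
      have hcard : Nat.card P < Nat.card W := by
        by_contra hge
        exact hW.ne (Subgroup.eq_of_le_of_card_ge hW.le (not_lt.1 hge))
      exact mem_autGroup_of_isMap (((big W f hcard hf).mono hW.le).congr fun x hx => (he x hx).symm)

theorem Good.eq {H H' : Subgroup G} (hH : D.Good H) (hH' : H'.Normal) (hT : T ≤ H')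
    (hR : ∃ R : Sylow p H', (R : Subgroup H') = T.subgroupOf H')
    (hE : ∀ P : Subgroup G, E.Hom P = (fusionSystemOfSubgroup H' T hT).Hom P) : H' = H := by
  haveI := hH'
  haveI := hH.normal
  haveI := D.L_normal
  haveI := D.K_normal
  obtain ⟨R', hR'⟩ := hR
  obtain ⟨R, hRe⟩ := hH.sylow
  have hEeq : E = fusionSystemOfSubgroup H' T hT := ext_hom hE
  have hQH : pCore p G ⊓ H' ≤ T := by
    have h : (pCore p G).subgroupOf H' ≤ (R' : Subgroup H') :=
      isPGroup_le_sylow (Cores.pCore_isPGroup.comap_of_injective H'.subtype H'.subtype_injective) R'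
    intro x hx
    have := h (show (⟨x, hx.2⟩ : H') ∈ (pCore p G).subgroupOf H' from hx.1)
    rw [hR'] at this
    exact this
  have hle : H' ≤ D.L := by
    intro h hh
    refine ⟨?_, fun q hq => ?_⟩
    · rw [hEeq]
      exact isMap_subgroup_iff.2 ⟨inf_le_right, h, hh,
        fun x hx => ⟨(D.R_normal.conj_mem x hx h).2, rfl⟩⟩
    · have hm : h * q * h⁻¹ * q⁻¹ ∈ pCore p G ⊓ H' := by
        refine ⟨(pCore p G).mul_mem (conj_mem_Q hq h) ((pCore p G).inv_mem hq), ?_⟩
        have e : h * q * h⁻¹ * q⁻¹ = h * (q * h⁻¹ * q⁻¹) := by group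
        rw [e]
        exact H'.mul_mem hh (hH'.conj_mem _ (H'.inv_mem hh) q)
      exact ⟨hm.1, hQH hm⟩
  have hsup : D.L ≤ H' ⊔ D.K := by
    intro l hl
    have hl1 : IsMap (fusionSystemOfSubgroup H' T hT) (pCore p G ⊓ T) (conjMap l) := hEeq ▸ hl.1
    obtain ⟨-, h, hh, hhe⟩ := isMap_subgroup_iff.1 hl1
    have hk : h⁻¹ * l ∈ D.K := by
      refine ⟨D.L.mul_mem (D.L.inv_mem (hle hh)) hl, Subgroup.mem_centralizer_iff.2 fun y hy => ?_⟩
      have e : l * y * l⁻¹ = h * y * h⁻¹ := (hhe y hy).2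
      calc y * (h⁻¹ * l) = h⁻¹ * (h * y * h⁻¹) * l := by group
        _ = h⁻¹ * (l * y * l⁻¹) * l := by rw [e]
        _ = _ := by group
    rw [show l = h * (h⁻¹ * l) by group]
    exact Subgroup.mul_mem _ (Subgroup.mem_sup_left hh) (Subgroup.mem_sup_right hk)
  have hKp := D.K_isPGroup
  have hKL : H' ⊔ D.K = D.L := le_antisymm (sup_le hle inf_le_left) hsup
  obtain ⟨i, hi⟩ : ∃ i : ℕ, (H'.subgroupOf D.L).index = p ^ i := by
    show ∃ i : ℕ, H'.relIndex D.L = p ^ i
    rw [← hKL, relIndex_sup_of_normal]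
    obtain ⟨j, hj⟩ := IsPGroup.iff_card.1 hKp
    obtain ⟨i, -, hi⟩ := (Nat.dvd_prime_pow (Fact.out : p.Prime)).1 (hj ▸ H'.relIndex_dvd_card D.K)
    exact ⟨i, hi⟩
  have hrel : ∀ (U : Subgroup G), U ≤ D.L → (∃ R : Sylow p U, (R : Subgroup U) = T.subgroupOf U) →
      ¬ p ∣ (T.subgroupOf D.L).relIndex (U.subgroupOf D.L) := by
    rintro U hU ⟨RU, hRU⟩
    rw [Subgroup.relIndex_subgroupOf hU]
    show ¬ p ∣ (T.subgroupOf U).index
    rw [← hRU]
    exact RU.not_dvd_index
  refine le_antisymm (fun x hx => ?_) fun x hx => ?_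
  · have h : ∀ y : H', (orderOf y).Coprime p → y ∈ H.subgroupOf H' := fun y hy =>
      hH.coprime_mem y (hle y.2) (by rwa [Subgroup.orderOf_coe])
    obtain ⟨j, hj⟩ : ∃ j : ℕ, (H.subgroupOf D.L).index = p ^ j := by
      have hq : IsPGroup p (D.L ⧸ H.subgroupOf D.L) := by
        intro y
        obtain ⟨z, rfl⟩ := QuotientGroup.mk_surjective y
        obtain ⟨a, b, hb, hab⟩ := Nat.exists_eq_pow_mul_and_not_dvd (orderOf_pos z).ne' p
          (Fact.out : p.Prime).ne_one
        refine ⟨a, ?_⟩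
        rw [← QuotientGroup.mk_pow, QuotientGroup.eq_one_iff]
        refine hH.coprime_mem _ (z ^ p ^ a).2 ?_
        rw [Subgroup.coe_subtype, Subgroup.orderOf_coe, orderOf_pow' _ (pow_ne_zero a (Fact.out : p.Prime).ne_zero), hab,
          Nat.gcd_eq_right (dvd_mul_right _ _), Nat.mul_div_cancel_left _
            (pow_pos (Fact.out : p.Prime).pos a)]
        exact ((Nat.Prime.coprime_iff_not_dvd (Fact.out : p.Prime)).2 hb).symm
      exact IsPGroup.iff_card.1 hq
    exact le_of_index_pow hj (fun t ht => hH.T_le ht) (hrel H' hle ⟨R', hR'⟩)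
      (show (⟨x, hle hx⟩ : D.L) ∈ H'.subgroupOf D.L from hx)
  · exact le_of_index_pow hi (fun t ht => hT ht) (hrel H hH.le ⟨R, hRe⟩)
      (show (⟨x, hH.le hx⟩ : D.L) ∈ H.subgroupOf D.L from hx)

end Setup

theorem main (S : Sylow p G) (hG : Subgroup.centralizer ((pCore p G : Subgroup G) : Set G) ≤ pCore p G)
    (E : FusionSystem T) (hE : E.IsNormalIn (groupFusionSystem (S : Subgroup G)) p) :
    ∃ H : Subgroup G, (∃ hTH : T ≤ H, H.Normal ∧ (∃ R : Sylow p H, (R : Subgroup H) = T.subgroupOf H) ∧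
        ∀ P : Subgroup G, E.Hom P = (fusionSystemOfSubgroup H T hTH).Hom P) ∧
      ∀ H' : Subgroup G, (∃ hTH' : T ≤ H', H'.Normal ∧
        (∃ R : Sylow p H', (R : Subgroup H') = T.subgroupOf H') ∧
        ∀ P : Subgroup G, E.Hom P = (fusionSystemOfSubgroup H' T hTH').Hom P) → H' = H := by
  have D : Setup S E := ⟨hG, hE⟩
  obtain ⟨H, hH⟩ := D.exists_good
  refine ⟨H, ⟨hH.T_le, hH.normal, hH.sylow, fun P => Set.Subset.antisymm (hH.sub_le P) (hH.le_sub P)⟩,
    fun H' h => ?_⟩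
  obtain ⟨hT, hn, hR, hhom⟩ := h
  exact hH.eq hn hT hR hhom

end Cfsg.Agent.H59.ModelSub
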