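import Cfsg.Agent.H59.TransportNormal
import Cfsg.Agent.FusionSys.Alperin
import Cfsg.Agent.Thompson.ZJ

/-!
Tools for the correspondence between normal subsystems of a model and normal subgroups.
-/

set_option autoImplicit false

namespace Cfsg.Agent.H59.ModelSub

open Cfsg Cfsg.FusionSystem Cfsg.Agent.FusionSys

section Elementary

variable {X : Type*} [Group X] {p : ℕ} [Fact p.Prime]

theorem exists_pow_coprime [Finite X] (x : X) {m : ℕ} (hm : m.Coprime p) :
    ∃ k : ℕ, (orderOf (x ^ k)).Coprime p ∧ k ≡ 1 [MOD m] := by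
  have hp : p.Prime := Fact.out
  have hm0 : 0 < m := by
    rcases Nat.eq_zero_or_pos m with rfl | h
    · rw [Nat.coprime_zero_left] at hm; exact absurd hm hp.ne_one
    · exact h
  set a := (orderOf x).factorization p
  set b := orderOf x / p ^ a
  have hb : b.Coprime p := (Nat.coprime_ordCompl hp (orderOf_pos x).ne').symm
  have hab : p ^ a * b = orderOf x := Nat.mul_div_cancel' (Nat.ordProj_dvd _ _)
  refine ⟨p ^ (a * Nat.totient m), hb.coprime_dvd_left (orderOf_dvd_of_pow_eq_one ?_), ?_⟩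
  · rw [← pow_mul, ← orderOf_dvd_iff_pow_eq_one, ← hab]
    exact Nat.mul_dvd_mul_right (pow_dvd_pow p
      (Nat.le_mul_of_pos_right a (Nat.totient_pos.2 hm0))) b
  · rw [mul_comm, pow_mul]
    simpa using (Nat.ModEq.pow_totient hm.symm).pow a

theorem pow_eq_self_of_modEq {x : X} {m k : ℕ} (hx : x ^ m = 1) (hk : k ≡ 1 [MOD m]) : x ^ k = x := by
  have h : k ≡ 1 [MOD orderOf x] := hk.of_dvd (orderOf_dvd_of_pow_eq_one hx)
  conv_rhs => rw [← pow_one x]
  exact pow_eq_pow_iff_modEq.2 h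

theorem mem_of_pow_coprime [Finite X] {R : Subgroup X} {x : X} {n : ℕ}
    (h : n.Coprime (orderOf x)) (hx : x ^ n ∈ R) : x ∈ R := by
  obtain ⟨m, hm⟩ := exists_pow_eq_self_of_coprime h
  exact hm ▸ pow_mem hx m

theorem isPGroup_le_sylow [Finite X] {N : Subgroup X} [N.Normal] (hN : IsPGroup p N) (P : Sylow p X) :
    N ≤ P := by
  have h := P.is_maximal' (P.isPGroup'.to_sup_of_normal_right hN) le_sup_left
  exact le_sup_right.trans h.le

/-- A normal subgroup of index a power of `p` contains the elements of order prime to `p`. -/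
theorem mem_of_index_pow [Finite X] {N : Subgroup X} [N.Normal] {k : ℕ} (hN : N.index = p ^ k) {x : X}
    (hx : (orderOf x).Coprime p) : x ∈ N := by
  refine mem_of_pow_coprime (n := N.index) ?_ (Subgroup.pow_index_mem N x)
  rw [hN]
  exact (hx.symm.pow_left k)

/-- Comparison of two subgroups through a common subgroup of index prime to `p`. -/
theorem le_of_index_pow [Finite X] {A B T : Subgroup X} [B.Normal] {k : ℕ} (hB : B.index = p ^ k)
    (hTB : T ≤ B) (hT : ¬ p ∣ T.relIndex A) : A ≤ B := by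
  have h1 : B.relIndex A ∣ B.index := Subgroup.relIndex_dvd_index_of_normal B A
  rw [hB, Nat.dvd_prime_pow Fact.out] at h1
  obtain ⟨i, -, hi⟩ := h1
  have h2 : B.relIndex A ∣ T.relIndex A := Subgroup.relIndex_dvd_of_le_left A hTB
  rcases Nat.eq_zero_or_pos i with rfl | hpos
  · exact Subgroup.relIndex_eq_one.1 (by simpa using hi)
  · exact absurd ((dvd_pow_self p hpos.ne').trans (hi ▸ h2)) hT

theorem isPGroup_of_coprime_trivial [Finite X] {K : Subgroup X}
    (h : ∀ x ∈ K, (orderOf x).Coprime p → x = 1) : IsPGroup p K := by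
  intro x
  have hp : p.Prime := Fact.out
  set a := (orderOf (x : X)).factorization p
  refine ⟨a, Subtype.ext ?_⟩
  show (x : X) ^ p ^ a = 1
  refine h _ (pow_mem x.2 _) ?_
  rw [orderOf_pow' _ (pow_ne_zero a hp.ne_zero), Nat.gcd_eq_right (Nat.ordProj_dvd _ _)]
  exact (Nat.coprime_ordCompl hp (orderOf_pos _).ne').symm

/-- If `c` moves `q` by an element it fixes, then its powers move `q` by the powers. -/
theorem conj_pow_mul {m q r : X} (h : m * q * m⁻¹ = r * q) (hr : m * r * m⁻¹ = r) (n : ℕ) :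
    m ^ n * q * (m ^ n)⁻¹ = r ^ n * q := by
  induction n with
  | zero => simp
  | succ n ih =>
    have hc : m * r ^ n * m⁻¹ = r ^ n := by rw [← conj_pow, hr]
    calc m ^ (n + 1) * q * (m ^ (n + 1))⁻¹ = m * (m ^ n * q * (m ^ n)⁻¹) * m⁻¹ := by
          rw [pow_succ' m n]; group
      _ = m * r ^ n * m⁻¹ * (m * q * m⁻¹) := by rw [ih]; group
      _ = r ^ (n + 1) * q := by rw [hc, h, pow_succ, mul_assoc]

/-- In a finite group the Sylow `p`-subgroups of a normal subgroup are normalized to a supplement. -/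
theorem exists_mul_normalizing [Finite X] {N : Subgroup X} [N.Normal] (P : Sylow p N) (x : X) :
    ∃ n ∈ N, ∃ y ∈ Subgroup.normalizer (((P : Subgroup N).map N.subtype : Subgroup X) : Set X),
      x = n * y := by
  have h := Sylow.normalizer_sup_eq_top P
  have hx : x ∈ ((Subgroup.normalizer (((P : Subgroup N).map N.subtype : Subgroup X) : Set X)) ⊔ N) :=
    h ▸ Subgroup.mem_top x
  rw [sup_comm, Subgroup.mem_sup_of_normal_left] at hx
  obtain ⟨n, hn, y, hy, rfl⟩ := hx
  exact ⟨n, hn, y, hy, rfl⟩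

end Elementary

variable {Ω : Type*} [Group Ω] {S T : Subgroup Ω} {F : FusionSystem S} {E : FusionSystem T}

/-- Maps of an invariant subsystem moved by an isomorphism of the ambient system. -/
theorem isMap_transport (hinv : E.IsInvariantIn F) {P Q : Subgroup Ω} {f θ : Ω → Ω} (hP : P ≤ T)
    (hθ : IsIso F P Q θ) (hf : IsMap E P f) (hfP : ∀ x ∈ P, f x ∈ P) :
    ∃ g, IsMap E Q g ∧ ∀ x ∈ P, g (θ x) = θ (f x) := by
  obtain ⟨-, -, h3, h4⟩ := Transp.isInvariant_iff_isMap.1 hinv
  obtain ⟨α, hα, φ, hφ, he⟩ := h4 P θ hP hθ.isMap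
  obtain ⟨ψ, hψ, hψ1⟩ := hφ.exists_inv
  have hψP : ∀ y ∈ imgSub φ P, ψ y ∈ P := fun y hy => by
    obtain ⟨x, hx, rfl⟩ := hφ.mem_imgSub.1 hy
    rw [hψ1 x hx]; exact hx
  have h1 : IsMap E (imgSub φ P) (φ ∘ f ∘ ψ) :=
    (hψ.comp hf hψP).comp hφ fun y hy => hfP _ (hψP y hy)
  have h2 := h3 _ _ h1 α hα
  have hinvα : ∀ x ∈ P, autMap α⁻¹ (θ x) = φ x := fun x hx => by
    rw [he x hx, ← autMap_mul _ _ (hφ.mem_S hx), inv_mul_cancel, autMap_apply _ (hφ.mem_S hx)]
    rfl
  refine ⟨_, h2.mono (fun y hy => ?_), fun x hx => ?_⟩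
  · obtain ⟨x, hx, rfl⟩ := hθ.exists_preimage hy
    rw [he x hx]
    exact Subgroup.subset_closure ⟨φ x, hφ.mem_imgSub.2 ⟨x, hx, rfl⟩, rfl⟩
  · show autMap α (φ (f (ψ (autMap α⁻¹ (θ x))))) = θ (f x)
    rw [hinvα x hx, hψ1 x hx, he _ (hfP x hx)]

variable [Finite T] {p : ℕ} [Fact p.Prime]

/-- Generation of the automorphisms of a fully normalized proper subgroup: conjugates of those induced by
the base group and extendable ones. -/
theorem autGroup_le_of_conj_ext (hT : IsPGroup p T) (hE : E.IsSaturated p) {P : Subgroup Ω}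
    (hP : E.IsFullyNormalized P) (hPT : P < T) (B : Subgroup (MulAut P))
    (hconj : ∀ a ∈ E.autGroup P, ∀ c ∈ autInducedBy T P, a * c * a⁻¹ ∈ B)
    (hext : ∀ a ∈ E.autGroup P, ∀ (W : Subgroup Ω) (f : Ω → Ω), P < W → IsMap E W f →
      (∀ x ∈ P, f x = autMap a x) → a ∈ B) : E.autGroup P ≤ B := by
  haveI := finite_autGroup E hP.1
  have hfa := isFullyAutomized_of_isFullyNormalized hT hE hP
  set A := E.autGroup P with hA
  obtain ⟨R, hR⟩ : ∃ R : Sylow p A, (R : Subgroup A) = (autInducedBy T P).subgroupOf A := hfa.2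
  set N := Subgroup.normalClosure ((R : Subgroup A) : Set A) with hN
  have hRN : (R : Subgroup A) ≤ N := Subgroup.le_normalClosure
  have hNB : N ≤ B.subgroupOf A := by
    refine (Subgroup.closure_le _).2 ?_
    intro x hx
    obtain ⟨y, hy, hc⟩ := Group.mem_conjugatesOfSet_iff.1 hx
    obtain ⟨a, rfl⟩ := isConj_iff.1 hc
    have hy' : (y : MulAut P) ∈ autInducedBy T P := by
      have : y ∈ (autInducedBy T P).subgroupOf A := hR ▸ hy
      exact this
    exact hconj a a.2 y hy'
  intro a ha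
  have h := Sylow.normalizer_sup_eq_top' R hRN
  have hx : (⟨a, ha⟩ : A) ∈ (Subgroup.normalizer ((R : Subgroup A) : Set A) ⊔ N) :=
    h ▸ Subgroup.mem_top _
  rw [Subgroup.mem_sup_of_normal_right] at hx
  obtain ⟨y, hy, n, hn, hyn⟩ := hx
  have hyB : (y : MulAut P) ∈ B := by
    obtain ⟨g, hg, he⟩ := receptive_extend (receptive_of_isFullyNormalized hT hE hP)
      (isIso_autMap hP.1 y.2) (N := normalizerIn T P) fun x hx => by
        refine inExt_autMap hx.1 hx.2 ?_
        have hc : conjAut hx.2 ∈ autInducedBy T P := mem_autInducedBy.2 ⟨x, hx.1, hx.2, rfl⟩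
        have hcA : conjAut hx.2 ∈ A := autInducedBy_le_autGroup E hP.1 hc
        have h1 : (⟨_, hcA⟩ : A) ∈ (R : Subgroup A) := by rw [hR]; exact hc
        have h2 := (Subgroup.mem_normalizer_iff.1 hy _).1 h1
        rw [hR] at h2
        exact h2
    rw [sup_eq_left.2 (le_normalizerIn_self hP.1)] at hg
    exact hext _ y.2 _ g (lt_normalizerIn hT hPT) hg he
  have : a = (y : MulAut P) * (n : MulAut P) := (congrArg Subtype.val hyn).symm
  rw [this]
  exact mul_mem hyB (hNB hn)

end Cfsg.Agent.H59.ModelSub
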