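import Cfsg.Prelude.Def_LocalEven
import Cfsg.Agent.H59.SL2Word
import Cfsg.Agent.H60.Basic

/-!
# Coordinates on a natural SL₂ module
-/

set_option autoImplicit false
set_option linter.unusedSectionVars false

namespace Cfsg.Agent.H59

open Subgroup Cfsg.Agent Matrix
open scoped commutatorElement

variable {G : Type*} [Group G] [Finite G] {p : ℕ} [Fact p.Prime] {F : Type*} [Field F] [Fintype F]

local notation "S2" => Matrix.SpecialLinearGroup (Fin 2) F
local notation "M2" => Matrix (Fin 2) (Fin 2) F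

/-- Coordinates in which a given Sylow subgroup is upper unitriangular. -/
structure Coords (F : Type*) [Field F] (V L T : Subgroup G) where
  ρ : L →* Matrix.SpecialLinearGroup (Fin 2) F
  inj : Function.Injective ρ
  surj : Function.Surjective ρ
  e : V ≃ (Fin 2 → F)
  e_mul : ∀ v w : V, e (v * w) = e v + e w
  e_conj : ∀ (l : L) (v : V) (h : (l : G) * v * (l : G)⁻¹ ∈ V),
    e ⟨_, h⟩ = ((ρ l : Matrix.SpecialLinearGroup (Fin 2) F) : Matrix (Fin 2) (Fin 2) F).mulVec (e v)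
  memT : ∀ l : L, (l : G) ∈ T ↔ ((ρ l : Matrix.SpecialLinearGroup (Fin 2) F) : Matrix (Fin 2) (Fin 2) F) 1 0 = 0 ∧
    ((ρ l : Matrix.SpecialLinearGroup (Fin 2) F) : Matrix (Fin 2) (Fin 2) F) 0 0 = 1 ∧
    ((ρ l : Matrix.SpecialLinearGroup (Fin 2) F) : Matrix (Fin 2) (Fin 2) F) 1 1 = 1
  Tle : T ≤ L
  norm : L ≤ normalizer (V : Set G)

theorem exists_coords {n : ℕ} (hF : Fintype.card F = p ^ n) {V L : Subgroup G}
    (hnat : Cfsg.IsNaturalSL2Module F V L) (hf : L ⊓ centralizer (V : Set G) = ⊥) (S : Sylow p ↥L) :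
    Nonempty (Coords F V L ((S : Subgroup L).map L.subtype)) := by
  obtain ⟨hchar, -⟩ := charP_of_card_eq hF
  obtain ⟨hn, ρ, ψ, hρ, hker, hψ⟩ := hnat
  have hinj : Function.Injective ρ := by
    rw [← MonoidHom.ker_eq_bot_iff, hker, subgroupOf_eq_bot, disjoint_iff, inf_comm]
    exact hf
  obtain ⟨c, hc⟩ := MulAction.exists_smul_eq S2 (Linear.unitriSylowSL 2 F p)
    (S.mapSurjective hρ)
  have hcc : (c : M2) * ((c⁻¹ : S2) : M2) = 1 := by
    rw [← Matrix.SpecialLinearGroup.coe_mul, mul_inv_cancel]; rfl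
  have hcc' : ((c⁻¹ : S2) : M2) * (c : M2) = 1 := by
    rw [← Matrix.SpecialLinearGroup.coe_mul, inv_mul_cancel]; rfl
  let e : V ≃ (Fin 2 → F) :=
    { toFun := fun v => ((c⁻¹ : S2) : M2).mulVec (ψ (Additive.ofMul v))
      invFun := fun x => Additive.toMul (ψ.symm ((c : M2).mulVec x))
      left_inv := fun v => by
        simp only [Matrix.mulVec_mulVec, hcc, Matrix.one_mulVec, AddEquiv.symm_apply_apply, toMul_ofMul]
      right_inv := fun x => by
        simp only [ofMul_toMul, AddEquiv.apply_symm_apply, Matrix.mulVec_mulVec, hcc', Matrix.one_mulVec] }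
  refine ⟨{ ρ := (MulAut.conj c⁻¹).toMonoidHom.comp ρ
            inj := (MulAut.conj c⁻¹).injective.comp hinj
            surj := (MulAut.conj c⁻¹).surjective.comp hρ
            e := e
            e_mul := fun v w => by
              simp only [e, Equiv.coe_fn_mk, ofMul_mul, map_add, Matrix.mulVec_add]
            e_conj := fun l v h => ?_
            memT := fun l => ?_
            Tle := map_subtype_le _
            norm := hn }⟩
  · obtain ⟨w, hw, hwψ⟩ := hψ l v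
    rw [show (⟨_, h⟩ : V) = w from Subtype.ext hw.symm]
    change ((c⁻¹ : S2) : M2).mulVec (ψ (Additive.ofMul w)) =
      ((c⁻¹ * ρ l * c⁻¹⁻¹ : S2) : M2).mulVec (((c⁻¹ : S2) : M2).mulVec (ψ (Additive.ofMul v)))
    rw [hwψ, Matrix.mulVec_mulVec, Matrix.mulVec_mulVec, ← Matrix.SpecialLinearGroup.coe_mul,
      ← Matrix.SpecialLinearGroup.coe_mul, inv_mul_cancel_right]
  · have h1 : (l : G) ∈ (S : Subgroup L).map L.subtype ↔ l ∈ (S : Subgroup L) :=
      mem_map_iff_mem L.subtype_injective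
    have h2 : l ∈ (S : Subgroup L) ↔ ρ l ∈ ((S.mapSurjective hρ : Sylow p S2) : Subgroup S2) := by
      rw [Sylow.coe_mapSurjective]
      exact (mem_map_iff_mem hinj).symm
    change _ ↔ ((c⁻¹ * ρ l * c⁻¹⁻¹ : S2) : M2) 1 0 = 0 ∧ ((c⁻¹ * ρ l * c⁻¹⁻¹ : S2) : M2) 0 0 = 1 ∧
      ((c⁻¹ * ρ l * c⁻¹⁻¹ : S2) : M2) 1 1 = 1
    rw [h1, h2, ← hc, ← Linear.unitriSL_two_eq]
    constructor
    · rintro ⟨u, hu, hul⟩
      have h3 : c * u * c⁻¹ = ρ l := hul
      rw [show c⁻¹ * ρ l * c⁻¹⁻¹ = u by rw [← h3]; group]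
      exact hu
    · intro h
      refine ⟨_, h, ?_⟩
      change c * (c⁻¹ * ρ l * c⁻¹⁻¹) * c⁻¹ = ρ l
      group

variable {V L T : Subgroup G}

namespace Coords

theorem e_one (K : Coords F V L T) : K.e 1 = 0 := by
  have := K.e_mul 1 1
  rwa [mul_one, left_eq_add] at this

theorem e_inv (K : Coords F V L T) (v : V) : K.e v⁻¹ = -K.e v := by
  have := K.e_mul v v⁻¹
  rw [mul_inv_cancel, K.e_one] at this
  exact eq_neg_of_add_eq_zero_right this.symm

/-- An element of `L` fixes `v` iff its matrix does. -/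
theorem commute_iff (K : Coords F V L T) (l : L) (v : V) :
    (l : G) * v = v * l ↔ ((K.ρ l : S2) : M2).mulVec (K.e v) = K.e v := by
  have h : (l : G) * v * (l : G)⁻¹ ∈ V := (mem_normalizer_iff.mp (K.norm l.2) _).mp v.2
  rw [← K.e_conj l v h, K.e.injective.eq_iff, Subtype.ext_iff, mul_inv_eq_iff_eq_mul]

theorem exists_ρ_upper (K : Coords F V L T) (b : F) :
    ∃ t : L, (t : G) ∈ T ∧ ((K.ρ t : S2) : M2) = !![1, b; 0, 1] := by
  obtain ⟨t, ht⟩ := K.surj (Linear.upSL b)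
  refine ⟨t, (K.memT t).mpr ?_, by rw [ht, Linear.upSL_coe]⟩
  simp [ht, Linear.upSL_coe]

theorem ρ_eq_upper (K : Coords F V L T) {t : L} (ht : (t : G) ∈ T) :
    ((K.ρ t : S2) : M2) = !![1, ((K.ρ t : S2) : M2) 0 1; 0, 1] := by
  obtain ⟨h10, h00, h11⟩ := (K.memT t).mp ht
  ext i j
  fin_cases i <;> fin_cases j <;> simp [h10, h00, h11]

theorem mem_fix_iff (K : Coords F V L T) (v : V) :
    (v : G) ∈ centralizer (T : Set G) ↔ K.e v 1 = 0 := by
  constructor
  · intro h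
    obtain ⟨t, ht, htm⟩ := K.exists_ρ_upper 1
    have := congrFun ((K.commute_iff t v).mp (h _ ht)) 0
    simpa [htm, Matrix.mulVec, dotProduct, Fin.sum_univ_two] using this
  · intro h t ht
    refine (K.commute_iff ⟨t, K.Tle ht⟩ v).mpr ?_
    rw [K.ρ_eq_upper (t := ⟨t, K.Tle ht⟩) ht]
    ext i
    fin_cases i <;> simp [Matrix.mulVec, dotProduct, Fin.sum_univ_two, h]

theorem e_commutator (K : Coords F V L T) (v : V) (t : L) (ht : (t : G) ∈ T)
    (h : (v : G) * t * (v : G)⁻¹ * (t : G)⁻¹ ∈ V) :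
    K.e ⟨_, h⟩ = ![-(((K.ρ t : S2) : M2) 0 1 * K.e v 1), 0] := by
  have h' : (t : G) * ((v⁻¹ : V) : G) * (t : G)⁻¹ ∈ V :=
    (mem_normalizer_iff.mp (K.norm t.2) _).mp (v⁻¹ : V).2
  rw [show (⟨_, h⟩ : V) = v * ⟨_, h'⟩ from Subtype.ext (by simp [mul_assoc]),
    K.e_mul, K.e_conj t v⁻¹ h', K.e_inv, K.ρ_eq_upper ht]
  ext i
  fin_cases i <;> simp [Matrix.mulVec, dotProduct, Fin.sum_univ_two]

theorem commutator_mem (K : Coords F V L T) (v : V) {t : G} (ht : t ∈ T) :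
    (v : G) * t * (v : G)⁻¹ * t⁻¹ ∈ V := by
  rw [mul_assoc, mul_assoc, ← mul_assoc t]
  exact mul_mem v.2 ((mem_normalizer_iff.mp (K.norm (K.Tle ht)) _).mp (inv_mem v.2))

theorem commutator_mem_fix (K : Coords F V L T) (v : V) {t : G} (ht : t ∈ T) :
    (v : G) * t * (v : G)⁻¹ * t⁻¹ ∈ V ⊓ centralizer (T : Set G) := by
  refine ⟨K.commutator_mem v ht, (K.mem_fix_iff ⟨_, K.commutator_mem v ht⟩).mpr ?_⟩
  rw [K.e_commutator v ⟨t, K.Tle ht⟩ ht (K.commutator_mem v ht)]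
  simp

theorem closure_commutator (K : Coords F V L T) (v : V) (hv : ¬ (v : G) ∈ centralizer (T : Set G)) :
    Subgroup.closure {x : G | ∃ t ∈ T, x = (v : G) * t * (v : G)⁻¹ * t⁻¹} =
      V ⊓ centralizer (T : Set G) := by
  refine le_antisymm ((closure_le _).mpr ?_) fun w hw => ?_
  · rintro _ ⟨t, ht, rfl⟩
    exact K.commutator_mem_fix v ht
  have hw1 := (K.mem_fix_iff ⟨w, hw.1⟩).mp hw.2
  have hv1 : K.e v 1 ≠ 0 := fun h => hv ((K.mem_fix_iff v).mpr h)
  obtain ⟨t, ht, htm⟩ := K.exists_ρ_upper (-(K.e ⟨w, hw.1⟩ 0) / K.e v 1)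
  refine subset_closure ⟨t, ht, ?_⟩
  suffices h : (⟨w, hw.1⟩ : V) = ⟨_, K.commutator_mem v ht⟩ from congrArg Subtype.val h
  refine K.e.injective ?_
  rw [K.e_commutator v t ht (K.commutator_mem v ht), htm]
  ext i
  fin_cases i <;> simp [hw1, hv1]

theorem exists_not_fix (K : Coords F V L T) (a : F) (ha : a ≠ 0) :
    ∃ v : V, K.e v = ![0, a] ∧ ¬ (v : G) ∈ centralizer (T : Set G) :=
  ⟨K.e.symm ![0, a], K.e.apply_symm_apply _, fun h => ha (by
    simpa using (K.mem_fix_iff _).mp h)⟩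

theorem card_V (K : Coords F V L T) : Nat.card V = Fintype.card F ^ 2 := by
  rw [Nat.card_congr K.e, Nat.card_eq_fintype_card, Fintype.card_fun, Fintype.card_fin]

theorem card_fix (K : Coords F V L T) : Nat.card ↥(V ⊓ centralizer (T : Set G)) = Fintype.card F := by
  rw [← Nat.card_eq_fintype_card]
  refine Nat.card_congr
    { toFun := fun w => K.e ⟨w, w.2.1⟩ 0
      invFun := fun a => ⟨(K.e.symm ![a, 0] : V), (K.e.symm ![a, 0]).2, (K.mem_fix_iff _).mpr (by simp)⟩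
      left_inv := fun w => by
        apply Subtype.ext
        change ((K.e.symm ![K.e ⟨w, w.2.1⟩ 0, 0] : V) : G) = _
        rw [show K.e.symm ![K.e ⟨w, w.2.1⟩ 0, 0] = ⟨w, w.2.1⟩ from ?_]
        rw [Equiv.symm_apply_eq]
        ext i
        fin_cases i <;> simp [(K.mem_fix_iff ⟨w, w.2.1⟩).mp w.2.2]
      right_inv := fun a => by simp }

end Coords

end Cfsg.Agent.H59
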