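import Cfsg.Agent.H59.ThompsonComplement

/-!
# A maximal abelian subgroup outside `O_p` forces a section `S₄`
-/

set_option autoImplicit false

namespace Cfsg.Agent.H59

open Subgroup

universe u

variable {G : Type u} [Group G] [Finite G] {p : ℕ} [Fact p.Prime]

theorem involves_of_maxAbelian (S : Sylow p G) (R W : Subgroup G) [R.Normal] [W.Normal]
    (hRS : R ≤ S) (hWR : W ≤ R) (hWc : W ≤ centralizer (R : Set G)) (hWp : ∀ w ∈ W, w ^ p = 1)
    (hCW : centralizer (W : Set G) ≤ R)
    (Q : Subgroup (G ⧸ R)) [Q.Normal] (hQ : IsMulCommutative Q) (hQp : (Nat.card Q).Coprime p)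
    (hfaith : ∀ b ∈ (S : Subgroup G).map (QuotientGroup.mk' R),
      (∀ x ∈ Q, b * x = x * b) → b = 1)
    (A : Subgroup G) (hAS : A ≤ S) (hAc : IsMulCommutative A)
    (hmax : ∀ B : Subgroup G, B ≤ S → IsMulCommutative B → Nat.card B ≤ Nat.card A)
    (hAR : ¬ A ≤ R) : p = 2 ∧ Cfsg.Involves (Equiv.Perm (Fin 4)) G := by
  classical
  have hWWc : IsMulCommutative W :=
    ⟨⟨fun a b => Subtype.ext (mem_centralizer_iff.mp (hWc b.2) _ (hWR a.2))⟩⟩
  let _ : CommGroup W := { (inferInstance : Group W) with mul_comm := hWWc.is_comm.comm }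
  let ρ0 : G →* AddMonoid.End (Additive W) :=
    { toFun := fun g => MonoidHom.toAdditive ((MulAut.conjNormal g : MulAut W).toMonoidHom)
      map_one' := by
        refine AddMonoidHom.ext fun a => ?_
        change Additive.ofMul ((MulAut.conjNormal (1 : G) : MulAut W) (Additive.toMul a)) = a
        simp
      map_mul' := fun g h => by
        refine AddMonoidHom.ext fun a => ?_
        change Additive.ofMul ((MulAut.conjNormal (g * h) : MulAut W) (Additive.toMul a)) =
          Additive.ofMul ((MulAut.conjNormal g : MulAut W)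
            ((MulAut.conjNormal h : MulAut W) (Additive.toMul a)))
        rw [map_mul]; rfl }
  have hρ0 : ∀ (g : G) (a : Additive W),
      ((Additive.toMul (ρ0 g a) : W) : G) = g * ((Additive.toMul a : W) : G) * g⁻¹ := fun g a => rfl
  have hR1 : R ≤ ρ0.ker := fun r hr => by
    refine MonoidHom.mem_ker.mpr (AddMonoidHom.ext fun a => ?_)
    apply Additive.toMul.injective
    apply Subtype.ext
    change r * ((Additive.toMul a : W) : G) * r⁻¹ = ((Additive.toMul a : W) : G)
    exact mul_inv_eq_iff_eq_mul.mpr (mem_centralizer_iff.mp (hWc (Additive.toMul a).2) r hr)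
  let ρ : G ⧸ R →* AddMonoid.End (Additive W) := QuotientGroup.lift R ρ0 hR1
  have hρ : Function.Injective ρ := by
    rw [injective_iff_map_eq_one]
    intro q hq
    obtain ⟨g, rfl⟩ := QuotientGroup.mk'_surjective R q
    refine (QuotientGroup.eq_one_iff g).mpr (hCW fun w hw => ?_)
    have h1 := congrArg (fun f : AddMonoid.End (Additive W) =>
      ((Additive.toMul (f (Additive.ofMul (⟨w, hw⟩ : W))) : W) : G)) hq
    have h2 : g * w * g⁻¹ = w := h1
    exact (mul_inv_eq_iff_eq_mul.mp h2).symm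
  have hA1 : ∀ a : Additive W, p • a = 0 := fun a => by
    apply Additive.toMul.injective
    rw [toMul_nsmul, toMul_zero]
    exact Subtype.ext (by simpa using hWp _ (Additive.toMul a).2)
  let B : Subgroup (G ⧸ R) := A.map (QuotientGroup.mk' R)
  have hBp : IsPGroup p B := (S.isPGroup'.to_le hAS).map _
  have hBc : IsMulCommutative B := isMulCommutative_map _ hAc
  have hBne : B ≠ ⊥ := fun h => hAR fun a ha => by
    have h1 : QuotientGroup.mk' R a ∈ B := mem_map_of_mem _ ha
    rw [h, mem_bot] at h1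
    exact (QuotientGroup.eq_one_iff a).mp h1
  have hBA : Nat.card B * Nat.card ↥(A ⊓ R) = Nat.card A := by
    have h := card_mul_index (((QuotientGroup.mk' R).domRestrict A).ker)
    rw [index_ker] at h
    rw [← h, MonoidHom.domRestrict_range, mul_comm]
    congr 1
    refine (Nat.card_congr (Equiv.subtypeEquivRight fun a => ?_)).trans
      (Nat.card_congr ((Equiv.subtypeSubtypeEquivSubtypeInter _ _))) |>.symm
    exact QuotientGroup.eq_one_iff (a : G)
  have hoff : IsOff ρ B := by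
    let A0 : Subgroup G := A ⊓ R
    have hc0 : IsMulCommutative ↥(A0 ⊔ W) := by
      have h1 : (A0 : Set G) ∪ (W : Set G) ⊆ centralizer ((A0 : Set G) ∪ (W : Set G)) := by
        rintro x (hx | hx) y (hy | hy)
        · exact congrArg Subtype.val (hAc.is_comm.comm (⟨y, hy.1⟩ : A) ⟨x, hx.1⟩)
        · exact (mem_centralizer_iff.mp (hWc hy) x hx.2).symm
        · exact mem_centralizer_iff.mp (hWc hx) y hy.2
        · exact congrArg Subtype.val (hWWc.is_comm.comm (⟨y, hy⟩ : W) ⟨x, hx⟩)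
      have h2 : A0 ⊔ W ≤ centralizer ((A0 ⊔ W : Subgroup G) : Set G) := by
        rw [← Subgroup.closure_eq A0, ← Subgroup.closure_eq W, ← Subgroup.closure_union, centralizer_closure,
          closure_le]
        exact h1
      exact ⟨⟨fun a b => Subtype.ext (mem_centralizer_iff.mp (h2 b.2) _ a.2)⟩⟩
    have h1 : Nat.card ↥(A0 ⊔ W) ≤ Nat.card A :=
      hmax _ (sup_le (inf_le_left.trans hAS) (hWR.trans hRS)) hc0
    have h2 := Cores.card_sup_mul_card_inf A0 W
    have h3 : Nat.card ↥(A0 ⊓ W) ≤ Nat.card (fixed ρ B) := by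
      refine Nat.card_le_card_of_injective (fun x => (⟨Additive.ofMul (⟨x, x.2.2⟩ : W), ?_⟩ :
        fixed ρ B)) (fun x y h => Subtype.ext ?_)
      · rintro _ ⟨a, ha, rfl⟩
        apply Additive.toMul.injective
        apply Subtype.ext
        change a * (x : G) * a⁻¹ = (x : G)
        exact mul_inv_eq_iff_eq_mul.mpr
          (congrArg Subtype.val (hAc.is_comm.comm (⟨a, ha⟩ : A) ⟨x, x.2.1.1⟩))
      · exact congrArg (fun z : fixed ρ B => ((Additive.toMul (z : Additive W) : W) : G)) h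
    have h4 : Nat.card A0 * Nat.card W ≤ Nat.card A0 * (Nat.card B * Nat.card (fixed ρ B)) := by
      calc Nat.card A0 * Nat.card W = Nat.card ↥(A0 ⊔ W) * Nat.card ↥(A0 ⊓ W) := h2.symm
        _ ≤ Nat.card A * Nat.card (fixed ρ B) := Nat.mul_le_mul h1 h3
        _ = _ := by rw [← hBA]; ring
    exact (Nat.card_congr (Additive.toMul : Additive W ≃ W)).trans_le
      (Nat.le_of_mul_le_mul_left h4 Nat.card_pos)
  obtain ⟨hp2, b, y, hbB, hyQ, hbb, hinv, hy3, hcard, hfix, hbmove⟩ :=
    exists_dihedral_of_offender ρ hρ hA1 Q hQ hQp B hBp hBc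
      (le_normalizer_of_normal) (fun b hb => hfaith b (map_mono hAS hb)) hBne hoff
  refine ⟨hp2, ?_⟩
  subst hp2
  obtain ⟨g, rfl⟩ := QuotientGroup.mk'_surjective R y
  obtain ⟨c, -, rfl⟩ := hbB
  -- a lift of `y` of order 3
  have hg3 : g ^ 3 ∈ R := (QuotientGroup.eq_one_iff _).mp (by rw [← hy3]; rfl)
  obtain ⟨k, hk⟩ := (S.isPGroup'.to_le hRS) ⟨_, hg3⟩
  have hk' : (g ^ 3) ^ 2 ^ k = 1 := congrArg Subtype.val hk
  let y' : G := g ^ 4 ^ k
  have hy'3 : y' ^ 3 = 1 := by
    change (g ^ 4 ^ k) ^ 3 = 1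
    rw [← pow_mul, mul_comm, pow_mul, show (4 : ℕ) ^ k = 2 ^ k * 2 ^ k by
      rw [← mul_pow]; norm_num, pow_mul, hk', one_pow]
  have hy'q : QuotientGroup.mk' R y' = QuotientGroup.mk' R g := by
    rw [map_pow, pow_eq_pow_mod _ hy3, Nat.pow_mod]
    norm_num
  have hzR : ∀ x ∈ zpowers y', x ∈ R → x = 1 := fun x hx hxR => by
    obtain ⟨m, hm⟩ := (S.isPGroup'.to_le hRS) ⟨x, hxR⟩
    have h1 : orderOf x ∣ 2 ^ m := orderOf_dvd_of_pow_eq_one (congrArg Subtype.val hm)
    have h2 : orderOf x ∣ 3 :=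
      ((zpowers y').orderOf_dvd_natCard hx).trans
        (by rw [Nat.card_zpowers]; exact orderOf_dvd_of_pow_eq_one hy'3)
    exact orderOf_eq_one_iff.mp (Nat.eq_one_of_dvd_coprimes
      (Nat.Coprime.pow_left m (by norm_num)) h1 h2)
  have hcop : (Nat.card (zpowers y')).Coprime (Nat.card R) := by
    obtain ⟨m, hm⟩ := IsPGroup.iff_card.mp (S.isPGroup'.to_le hRS)
    rw [hm, Nat.card_zpowers]
    exact Nat.Coprime.coprime_dvd_left (orderOf_dvd_of_pow_eq_one hy'3)
      (Nat.Coprime.pow_right m (by norm_num))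
  obtain ⟨n, hn, heq⟩ := Coprime.exists_conj_of_le_sup (N := R) (H₁ := zpowers y')
    (H₂ := (zpowers y').map (MulAut.conj c).toMonoidHom) le_normalizer_of_normal (by
      rw [MonoidHom.map_zpowers, zpowers_le]
      have h1 : c * y' * c⁻¹ * y' ∈ R := by
        refine (QuotientGroup.eq_one_iff _).mp ?_
        change QuotientGroup.mk' R (c * y' * c⁻¹ * y') = 1
        rw [map_mul, map_mul, map_mul, map_inv, hy'q, hinv, inv_mul_cancel]
      have h2 := mul_mem (mem_sup_left (T := zpowers y') h1)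
        (mem_sup_right (S := R) (inv_mem (mem_zpowers y')))
      simpa using h2)
    (card_map_of_injective (MulEquiv.injective _)) hcop (Or.inl inferInstance)
  let b' : G := n⁻¹ * c
  have hb'q : QuotientGroup.mk' R b' = QuotientGroup.mk' R c := by
    rw [map_mul, map_inv,
      show (QuotientGroup.mk' R n) = 1 from (QuotientGroup.eq_one_iff n).mpr hn, inv_one, one_mul]
  have hb'inv : b' * y' * b'⁻¹ = y'⁻¹ := by
    obtain ⟨z, hz, h⟩ := heq ▸ mem_map_of_mem (MulAut.conj c).toMonoidHom (mem_zpowers y')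
    simp only [MulEquiv.toMonoidHom_eq_coe, MonoidHom.coe_coe, MulAut.conj_apply] at h
    have h1 : b' * y' * b'⁻¹ = z := by
      rw [show b' * y' * b'⁻¹ = n⁻¹ * (c * y' * c⁻¹) * n by simp only [b']; group, ← h]
      group
    have h2 : z * y' ∈ R := by
      refine (QuotientGroup.eq_one_iff _).mp ?_
      change QuotientGroup.mk' R (z * y') = 1
      rw [← h1, map_mul, map_mul, map_mul, map_inv, hb'q, hy'q, hinv, inv_mul_cancel]
    rw [h1]
    exact eq_inv_of_mul_eq_one_left (hzR _ (mul_mem hz (mem_zpowers y')) h2)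
  let U : Subgroup G :=
    (AddSubgroup.toSubgroup' (delta ρ (QuotientGroup.mk' R g)).range).map W.subtype
  have hUW : ∀ u ∈ U, ∃ a ∈ (delta ρ (QuotientGroup.mk' R g)).range,
      ((Additive.toMul a : W) : G) = u := by
    rintro _ ⟨w, hw, rfl⟩
    exact ⟨Additive.ofMul w, hw, rfl⟩
  have hmem : ∀ a ∈ (delta ρ (QuotientGroup.mk' R g)).range, ((Additive.toMul a : W) : G) ∈ U :=
    fun a ha => ⟨Additive.toMul a, ha, rfl⟩
  have hact : ∀ (x : G) (a : Additive W),
      x * ((Additive.toMul a : W) : G) * x⁻¹ =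
        ((Additive.toMul (ρ (QuotientGroup.mk' R x) a) : W) : G) := fun x a => rfl
  have hU : Nat.card U = 4 := by
    rw [← hcard]
    refine (card_map_of_injective W.subtype_injective).trans ?_
    exact Nat.card_congr (Equiv.subtypeEquiv Additive.ofMul fun w => Iff.rfl)
  have hcomm : ρ (QuotientGroup.mk' R c) * ρ (QuotientGroup.mk' R g) =
      ρ (QuotientGroup.mk' R g)⁻¹ * ρ (QuotientGroup.mk' R c) := by
    rw [← hinv, ← map_mul ρ, ← map_mul ρ]
    congr 1
    group
  refine involves_perm_four U hU y' b' ?_ ?_ hy'3 ?_ hb'inv ?_ ?_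
  · refine mem_normalizer_of_forall fun u hu => ?_
    obtain ⟨a, ⟨a0, rfl⟩, rfl⟩ := hUW u hu
    rw [hact, hy'q]
    exact hmem _ ⟨ρ (QuotientGroup.mk' R g) a0, (map_sub _ _ _).symm⟩
  · refine mem_normalizer_of_forall fun u hu => ?_
    obtain ⟨a, ⟨a0, rfl⟩, rfl⟩ := hUW u hu
    rw [hact, hb'q]
    refine hmem _ ?_
    let d := ρ (QuotientGroup.mk' R g)⁻¹ (ρ (QuotientGroup.mk' R c) a0)
    refine ⟨-d, ?_⟩
    have e1 : ρ (QuotientGroup.mk' R c) (ρ (QuotientGroup.mk' R g) a0) = d :=
      DFunLike.congr_fun hcomm a0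
    have e2 : ρ (QuotientGroup.mk' R g) d = ρ (QuotientGroup.mk' R c) a0 := by
      change (ρ (QuotientGroup.mk' R g) * ρ (QuotientGroup.mk' R g)⁻¹) _ = _
      rw [← map_mul, mul_inv_cancel, map_one]; rfl
    change ρ (QuotientGroup.mk' R g) (-d) - -d =
      ρ (QuotientGroup.mk' R c) (ρ (QuotientGroup.mk' R g) a0 - a0)
    rw [map_sub, e1, map_neg, e2]; abel
  · intro u hu h
    obtain ⟨a, ha, rfl⟩ := hUW u hu
    rw [hact, hy'q] at h
    rw [hfix a ha (Additive.toMul.injective (Subtype.ext h))]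
    rfl
  · intro u hu
    obtain ⟨a, -, rfl⟩ := hUW u hu
    rw [hact, map_mul, hb'q, hbb, map_one]
    rfl
  · obtain ⟨a, ha, hne⟩ := hbmove
    refine ⟨_, hmem a ha, ?_⟩
    rw [hact, hb'q]
    exact fun h => hne (Additive.toMul.injective (Subtype.ext h))

end Cfsg.Agent.H59
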