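import Cfsg.Agent.H59.PReduced

/-!
# `Y_H` and subnormal subgroups
-/

set_option autoImplicit false

namespace Cfsg.Agent.H59

open Subgroup
open scoped commutatorElement

universe u

variable {H : Type u} [Group H] [Finite H] {p : ℕ} [Fact p.Prime]

/-- Normal subgroups of a subnormal `L` acting as p-groups on `Y ∩ L` centralize the p-reduced `Y`. -/
theorem le_centralizer_of_pow {Y L : Subgroup H} (hY : Cfsg.IsPReducedNormal p Y) (hL : L.IsSubnormal)
    (N : Subgroup L) [N.Normal] (hpow : ∀ x ∈ N, ∃ k, ∀ v ∈ Y ⊓ L,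
      v * ((x : H) ^ p ^ k) = (x : H) ^ p ^ k * v) :
    N.map L.subtype ≤ centralizer (Y : Set H) := by
  set B : Subgroup H := (Cfsg.pResidual p ↥L).map L.subtype with hB
  have hYn : Y.Normal := hY.1
  have hYp := H60.isPGroup_of_isElementaryAbelian hY.2.1
  have hBsn : B.IsSubnormal :=
    Subgroup.IsSubnormal.trans' (Subgroup.Normal.isSubnormal inferInstance) hL
  have hres : (Cfsg.pResidual p ↥B).map B.subtype = B := by
    have h1 : Cfsg.pResidual p ↥B = ⊤ := by
      rw [hB, ← Fusion.map_pResidual_equiv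
        ((Cfsg.pResidual p ↥L).equivMapOfInjective L.subtype L.subtype_injective),
        Fusion.pResidual_pResidual_eq_top]
      exact Subgroup.map_top_of_surjective _
        ((Cfsg.pResidual p ↥L).equivMapOfInjective L.subtype L.subtype_injective).surjective
    rw [h1, ← MonoidHom.range_eq_map, range_subtype]
  have hYB := (normalizes_of_subnormal hYn.isSubnormal hBsn hYp hres).1
  have hco : ∀ x ∈ N, (orderOf x).Coprime p → (x : H) ∈ centralizer (Y : Set H) := by
    intro x hx hxp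
    obtain ⟨k, hk⟩ := hpow x hx
    obtain ⟨j, hj⟩ := exists_pow_eq_self_of_coprime (x := x) (n := p ^ k) (hxp.pow_right k).symm
    have hxV : ∀ v ∈ Y ⊓ L, Commute v (x : H) := fun v hv => by
      have h := (show Commute v ((x : H) ^ p ^ k) from hk v hv).pow_right j
      rwa [show ((x : H) ^ p ^ k) ^ j = (x : H) from congrArg Subtype.val hj] at h
    have hxB : (x : H) ∈ B := mem_map_of_mem L.subtype (Fusion.mem_pResidual hxp)
    intro v hv
    have hd : (x : H) * v * (x : H)⁻¹ * v⁻¹ ∈ Y ⊓ L := by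
      refine ⟨(mul_mem (hYn.conj_mem v hv (x : H)) (inv_mem hv) : (x : H) * v * (x : H)⁻¹ * v⁻¹ ∈ Y), ?_⟩
      rw [mul_assoc, mul_assoc, ← mul_assoc v]
      exact mul_mem x.2 ((map_subtype_le _ : B ≤ L) ((mem_normalizer_iff.mp (hYB hv) _).mp (inv_mem hxB)))
    exact (H61.commute_of_comm_mem (hYp.to_le inf_le_left) (by rwa [Subgroup.orderOf_coe]) hd
      (hxV _ hd).symm).symm.eq
  set f := QuotientGroup.mk' (centralizer (Y : Set H)) with hf
  have hsn : ((N.map L.subtype).map f).IsSubnormal :=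
    Subgroup.IsSubnormal.map (QuotientGroup.mk'_surjective _)
      (Subgroup.IsSubnormal.trans' (Subgroup.Normal.isSubnormal inferInstance) hL)
  have hp' : IsPGroup p ((N.map L.subtype).map f) := by
    rintro ⟨_, _, ⟨x, hx, rfl⟩, rfl⟩
    obtain ⟨k, hk⟩ := Fusion.exists_pow_coprime (p := p) x
    exact ⟨k, Subtype.ext ((QuotientGroup.eq_one_iff _).mpr (hco _ (pow_mem hx _) hk))⟩
  obtain ⟨_, hcore⟩ := hY.2.2
  intro x hx
  have h1 := Cores.le_pCore_of_isSubnormal hsn hp' (mem_map_of_mem f hx)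
  rw [hcore, mem_bot] at h1
  exact (QuotientGroup.eq_one_iff _).mp h1

theorem centralizer_inf_eq {Y L : Subgroup H} (hY : Cfsg.IsPReducedNormal p Y) (hL : L.IsSubnormal) :
    L ⊓ centralizer ((Y ⊓ L : Subgroup H) : Set H) = L ⊓ centralizer (Y : Set H) := by
  have hYn : Y.Normal := hY.1
  refine le_antisymm (le_inf inf_le_left ?_) (inf_le_inf_left _ (centralizer_le inf_le_left))
  have hn : ((centralizer ((Y ⊓ L : Subgroup H) : Set H)).subgroupOf L).Normal := by
    refine ⟨fun x hx g => ?_⟩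
    intro v hv
    have hv' : (g : H)⁻¹ * v * g ∈ Y ⊓ L :=
      ⟨by simpa using hYn.conj_mem v hv.1 (g : H)⁻¹, (mul_mem (mul_mem (inv_mem g.2) hv.2) g.2 : (g : H)⁻¹ * v * g ∈ L)⟩
    have h := (show Commute _ (x : H) from hx _ hv').map (MulAut.conj (g : H)).toMonoidHom
    simpa [mul_assoc] using h.eq
  refine le_trans ?_ (le_centralizer_of_pow (N := (centralizer ((Y ⊓ L : Subgroup H) : Set H)).subgroupOf L)
    hY hL fun x hx => ⟨0, fun v hv => by simpa using hx v hv⟩)
  intro x hx
  exact ⟨⟨x, hx.1⟩, hx.2, rfl⟩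

theorem isPReducedNormal_inf {Y L : Subgroup H} (hY : Cfsg.IsPReducedNormal p Y) (hL : L.IsSubnormal) :
    Cfsg.IsPReducedNormal p ((Y ⊓ L).subgroupOf L) := by
  have hYn : Y.Normal := hY.1
  have : ((Y ⊓ L).subgroupOf L).Normal :=
    ⟨fun x hx g => ⟨hYn.conj_mem (x : H) hx.1 (g : H), (g * x * g⁻¹).2⟩⟩
  refine isPReducedNormal_iff.mpr ⟨⟨⟨⟨fun a b => Subtype.ext (Subtype.ext ?_)⟩⟩, ?_⟩, ?_⟩
  · exact congrArg (fun z : Y => (z : H))
      (hY.2.1.1.is_comm.comm (⟨((a : L) : H), a.2.1⟩ : Y) ⟨((b : L) : H), b.2.1⟩)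
  · exact fun a ha => Subtype.ext (hY.2.1.2 _ ha.1)
  intro N hN hpow
  have h1 := le_centralizer_of_pow hY hL N fun x hx => by
    obtain ⟨k, hk⟩ := hpow x hx
    exact ⟨k, fun v hv => congrArg Subtype.val (hk ⟨v, hv.2⟩ hv)⟩
  intro x hx v hv
  exact Subtype.ext (h1 (mem_map_of_mem L.subtype hx) _ hv.1)

/-- The `P × Q` lemma modulo the centralizer of an elementary abelian group. -/
theorem commute_of_commute_centralizer_mod {W A : Subgroup H} (hWc : W ≤ centralizer (W : Set H))
    (hWp : IsPGroup p W) (hA : IsPGroup p A) {c : H} (hc : c ∈ normalizer (W : Set H))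
    (hAW : A ≤ normalizer (W : Set H)) (hco : (orderOf c).Coprime p)
    (hAC : ∀ a ∈ A, ⁅a, c⁆ ∈ centralizer (W : Set H))
    (hfix : ∀ x ∈ W, x ∈ centralizer (A : Set H) → c * x = x * c) : ∀ v ∈ W, c * v = v * c := by
  have hW : ∀ x ∈ W, ∀ y ∈ W, Commute x y := fun x hx y hy => mem_centralizer_iff.mp (hWc hy) x hx
  have hmem : ∀ v ∈ W, c * v * c⁻¹ * v⁻¹ ∈ W := fun v hv =>
    mul_mem ((mem_normalizer_iff.mp hc v).mp hv) (inv_mem hv)
  have hmul : ∀ v ∈ W, ∀ w ∈ W, c * (v * w) * c⁻¹ * (v * w)⁻¹ =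
      (c * v * c⁻¹ * v⁻¹) * (c * w * c⁻¹ * w⁻¹) := fun v hv w hw => by
    calc c * (v * w) * c⁻¹ * (v * w)⁻¹ = c * v * c⁻¹ * ((c * w * c⁻¹ * w⁻¹) * v⁻¹) := by group
      _ = c * v * c⁻¹ * (v⁻¹ * (c * w * c⁻¹ * w⁻¹)) := by rw [(hW _ (hmem w hw) _ (inv_mem hv)).eq]
      _ = _ := by group
  let I : Subgroup H :=
    { carrier := {d | ∃ v ∈ W, d = c * v * c⁻¹ * v⁻¹}
      one_mem' := ⟨1, one_mem _, by simp⟩
      mul_mem' := by
        rintro _ _ ⟨v, hv, rfl⟩ ⟨w, hw, rfl⟩
        exact ⟨v * w, mul_mem hv hw, (hmul v hv w hw).symm⟩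
      inv_mem' := by
        rintro _ ⟨v, hv, rfl⟩
        exact ⟨v⁻¹, inv_mem hv, inv_eq_of_mul_eq_one_right (by
          rw [← hmul v hv v⁻¹ (inv_mem hv)]; simp)⟩ }
  have hIW : I ≤ W := by
    rintro _ ⟨v, hv, rfl⟩
    exact hmem v hv
  have hAI : A ≤ normalizer (I : Set H) := fun a ha => mem_normalizer_of_forall <| by
    rintro _ ⟨v, hv, rfl⟩
    have hv' : a * v * a⁻¹ ∈ W := (mem_normalizer_iff.mp (hAW ha) v).mp hv
    refine ⟨a * v * a⁻¹, hv', ?_⟩
    have h1 := hAC a ha _ ((mem_normalizer_iff.mp hc _).mp hv')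
    have h1' : Commute (c * (a * v * a⁻¹) * c⁻¹) ⁅a, c⁆ := h1
    calc a * (c * v * c⁻¹ * v⁻¹) * a⁻¹ = ⁅a, c⁆ * (c * (a * v * a⁻¹) * c⁻¹) * ⁅a, c⁆⁻¹ * (a * v * a⁻¹)⁻¹ := by
          simp only [commutatorElement_def]; group
      _ = c * (a * v * a⁻¹) * c⁻¹ * (a * v * a⁻¹)⁻¹ := by rw [← h1'.eq, mul_inv_cancel_right]
  intro v hv
  by_contra hne
  have hI : I ≠ ⊥ := fun h => hne (by
    have h2 : c * v * c⁻¹ * v⁻¹ ∈ (⊥ : Subgroup H) := h ▸ (⟨v, hv, rfl⟩ : c * v * c⁻¹ * v⁻¹ ∈ I)
    exact mul_inv_eq_iff_eq_mul.mp (mul_inv_eq_one.mp (mem_bot.mp h2)))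
  refine H60.inf_centralizer_ne_bot hA (hWp.to_le hIW) hAI hI ((eq_bot_iff_forall _).mpr ?_)
  rintro _ ⟨⟨w, hw, rfl⟩, hdA⟩
  have h := H61.commute_of_comm_mem hWp hco (hmem w hw) (hfix _ (hmem w hw) hdA)
  rw [h.eq, mul_inv_cancel_right, mul_inv_cancel]

/-- An element of the normal subgroup `L` centralizing `Y_H` centralizes any normal subgroup of `H`
which is p-reduced in `L`. -/
theorem centralizer_le_aux (L : Subgroup H) [hLn : L.Normal] : ∀ (n : ℕ) (W : Subgroup H),
    Nat.card W ≤ n → W.Normal → W ≤ L → Cfsg.IsPReducedNormal p (W.subgroupOf L) →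
    L ⊓ centralizer (Cfsg.largestPReduced p H : Set H) ≤ centralizer (W : Set H) := by
  intro n
  induction n with
  | zero => intro W hW; exact absurd hW (by have := Nat.card_pos (α := W); omega)
  | succ n ih =>
    intro W hW hWn hWL hred
    have hWel : Cfsg.IsElementaryAbelian p W :=
      ⟨⟨⟨fun a b => Subtype.ext (congrArg (fun z : W.subgroupOf L => ((z : L) : H))
        (hred.2.1.1.is_comm.comm (⟨⟨a, hWL a.2⟩, a.2⟩ : W.subgroupOf L) ⟨⟨b, hWL b.2⟩, b.2⟩))⟩⟩,
        fun a ha => congrArg Subtype.val (hred.2.1.2 (⟨a, hWL ha⟩ : L) ha)⟩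
    have hWc := le_centralizer_self hWel.1
    by_cases hH : Cfsg.IsPReducedNormal p W
    · exact inf_le_right.trans (centralizer_le (le_sSup (α := Subgroup H) hH))
    rw [isPReducedNormal_iff] at hH
    push Not at hH
    obtain ⟨N, hN, hpow, hNW⟩ := hH hWel
    set C := centralizer (W : Set H) with hC
    have hCn : C.Normal := normal_centralizer
    have hNL : N ⊓ L ≤ C := by
      intro x hx v hv
      refine congrArg Subtype.val ((isPReducedNormal_iff.mp hred).2 (N.subgroupOf L) inferInstance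
        (fun y hy => ?_) (x := (⟨x, hx.2⟩ : L)) hx.1 (⟨v, hWL hv⟩ : L) hv)
      obtain ⟨k, hk⟩ := hpow _ hy
      exact ⟨k, fun w hw => Subtype.ext (by simpa using hk _ hw)⟩
    set W₁ := W ⊓ centralizer (N : Set H) with hW₁
    have hW₁n : W₁.Normal := by
      have : (centralizer (N : Set H)).Normal := normal_centralizer
      exact ⟨fun x hx g => ⟨hWn.conj_mem x hx.1 g, this.conj_mem x hx.2 g⟩⟩
    have hW₁C : (centralizer (W₁ : Set H)).Normal := normal_centralizer
    -- `L` sees nothing new on `W`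
    have key : L ⊓ centralizer (W₁ : Set H) ≤ C := by
      obtain ⟨S, hS⟩ : ∃ S : Sylow p N, True := (Sylow.nonempty (p := p) (G := N)).elim fun S => ⟨S, trivial⟩
      set A := (S : Subgroup N).map N.subtype with hA
      have hNA : N ≤ A ⊔ C := by
        have h1 := Fusion.sylow_sup_pResidual S
        have h2 : Cfsg.pResidual p N ≤ C.subgroupOf N := Fusion.pResidual_le.mpr fun y hy => by
          obtain ⟨k, hk⟩ := hpow _ y.2
          obtain ⟨j, hj⟩ := exists_pow_eq_self_of_coprime (x := y) (n := p ^ k) (hy.pow_right k).symm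
          rw [mem_subgroupOf, ← hj]
          simpa using pow_mem hk j
        intro y hy
        have h3 : (⟨y, hy⟩ : N) ∈ (S : Subgroup N) ⊔ C.subgroupOf N :=
          (sup_le_sup_left h2 _) (h1.ge (mem_top _))
        have h4 := mem_map_of_mem N.subtype h3
        rw [Subgroup.map_sup] at h4
        exact (sup_le_sup_left ((subgroupOf_map_subtype C N).le.trans inf_le_left) _) h4
      have hAp : IsPGroup p A := S.isPGroup'.map _
      set D := L ⊓ centralizer (W₁ : Set H) with hD
      have hDn : D.Normal := ⟨fun x hx g => ⟨hLn.conj_mem x hx.1 g, hW₁C.conj_mem x hx.2 g⟩⟩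
      have hcop : ∀ c ∈ D, (orderOf c).Coprime p → c ∈ C := by
        intro c hc hco
        have hAC : ∀ a ∈ A, ⁅a, c⁆ ∈ C := fun a ha =>
          hNL ((commutator_le_inf N L) (commutator_mem_commutator ((map_subtype_le _ : A ≤ N) ha) hc.1))
        have hcA : ∀ x ∈ W, c * x * c⁻¹ ∈ W := fun x hx => hWn.conj_mem x hx c
        -- fixed points of `A` lie in `W₁`
        have hfix : ∀ x ∈ W, x ∈ centralizer (A : Set H) → c * x = x * c := fun x hx hxA => by
          refine ((hc.2 x ⟨hx, le_centralizer_iff.mp (hNA.trans (sup_le ?_ ?_)) (mem_zpowers x)⟩).symm)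
          · rw [le_centralizer_iff]; exact zpowers_le.mpr hxA
          · rw [le_centralizer_iff]; exact zpowers_le.mpr (fun y hy => (hy x hx).symm)
        intro v hv
        exact (commute_of_commute_centralizer_mod hWc (H60.isPGroup_of_isElementaryAbelian hWel) hAp
          (le_normalizer_of_normal (H := W) (mem_top c)) le_normalizer_of_normal hco hAC hfix v hv).symm
      intro x hx
      have hdp : IsPGroup p (D.map (QuotientGroup.mk' C)) := by
        rintro ⟨_, y, hy, rfl⟩
        obtain ⟨k, hk⟩ := Fusion.exists_pow_coprime (p := p) y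
        exact ⟨k, Subtype.ext ((QuotientGroup.eq_one_iff _).mpr (hcop _ (pow_mem hy _) hk))⟩
      intro v hv
      refine congrArg Subtype.val ((isPReducedNormal_iff.mp hred).2 (D.subgroupOf L) inferInstance
        (fun y hy => ?_) (x := (⟨x, hx.1⟩ : L)) hx (⟨v, hWL hv⟩ : L) hv)
      obtain ⟨k, hk⟩ := hdp ⟨_, mem_map_of_mem _ hy⟩
      exact ⟨k, fun w hw => Subtype.ext (by
        simpa using (QuotientGroup.eq_one_iff _).mp (congrArg Subtype.val hk) _ hw)⟩
    have hlt : W₁ < W := lt_of_le_of_ne inf_le_left fun h =>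
      hNW (le_centralizer_iff.mp (h ▸ inf_le_right : W ≤ centralizer (N : Set H)))
    have hcard : Nat.card W₁ ≤ n := by
      have h0 := Subgroup.card_le_of_le hlt.le
      rcases h0.lt_or_eq with h | h
      · omega
      · exact absurd (eq_of_le_of_card_ge hlt.le h.ge) hlt.ne
    have hred₁ : Cfsg.IsPReducedNormal p (W₁.subgroupOf L) := by
      refine isPReducedNormal_iff.mpr ⟨isElementaryAbelian_mono hred.2.1
        (fun x hx => (inf_le_left : W₁ ≤ W) hx), fun M hM hpowM z hz w hw => ?_⟩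
      refine (isPReducedNormal_iff.mp hred).2 M hM (fun y hy => ?_) hz w hw.1
      obtain ⟨k, hk⟩ := hpowM y hy
      refine ⟨k, fun u hu => Subtype.ext ?_⟩
      have h5 : ((y ^ p ^ k : L) : H) ∈ centralizer (W₁ : Set H) := fun v hv =>
        congrArg Subtype.val (hk ⟨v, hWL hv.1⟩ hv)
      exact key ⟨SetLike.coe_mem _, h5⟩ _ hu
    intro x hx
    exact key ⟨hx.1, ih W₁ hcard hW₁n (inf_le_left.trans hWL) hred₁ hx⟩

omit [Finite H] [Fact p.Prime] in
theorem isPReducedNormal_map {A B : Type*} [Group A] [Group B] (φ : A ≃* B) {V : Subgroup A}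
    (hV : Cfsg.IsPReducedNormal p V) : Cfsg.IsPReducedNormal p (V.map φ.toMonoidHom) := by
  have hVn : (V.map φ.toMonoidHom).Normal := hV.1.map _ φ.surjective
  have : V.Normal := hV.1
  refine isPReducedNormal_iff.mpr ⟨⟨⟨⟨?_⟩⟩, ?_⟩, fun N hN hpow => ?_⟩
  · rintro ⟨_, a, ha, rfl⟩ ⟨_, b, hb, rfl⟩
    exact Subtype.ext (by
      change φ a * φ b = φ b * φ a
      rw [← map_mul, ← map_mul]
      exact congrArg φ (congrArg (fun z : V => (z : A)) (hV.2.1.1.is_comm.comm ⟨a, ha⟩ ⟨b, hb⟩)))
  · rintro _ ⟨a, ha, rfl⟩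
    rw [← map_pow, hV.2.1.2 a ha, map_one]
  · intro x hx
    rintro _ ⟨v, hv, rfl⟩
    have h := (isPReducedNormal_iff.mp hV).2 (N.comap φ.toMonoidHom) inferInstance (fun y hy => by
      obtain ⟨k, hk⟩ := hpow _ hy
      refine ⟨k, fun u hu => φ.injective ?_⟩
      simpa using hk _ (mem_map_of_mem φ.toMonoidHom hu)) (x := φ.symm x) (by simpa using hx) v hv
    have := congrArg φ h
    simpa using this

/-- `C_L(Y_L) = C_L(Y_H)` for normal `L`. -/
theorem centralizer_yOf_normal (L : Subgroup H) [hLn : L.Normal] :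
    L ⊓ centralizer (Cfsg.largestPReducedOf p L : Set H) =
      L ⊓ centralizer (Cfsg.largestPReduced p H : Set H) := by
  set W := Cfsg.largestPReducedOf p L with hW
  have hWn : W.Normal := by
    have hchar : (Cfsg.largestPReduced p L).Characteristic := by
      refine characteristic_iff_map_le.mpr fun φ => map_le_iff_le_comap.mpr (sSup_le fun V hV => ?_)
      exact map_le_iff_le_comap.mp (le_sSup (α := Subgroup L) (isPReducedNormal_map φ hV))
    rw [hW, Cfsg.largestPReducedOf]
    infer_instance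
  have hWL : W ≤ L := H60.yOf_le L
  have hsub : W.subgroupOf L = Cfsg.largestPReduced p L := by
    rw [hW, Cfsg.largestPReducedOf, subgroupOf, comap_map_eq_self_of_injective L.subtype_injective]
  refine le_antisymm (le_inf inf_le_left ?_) (le_inf inf_le_left ?_)
  · have hY : Cfsg.IsPReducedNormal p (Cfsg.largestPReduced p H) := H60.isPReducedNormal_largest
    refine le_trans (le_inf inf_le_left (inf_le_right.trans (centralizer_le ?_)))
      ((centralizer_inf_eq hY hLn.isSubnormal).le.trans inf_le_right)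
    intro v hv
    exact ⟨⟨v, hv.2⟩, le_sSup (α := Subgroup L) (isPReducedNormal_inf hY hLn.isSubnormal) hv, rfl⟩
  · exact centralizer_le_aux L (Nat.card W) W le_rfl hWn hWL (hsub ▸ H60.isPReducedNormal_largest)

theorem centralizer_yOf_aux : ∀ (n : ℕ) (G : Type u) [Group G] [Finite G], Nat.card G ≤ n →
    ∀ L : Subgroup G, L.IsSubnormal →
      L ⊓ centralizer (Cfsg.largestPReducedOf p L : Set G) =
        L ⊓ centralizer (Cfsg.largestPReduced p G : Set G) := by
  intro n
  induction n with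
  | zero => intro G _ _ hn; exact absurd hn (by have := Nat.card_pos (α := G); omega)
  | succ n ih =>
    intro G _ _ hn L hL
    rcases hL.lt_normal with htop | ⟨K, hKn, hLK, hK⟩
    · have : L.Normal := htop ▸ inferInstance
      exact centralizer_yOf_normal L
    have hlt : Nat.card K < Nat.card G := by
      refine lt_of_le_of_ne (Nat.card_le_card_of_injective _ Subtype.val_injective) fun h => ?_
      exact hK.ne (eq_top_of_card_eq K h)
    have h := congrArg (Subgroup.map K.subtype) (ih K (by omega) (L.subgroupOf K) hL.subgroupOf)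
    have e : ∀ A : Subgroup K, (L.subgroupOf K ⊓ centralizer (A : Set K)).map K.subtype =
        L ⊓ centralizer (A.map K.subtype : Set G) := by
      intro A
      ext x
      constructor
      · rintro ⟨a, ⟨ha, hac⟩, rfl⟩
        exact ⟨ha, by rintro _ ⟨b, hb, rfl⟩; exact congrArg Subtype.val (hac b hb)⟩
      · rintro ⟨hx, hxc⟩
        exact ⟨⟨x, hLK hx⟩, ⟨hx, fun b hb => Subtype.ext (hxc _ (mem_map_of_mem K.subtype hb))⟩, rfl⟩
    have hmap : (Cfsg.largestPReducedOf p (L.subgroupOf K)).map K.subtype = Cfsg.largestPReducedOf p L := by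
      have hfun : ∀ (e : L.subgroupOf K ≃* L), (Cfsg.largestPReduced p (L.subgroupOf K)).map e.toMonoidHom =
          Cfsg.largestPReduced p L := by
        intro e
        refine le_antisymm (map_le_iff_le_comap.mpr (sSup_le fun V hV => map_le_iff_le_comap.mp
          (le_sSup (α := Subgroup L) (isPReducedNormal_map e hV)))) (sSup_le fun V hV => ?_)
        intro v hv
        exact ⟨e.symm v, le_sSup (α := Subgroup (L.subgroupOf K)) (isPReducedNormal_map e.symm hV)
          (mem_map_of_mem e.symm.toMonoidHom hv), e.apply_symm_apply v⟩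
      unfold Cfsg.largestPReducedOf
      rw [← hfun (subgroupOfEquivOfLe hLK), Subgroup.map_map, Subgroup.map_map]
      rfl
    rw [e, e, hmap] at h
    rw [h]
    have h2 := centralizer_yOf_normal (p := p) K
    change L ⊓ centralizer (Cfsg.largestPReducedOf p K : Set G) = _
    rw [← inf_of_le_left hLK, inf_assoc, h2, ← inf_assoc, inf_of_le_left hLK]

end Cfsg.Agent.H59
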