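import Cfsg.Agent.H59.YClosure
import Cfsg.Agent.Fusion.PResidual

/-!
# The trace map on an abelian normalized subgroup
-/

set_option autoImplicit false

namespace Cfsg.Agent.H59

open Subgroup
open scoped commutatorElement

variable {G : Type*} [Group G] {p : ℕ}

/-- If `z ∈ V` is fixed by `S ≤ X`, then `z ^ |X:S|` is a fixed point of `X` times an element of
any subgroup containing all commutators of `z` with `X`. -/
theorem exists_trace [Finite G] {V X S : Subgroup G} (hV : IsMulCommutative V)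
    (hX : X ≤ normalizer (V : Set G)) {z : G} (hz : z ∈ V) (hS : ∀ s ∈ S, s * z = z * s)
    (W : Subgroup G) (hW : ∀ x ∈ X, ⁅z, x⁆ ∈ W) :
    ∃ π ∈ V, π ∈ centralizer (X : Set G) ∧ z ^ S.relIndex X * π⁻¹ ∈ W := by
  classical
  letI : CommGroup V := { (inferInstance : Group V) with mul_comm := hV.is_comm.comm }
  set S' : Subgroup X := S.subgroupOf X with hS'
  letI : Fintype (X ⧸ S') := Fintype.ofFinite _
  have hmem : ∀ x : X, (x : G) * z * (x : G)⁻¹ ∈ V := fun x => (mem_normalizer_iff.mp (hX x.2) z).mp hz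
  let f : X ⧸ S' → V := fun q => Quotient.liftOn' q (fun x => (⟨_, hmem x⟩ : V)) (by
    intro a b hab
    rw [QuotientGroup.leftRel_apply] at hab
    apply Subtype.ext
    have h1 : ((a : G)⁻¹ * b) * z = z * ((a : G)⁻¹ * b) := hS _ hab
    calc (a : G) * z * (a : G)⁻¹ = a * (z * ((a : G)⁻¹ * b)) * (b : G)⁻¹ := by group
      _ = b * z * (b : G)⁻¹ := by rw [← h1]; group)
  have hf : ∀ x : X, ((f (QuotientGroup.mk x) : V) : G) = x * z * (x : G)⁻¹ := fun x => rfl
  refine ⟨((∏ q, f q : V) : G), SetLike.coe_mem _, fun g hg => ?_, ?_⟩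
  · let c : V →* V :=
      { toFun := fun v => ⟨g * v * g⁻¹, (mem_normalizer_iff.mp (hX hg) _).mp v.2⟩
        map_one' := Subtype.ext (by simp)
        map_mul' := fun a b => Subtype.ext (by simp [mul_assoc]) }
    have h1 : c (∏ q, f q) = ∏ q, f q := by
      rw [map_prod]
      refine Fintype.prod_equiv (MulAction.toPerm (⟨g, hg⟩ : X)) _ _ fun q => ?_
      obtain ⟨x, rfl⟩ := QuotientGroup.mk_surjective q
      apply Subtype.ext
      simp only [MulAction.toPerm_apply, MulAction.Quotient.smul_mk, hf]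
      simp [c, hf, mul_assoc]
    have h2 := congrArg Subtype.val h1
    simp only [c, MonoidHom.coe_mk, OneHom.coe_mk] at h2
    exact mul_inv_eq_iff_eq_mul.mp h2
  · have h3 : (∏ q : X ⧸ S', (⟨z, hz⟩ : V) / f q) ∈ W.subgroupOf V := by
      refine prod_mem fun q _ => ?_
      obtain ⟨x, rfl⟩ := QuotientGroup.mk_surjective q
      rw [mem_subgroupOf, div_eq_mul_inv, Subgroup.coe_mul, Subgroup.coe_inv, hf]
      convert hW x x.2 using 1
      rw [commutatorElement_def]; group
    rw [Finset.prod_div_distrib, Finset.prod_const, Finset.card_univ, mem_subgroupOf,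
      div_eq_mul_inv, ← Nat.card_eq_fintype_card] at h3
    simpa [Subgroup.relIndex, Subgroup.index] using h3

/-- An element of exponent `p` with a power prime to `p` in a subgroup lies in it. -/
theorem mem_of_pow_mem [Fact p.Prime] {W : Subgroup G} {z : G} {n : ℕ} (hz : z ^ p = 1)
    (hn : ¬ p ∣ n) (h : z ^ n ∈ W) : z ∈ W := by
  obtain ⟨m, hm⟩ := exists_pow_eq_self_of_coprime (x := z) (n := n)
    (((Nat.Prime.coprime_iff_not_dvd Fact.out).mpr hn).symm.coprime_dvd_right (orderOf_dvd_of_pow_eq_one hz))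
  rw [← hm]
  exact pow_mem h m

/-- Commutators with `S ⊔ R` of a fixed point of `S`. -/
theorem commutatorElement_mem_of_fixed {X R S W : Subgroup G} {z : G}
    (hR : S ≤ normalizer (R : Set G)) (hS : ∀ s ∈ S, s * z = z * s) (hX : X ≤ R ⊔ S)
    (hW : ∀ r ∈ R, ⁅z, r⁆ ∈ W) : ∀ x ∈ X, ⁅z, x⁆ ∈ W := by
  intro x hx
  have hx' : x ∈ ((R ⊔ S : Subgroup G) : Set G) := hX hx
  rw [Subgroup.coe_mul_of_right_le_normalizer_left R S hR] at hx'
  obtain ⟨r, hr, s, hs, rfl⟩ := hx'
  convert hW r hr using 1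
  simp only [commutatorElement_def, mul_inv_rev]
  have h1 : z * s⁻¹ = s⁻¹ * z := by
    rw [eq_inv_mul_iff_mul_eq, ← mul_assoc, hS s hs, mul_inv_cancel_right]
  have h2 : z⁻¹ * s⁻¹ = s⁻¹ * z⁻¹ := by rw [← mul_inv_rev, hS s hs, mul_inv_rev]
  calc z * (r * s) * z⁻¹ * (s⁻¹ * r⁻¹) = z * r * (s * (z⁻¹ * s⁻¹)) * r⁻¹ := by group
    _ = z * r * z⁻¹ * r⁻¹ := by rw [h2]; group

end Cfsg.Agent.H59
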