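import Cfsg.Prelude.Def_FusionComponents
import Cfsg.Agent.FusionSys.Transport
import Cfsg.Agent.Fusion.PResidual

/-!
Transport of subsystems, invariance, normality and subnormality along an isomorphism of fusion systems.
-/

set_option autoImplicit false

namespace Cfsg.Agent.H59.Transp

open Cfsg Cfsg.FusionSystem Cfsg.Agent.FusionSys

universe u v w

variable {Ω : Type u} {Ω' : Type v} [Group Ω] [Group Ω'] {S : Subgroup Ω} {T : Subgroup Ω'}
variable {F : FusionSystem S} {E : FusionSystem T} (j : SysEquiv F E)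

theorem fwd_inj {x y : Ω} (hx : x ∈ S) (hy : y ∈ S) (h : j.fwd x = j.fwd y) : x = y := by
  rw [← j.bwd_fwd x hx, ← j.bwd_fwd y hy, h]

theorem bwd_mul {x y : Ω'} (hx : x ∈ T) (hy : y ∈ T) : j.bwd (x * y) = j.bwd x * j.bwd y :=
  j.symm.fwd_mul x hx y hy

theorem img_mono {P Q : Subgroup Ω} (h : P ≤ Q) : j.img P ≤ j.img Q :=
  Subgroup.closure_mono (Set.image_mono h)

theorem img_symm_img {P' : Subgroup Ω'} (h : P' ≤ T) : j.img (j.symm.img P') = P' :=
  j.symm.symm_img_img h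

theorem img_top : j.img S = T := by
  refine le_antisymm (j.img_le le_rfl) fun y hy => ?_
  rw [← j.fwd_bwd y hy]
  exact j.fwd_mem_img (j.bwd_mem y hy)

theorem symm_img_le {P' : Subgroup Ω'} {U : Subgroup Ω} (hU : U ≤ S) (h : P' ≤ j.img U) :
    j.symm.img P' ≤ U := by
  intro x hx
  obtain ⟨y, hy, rfl⟩ := (j.symm.mem_img (h.trans (j.img_le hU))).1 hx
  exact j.bwd_mem_of_mem_img hU (h hy)

theorem img_sup {P Q : Subgroup Ω} (hP : P ≤ S) (hQ : Q ≤ S) :
    j.img (P ⊔ Q) = j.img P ⊔ j.img Q := by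
  refine le_antisymm ?_ (sup_le (img_mono j le_sup_left) (img_mono j le_sup_right))
  have h : P ⊔ Q ≤ j.symm.img (j.img P ⊔ j.img Q) := by
    refine sup_le (fun x hx => ?_) (fun x hx => ?_)
    · rw [← j.bwd_fwd x (hP hx)]
      exact j.symm.fwd_mem_img (Subgroup.mem_sup_left (j.fwd_mem_img hx))
    · rw [← j.bwd_fwd x (hQ hx)]
      exact j.symm.fwd_mem_img (Subgroup.mem_sup_right (j.fwd_mem_img hx))
  exact (img_mono j h).trans_eq (img_symm_img j (sup_le (j.img_le hP) (j.img_le hQ)))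

theorem mem_centralizer_img {P : Subgroup Ω} (hP : P ≤ S) {x : Ω} (hx : x ∈ S) :
    j.fwd x ∈ Subgroup.centralizer (j.img P : Set Ω') ↔ x ∈ Subgroup.centralizer (P : Set Ω) := by
  rw [Subgroup.mem_centralizer_iff, Subgroup.mem_centralizer_iff]
  constructor
  · intro h y hy
    refine fwd_inj j (S.mul_mem (hP hy) hx) (S.mul_mem hx (hP hy)) ?_
    rw [j.fwd_mul y (hP hy) x hx, j.fwd_mul x hx y (hP hy)]
    exact h _ (j.fwd_mem_img hy)
  · intro h y hy
    obtain ⟨z, hz, rfl⟩ := (j.mem_img hP).1 hy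
    rw [← j.fwd_mul z (hP hz) x hx, ← j.fwd_mul x hx z (hP hz), h z hz]

theorem img_centralizerIn {P : Subgroup Ω} (hP : P ≤ S) :
    j.img (centralizerIn S P) = centralizerIn T (j.img P) := by
  refine le_antisymm (fun y hy => ?_) fun y hy => ?_
  · obtain ⟨x, hx, rfl⟩ := (j.mem_img centralizerIn_le).1 hy
    exact ⟨j.fwd_mem x hx.1, (mem_centralizer_img j hP hx.1).2 hx.2⟩
  · rw [← j.fwd_bwd y hy.1]
    refine j.fwd_mem_img ⟨j.bwd_mem y hy.1, (mem_centralizer_img j hP (j.bwd_mem y hy.1)).1 ?_⟩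
    rw [j.fwd_bwd y hy.1]
    exact hy.2

/-- Transport of automorphisms of a subgroup. -/
def autCongr {P : Subgroup Ω} (hP : P ≤ S) : MulAut P ≃* MulAut (j.img P) :=
  MulAut.congr (j.imgEquiv hP)

theorem autCongr_apply {P : Subgroup Ω} (hP : P ≤ S) (α : MulAut P) {x : Ω} (hx : x ∈ P) :
    autMap (autCongr j hP α) (j.fwd x) = j.fwd (autMap α x) := by
  rw [autMap_apply _ (j.fwd_mem_img hx), autMap_apply α hx]
  show ((j.imgEquiv hP (α ((j.imgEquiv hP).symm (j.imgEquiv hP ⟨x, hx⟩)))) : Ω') = _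
  rw [MulEquiv.symm_apply_apply]
  rfl

theorem autCongr_mem_iff {P : Subgroup Ω} (hP : P ≤ S) {α : MulAut P} :
    autCongr j hP α ∈ E.autGroup (j.img P) ↔ α ∈ F.autGroup P := by
  rw [mem_autGroup_iff (j.img_le hP), mem_autGroup_iff hP]
  constructor
  · intro h
    have h' := j.hom' _ _ h
    rw [show imgTo j.bwd (j.img P) = P from j.symm_img_img hP] at h'
    refine h'.congr fun x hx => ?_
    show autMap α x = j.bwd (autMap (autCongr j hP α) (j.fwd x))
    rw [autCongr_apply j hP α hx, j.bwd_fwd _ (hP (autMap_mem α hx))]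
  · intro h
    refine (j.hom _ _ h).congr fun y hy => ?_
    obtain ⟨x, hx, rfl⟩ := (j.mem_img hP).1 hy
    show _ = j.fwd (autMap α (j.bwd (j.fwd x)))
    rw [j.bwd_fwd x (hP hx)]
    exact autCongr_apply j hP α hx

/-- The image of a subsystem. -/
noncomputable def imgSys {U : Subgroup Ω} {D : FusionSystem U} (hD : D.IsSubsystemOf F) :
    FusionSystem (j.img U) where
  Hom P' := {φ | P' ≤ j.img U ∧ φ ∈ E.Hom P' ∧
    IsMap D (j.symm.img P') (j.bwd ∘ homFun φ ∘ j.fwd)}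
  le_of_mem := by
    rintro P φ ⟨hP, hφ, hm⟩
    refine ⟨hP, fun x => ?_⟩
    have hU := le_of_isSubsystemOf hD
    have hxT : (x : Ω') ∈ T := (hP.trans (j.img_le hU)) x.2
    have h := hm.mem_S (j.symm.fwd_mem_img x.2)
    have h' : j.bwd (φ x) ∈ U := by
      rw [← homFun_coe φ x]
      have e : j.symm.fwd (x : Ω') = j.bwd x := rfl
      rw [e] at h
      simpa [Function.comp_apply, j.fwd_bwd _ hxT] using h
    rw [← j.fwd_bwd _ ((E.le_of_mem hφ).2 x)]
    exact j.fwd_mem_img h'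
  injective_of_mem h := E.injective_of_mem h.2.1
  conj_mem := by
    intro P g hP hg
    have hU := le_of_isSubsystemOf hD
    have hPT : P ≤ T := hP.trans (j.img_le hU)
    have hgT : g ∈ T := j.img_le hU hg
    refine ⟨hP, E.conj_mem hPT hgT, ?_⟩
    refine (isMap_conj D (symm_img_le j hU hP) (j.bwd_mem_of_mem_img hU hg)).congr fun x hx => ?_
    obtain ⟨y, hy, rfl⟩ := (j.symm.mem_img hPT).1 hx
    show j.bwd (homFun (conjHom P g) (j.fwd (j.bwd y))) = j.bwd g * j.bwd y * (j.bwd g)⁻¹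
    rw [j.fwd_bwd y (hPT hy), homFun_mem _ hy]
    exact j.symm.fwd_conj hgT (hPT hy)
  comp_mem := by
    rintro P Q φ ψ ⟨hP, hφ, hφm⟩ ⟨hQ, hψ, hψm⟩ h
    have hU := le_of_isSubsystemOf hD
    have hPT : P ≤ T := hP.trans (j.img_le hU)
    have hm : ∀ x ∈ j.symm.img P, (j.bwd ∘ homFun φ ∘ j.fwd) x ∈ j.symm.img Q := fun x hx => by
      obtain ⟨y, hy, rfl⟩ := (j.symm.mem_img hPT).1 hx
      show j.bwd (homFun φ (j.fwd (j.bwd y))) ∈ _
      rw [j.fwd_bwd y (hPT hy), homFun_mem φ hy]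
      exact j.symm.fwd_mem_img (h ⟨y, hy⟩)
    refine ⟨hP, E.comp_mem hφ hψ h, (hφm.comp hψm hm).congr fun x hx => ?_⟩
    obtain ⟨y, hy, rfl⟩ := (j.symm.mem_img hPT).1 hx
    show j.bwd (homFun (ψ.comp (φ.codRestrict Q h)) (j.fwd (j.bwd y))) =
      j.bwd (homFun ψ (j.fwd (j.bwd (homFun φ (j.fwd (j.bwd y))))))
    rw [j.fwd_bwd y (hPT hy), homFun_mem φ hy, j.fwd_bwd _ ((E.le_of_mem hφ).2 _), homFun_mem _ hy,
      homFun_mem ψ (h ⟨y, hy⟩)]
    rfl
  inv_mem := by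
    rintro P φ ⟨hP, hφ, hm⟩
    have hU := le_of_isSubsystemOf hD
    have hPT : P ≤ T := hP.trans (j.img_le hU)
    obtain ⟨ψ, hψ, hi⟩ := E.inv_mem hφ
    obtain ⟨g, hg, hgi⟩ := hm.exists_inv
    have hrT : φ.range ≤ T := by
      rintro _ ⟨x, rfl⟩; exact (E.le_of_mem hφ).2 x
    have himg : imgSub (j.bwd ∘ homFun φ ∘ j.fwd) (j.symm.img P) = j.symm.img φ.range := by
      ext z
      rw [hm.mem_imgSub, j.symm.mem_img hrT]
      constructor
      · rintro ⟨x, hx, rfl⟩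
        obtain ⟨y, hy, rfl⟩ := (j.symm.mem_img hPT).1 hx
        refine ⟨φ ⟨y, hy⟩, ⟨_, rfl⟩, ?_⟩
        show j.bwd (φ ⟨y, hy⟩) = j.bwd (homFun φ (j.fwd (j.bwd y)))
        rw [j.fwd_bwd y (hPT hy), homFun_mem φ hy]
      · rintro ⟨_, ⟨y, rfl⟩, rfl⟩
        refine ⟨_, j.symm.fwd_mem_img y.2, ?_⟩
        show j.bwd (homFun φ (j.fwd (j.bwd y))) = j.bwd (φ y)
        rw [j.fwd_bwd _ (hPT y.2), homFun_coe]
    have hr' : φ.range ≤ j.img U := by
      rintro _ ⟨y, rfl⟩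
      rw [← j.fwd_bwd _ ((E.le_of_mem hφ).2 y)]
      refine j.fwd_mem_img ?_
      have := hm.mem_S (j.symm.fwd_mem_img y.2)
      have e : j.symm.fwd (y : Ω') = j.bwd y := rfl
      rw [e] at this
      simpa [Function.comp_apply, j.fwd_bwd _ (hPT y.2), homFun_coe] using this
    rw [himg] at hg
    refine ⟨ψ, ⟨hr', hψ, hg.congr fun z hz => ?_⟩, hi⟩
    obtain ⟨_, ⟨y, rfl⟩, rfl⟩ := (j.symm.mem_img hrT).1 hz
    have hg' := hgi _ (j.symm.fwd_mem_img y.2)
    have e : j.symm.fwd (y : Ω') = j.bwd y := rfl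
    rw [e, Function.comp_apply, Function.comp_apply, j.fwd_bwd _ (hPT y.2), homFun_coe] at hg'
    show j.bwd (homFun ψ (j.fwd (j.bwd (φ y)))) = g (j.bwd (φ y))
    rw [j.fwd_bwd _ ((E.le_of_mem hφ).2 y), homFun_mem ψ ⟨y, rfl⟩, hg']
    exact congrArg j.bwd (hi y)

variable {U : Subgroup Ω} {D : FusionSystem U} (hD : D.IsSubsystemOf F)

theorem imgSys_sub : (imgSys j hD).IsSubsystemOf E := fun _ _ h => h.2.1

theorem isMap_imgSys {P : Subgroup Ω} {f : Ω → Ω} (h : IsMap D P f) :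
    IsMap (imgSys j hD) (j.img P) (j.fwd ∘ f ∘ j.bwd) := by
  have hF := isSubsystemOf_iff_isMap.1 hD P f h
  obtain ⟨φ, hφ, he⟩ := j.hom P f hF
  refine ⟨φ, ⟨img_mono j h.le, hφ, ?_⟩, he⟩
  rw [j.symm_img_img hF.le]
  refine h.congr fun x hx => ?_
  show j.bwd (homFun φ (j.fwd x)) = f x
  rw [homFun_mem φ (j.fwd_mem_img hx), he ⟨j.fwd x, j.fwd_mem_img hx⟩]
  show j.bwd (j.fwd (f (j.bwd (j.fwd x)))) = f x
  rw [j.bwd_fwd x (hF.le hx), j.bwd_fwd _ (hF.mem_S hx)]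

theorem isMap_of_imgSys {P' : Subgroup Ω'} {f : Ω' → Ω'} (h : IsMap (imgSys j hD) P' f) :
    IsMap D (j.symm.img P') (j.bwd ∘ f ∘ j.fwd) := by
  obtain ⟨φ, ⟨hP, -, hm⟩, he⟩ := h
  refine hm.congr fun x hx => ?_
  have hPT : P' ≤ T := hP.trans (j.img_le (le_of_isSubsystemOf hD))
  obtain ⟨y, hy, rfl⟩ := (j.symm.mem_img hPT).1 hx
  show j.bwd (f (j.fwd (j.bwd y))) = j.bwd (homFun φ (j.fwd (j.bwd y)))
  rw [j.fwd_bwd y (hPT hy), homFun_mem φ hy, he ⟨y, hy⟩]

/-- The restriction of the equivalence to a subsystem and its image. -/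
noncomputable def restrict : SysEquiv D (imgSys j hD) where
  fwd := j.fwd
  bwd := j.bwd
  fwd_mem _ hx := j.fwd_mem_img hx
  bwd_mem _ hy := j.bwd_mem_of_mem_img (le_of_isSubsystemOf hD) hy
  bwd_fwd x hx := j.bwd_fwd x (le_of_isSubsystemOf hD hx)
  fwd_bwd y hy := j.fwd_bwd y (j.img_le (le_of_isSubsystemOf hD) hy)
  fwd_mul x hx y hy := j.fwd_mul x (le_of_isSubsystemOf hD hx) y (le_of_isSubsystemOf hD hy)
  hom _ _ h := isMap_imgSys j hD h
  hom' _ _ h := isMap_of_imgSys j hD h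

/-- Composition of equivalences. -/
def trans {Ω'' : Type w} [Group Ω''] {R : Subgroup Ω''} {G : FusionSystem R} (k : SysEquiv E G) :
    SysEquiv F G where
  fwd := k.fwd ∘ j.fwd
  bwd := j.bwd ∘ k.bwd
  fwd_mem x hx := k.fwd_mem _ (j.fwd_mem x hx)
  bwd_mem y hy := j.bwd_mem _ (k.bwd_mem y hy)
  bwd_fwd x hx := by
    show j.bwd (k.bwd (k.fwd (j.fwd x))) = x
    rw [k.bwd_fwd _ (j.fwd_mem x hx), j.bwd_fwd x hx]
  fwd_bwd y hy := by
    show k.fwd (j.fwd (j.bwd (k.bwd y))) = y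
    rw [j.fwd_bwd _ (k.bwd_mem y hy), k.fwd_bwd y hy]
  fwd_mul x hx y hy := by
    show k.fwd (j.fwd (x * y)) = k.fwd (j.fwd x) * k.fwd (j.fwd y)
    rw [j.fwd_mul x hx y hy, k.fwd_mul _ (j.fwd_mem x hx) _ (j.fwd_mem y hy)]
  hom P f h := by
    have h1 := k.hom _ _ (j.hom P f h)
    have e : imgTo k.fwd (imgTo j.fwd P) = imgTo (k.fwd ∘ j.fwd) P := by
      apply SetLike.coe_injective
      rw [show (imgTo k.fwd (imgTo j.fwd P) : Set Ω'') = k.fwd '' (j.img P : Set Ω') from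
        k.coe_img (j.img_le h.le), j.coe_img h.le, ← Set.image_comp]
      refine Set.Subset.antisymm Subgroup.subset_closure ?_
      intro z hz
      induction hz using Subgroup.closure_induction with
      | mem z hz => exact hz
      | one => exact ⟨1, P.one_mem, by show k.fwd (j.fwd 1) = 1; rw [j.fwd_one, k.fwd_one]⟩
      | mul a b _ _ ha hb =>
        obtain ⟨x, hx, rfl⟩ := ha
        obtain ⟨y, hy, rfl⟩ := hb
        refine ⟨x * y, P.mul_mem hx hy, ?_⟩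
        show k.fwd (j.fwd (x * y)) = k.fwd (j.fwd x) * k.fwd (j.fwd y)
        rw [j.fwd_mul x (h.le hx) y (h.le hy),
          k.fwd_mul _ (j.fwd_mem x (h.le hx)) _ (j.fwd_mem y (h.le hy))]
      | inv a _ ha =>
        obtain ⟨x, hx, rfl⟩ := ha
        refine ⟨x⁻¹, P.inv_mem hx, ?_⟩
        show k.fwd (j.fwd x⁻¹) = (k.fwd (j.fwd x))⁻¹
        rw [j.fwd_inv (h.le hx), k.fwd_inv (j.fwd_mem x (h.le hx))]
    rw [e] at h1
    exact h1
  hom' P f h := by
    have h1 := j.hom' _ _ (k.hom' P f h)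
    have e : imgTo j.bwd (imgTo k.bwd P) = imgTo (j.bwd ∘ k.bwd) P := by
      apply SetLike.coe_injective
      rw [show (imgTo j.bwd (imgTo k.bwd P) : Set Ω) = j.symm.fwd '' (k.symm.img P : Set Ω') from
        j.symm.coe_img (k.symm.img_le h.le), k.symm.coe_img h.le, ← Set.image_comp]
      refine Set.Subset.antisymm Subgroup.subset_closure ?_
      intro z hz
      induction hz using Subgroup.closure_induction with
      | mem z hz => exact hz
      | one => exact ⟨1, P.one_mem, by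
          show j.symm.fwd (k.symm.fwd 1) = 1; rw [k.symm.fwd_one, j.symm.fwd_one]⟩
      | mul a b _ _ ha hb =>
        obtain ⟨x, hx, rfl⟩ := ha
        obtain ⟨y, hy, rfl⟩ := hb
        refine ⟨x * y, P.mul_mem hx hy, ?_⟩
        show j.symm.fwd (k.symm.fwd (x * y)) =
          j.symm.fwd (k.symm.fwd x) * j.symm.fwd (k.symm.fwd y)
        rw [k.symm.fwd_mul x (h.le hx) y (h.le hy), j.symm.fwd_mul _ (k.symm.fwd_mem x (h.le hx))
          _ (k.symm.fwd_mem y (h.le hy))]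
      | inv a _ ha =>
        obtain ⟨x, hx, rfl⟩ := ha
        refine ⟨x⁻¹, P.inv_mem hx, ?_⟩
        show j.symm.fwd (k.symm.fwd x⁻¹) = (j.symm.fwd (k.symm.fwd x))⁻¹
        rw [k.symm.fwd_inv (h.le hx), j.symm.fwd_inv (k.symm.fwd_mem x (h.le hx))]
    rw [e] at h1
    exact h1

include j in
theorem finite_target [Finite S] : Finite T :=
  Finite.of_surjective (fun x : S => (⟨j.fwd x, j.fwd_mem x x.2⟩ : T)) fun y =>
    ⟨⟨j.bwd y, j.bwd_mem y y.2⟩, Subtype.ext (j.fwd_bwd y y.2)⟩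

/-- The underlying isomorphism. -/
def baseEquiv : S ≃* T where
  toFun x := ⟨j.fwd x, j.fwd_mem x x.2⟩
  invFun y := ⟨j.bwd y, j.bwd_mem y y.2⟩
  left_inv x := Subtype.ext (j.bwd_fwd x x.2)
  right_inv y := Subtype.ext (j.fwd_bwd y y.2)
  map_mul' x y := Subtype.ext (j.fwd_mul x x.2 y y.2)

include j in
theorem isPGroup_target {p : ℕ} (hS : IsPGroup p S) : IsPGroup p T := hS.of_equiv (baseEquiv j)

include j in
theorem isSaturated_target [Finite S] {p : ℕ} [Fact p.Prime] (hS : IsPGroup p S)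
    (hF : F.IsSaturated p) : E.IsSaturated p := by
  haveI := finite_target j
  exact j.symm.isSaturated (isPGroup_target j hS) hS hF

theorem stronglyClosed_img (hU : F.StronglyClosed U) : E.StronglyClosed (j.img U) := by
  obtain ⟨hUS, h⟩ := stronglyClosed_iff.1 hU
  refine stronglyClosed_iff.2 ⟨j.img_le hUS, fun R f hR hf x hx => ?_⟩
  have h1 := h _ _ (symm_img_le j hUS hR) (j.hom' R f hf) (j.bwd x) (j.symm.fwd_mem_img hx)
  have hxT : x ∈ T := hf.le hx
  rw [Function.comp_apply, Function.comp_apply, j.fwd_bwd x hxT] at h1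
  rw [← j.fwd_bwd _ (hf.mem_S hx)]
  exact j.fwd_mem_img h1

end Cfsg.Agent.H59.Transp
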