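import Cfsg.Agent.H59.Transport

/-!
Normal and subnormal subsystems are carried to normal and subnormal subsystems by isomorphisms of fusion systems.
-/

set_option autoImplicit false

namespace Cfsg.Agent.H59.Transp

open Cfsg Cfsg.FusionSystem Cfsg.Agent.FusionSys

universe u v

variable {Ω : Type u} {Ω' : Type v} [Group Ω] [Group Ω'] {S U : Subgroup Ω} {T : Subgroup Ω'}
variable {F : FusionSystem S} {D : FusionSystem U} {E : FusionSystem T}

theorem imgTo_autMap {A B : Subgroup Ω} (hB : B ≤ A) (α : MulAut A) :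
    (B.subgroupOf A).map (A.subtype.comp α.toMonoidHom) = imgTo (autMap α) B := by
  refine le_antisymm ?_ ((Subgroup.closure_le _).2 ?_)
  · rintro _ ⟨x, hx, rfl⟩
    refine Subgroup.subset_closure ⟨x, hx, ?_⟩
    rw [autMap_coe]; rfl
  · rintro _ ⟨x, hx, rfl⟩
    refine ⟨⟨x, hB hx⟩, hx, ?_⟩
    rw [autMap_apply _ (hB hx)]; rfl

theorem isInvariant_iff_isMap :
    D.IsInvariantIn F ↔ D.IsSubsystemOf F ∧ F.StronglyClosed U ∧
      (∀ P f, IsMap D P f → ∀ α ∈ F.autGroup U,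
        IsMap D (imgTo (autMap α) P) (autMap α ∘ f ∘ autMap α⁻¹)) ∧
      ∀ P f, P ≤ U → IsMap F P f → ∃ α ∈ F.autGroup U, ∃ g, IsMap D P g ∧
        ∀ x ∈ P, f x = autMap α (g x) := by
  constructor
  · rintro ⟨h1, h2, h3, h4⟩
    refine ⟨h1, h2, fun P f hf α hα => ?_, fun P f hP hf => ?_⟩
    · obtain ⟨φ, hφ, he⟩ := hf
      have hPU := (D.le_of_mem hφ).1
      obtain ⟨χ, hχ, hχe⟩ := h3 P hPU φ hφ α hα
      rw [← imgTo_autMap hPU α]
      refine ⟨χ, hχ, ?_⟩
      rintro ⟨y, hy⟩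
      obtain ⟨x, hx, rfl⟩ := hy
      have h := hχe ⟨x, hx⟩ ((D.le_of_mem hφ).2 ⟨x, hx⟩) ⟨x, hx, rfl⟩
      refine h.trans ?_
      show _ = autMap α (f (autMap α⁻¹ ((α x : U) : Ω)))
      rw [← autMap_coe α x, ← autMap_mul _ _ x.2, inv_mul_cancel, autMap_coe]
      show _ = autMap α (f (x : Ω))
      rw [← he ⟨x, hx⟩, autMap_apply α ((D.le_of_mem hφ).2 ⟨x, hx⟩)]
    · obtain ⟨φ, hφ, he⟩ := hf
      obtain ⟨α, hα, φ₀, hφ₀, h⟩ := h4 P hP φ hφ
      refine ⟨α, hα, homFun φ₀, isMap_of_mem hφ₀, fun x hx => ?_⟩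
      rw [homFun_mem φ₀ hx, autMap_apply α ((D.le_of_mem hφ₀).2 ⟨x, hx⟩), ← he ⟨x, hx⟩]
      exact h ⟨x, hx⟩ _
  · rintro ⟨h1, h2, h3, h4⟩
    refine ⟨h1, h2, fun P hP φ hφ α hα => ?_, fun P hP φ hφ => ?_⟩
    · obtain ⟨χ, hχ, he⟩ := h3 P _ (isMap_of_mem hφ) α hα
      rw [imgTo_autMap hP α]
      refine ⟨χ, hχ, fun x hφx hαx => ?_⟩
      rw [he ⟨_, hαx⟩]
      show autMap α (homFun φ (autMap α⁻¹ ((α ⟨x, hP x.2⟩ : U) : Ω))) = _
      rw [← autMap_coe α, ← autMap_mul _ _ (hP x.2), inv_mul_cancel, autMap_apply (1 : MulAut U) (hP x.2)]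
      show autMap α (homFun φ (x : Ω)) = _
      rw [homFun_coe, autMap_apply α hφx]
    · obtain ⟨α, hα, g, ⟨φ₀, hφ₀, hg⟩, h⟩ := h4 P _ hP (isMap_of_mem hφ)
      refine ⟨α, hα, φ₀, hφ₀, fun x hx => ?_⟩
      rw [← homFun_coe φ x, h x x.2, ← hg x, autMap_apply α hx]

theorem exists_aut_cast {G : FusionSystem T} {W W' : Subgroup Ω'} (h : W = W') {β : MulAut W}
    (hβ : β ∈ G.autGroup W) : ∃ β' ∈ G.autGroup W', ∀ x ∈ W', autMap β' x = autMap β x := by
  subst h
  exact ⟨β, hβ, fun _ _ => rfl⟩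

variable (j : SysEquiv F E)

theorem isInvariantIn_img (hD : D.IsInvariantIn F) :
    (imgSys j hD.1).IsInvariantIn E := by
  obtain ⟨h1, h2, h3, h4⟩ := isInvariant_iff_isMap.1 hD
  have hUS : U ≤ S := h2.1
  refine isInvariant_iff_isMap.2 ⟨imgSys_sub j _, stronglyClosed_img j h2, fun P f hf α hα => ?_,
    fun P f hP hf => ?_⟩
  · obtain ⟨a, rfl⟩ := (autCongr j hUS).surjective α
    rw [autCongr_mem_iff] at hα
    have hback := isMap_of_imgSys j hD.1 hf
    have hm := isMap_imgSys j hD.1 (h3 _ _ hback a hα)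
    have hPU : P ≤ j.img U := hf.le
    have hPT : P ≤ T := hPU.trans (j.img_le hUS)
    have himg : j.img (imgTo (autMap a) (j.symm.img P)) = imgTo (autMap (autCongr j hUS a)) P := by
      refine le_antisymm ((Subgroup.closure_le _).2 ?_) ((Subgroup.closure_le _).2 ?_)
      · rintro _ ⟨z, hz, rfl⟩
        rw [← imgTo_autMap (symm_img_le j hUS hPU) a] at hz
        obtain ⟨x, hx, rfl⟩ := hz
        obtain ⟨y, hy, hye⟩ := (j.symm.mem_img hPT).1 hx
        refine Subgroup.subset_closure ⟨y, hy, ?_⟩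
        have hye' : j.bwd y = (x : Ω) := hye
        rw [show y = j.fwd (x : Ω) by rw [← hye', j.fwd_bwd y (hPT hy)],
          autCongr_apply j hUS a x.2, autMap_coe]
        rfl
      · rintro _ ⟨y, hy, rfl⟩
        rw [show y = j.fwd (j.bwd y) from (j.fwd_bwd y (hPT hy)).symm,
          autCongr_apply j hUS a (j.bwd_mem_of_mem_img hUS (hPU hy))]
        exact j.fwd_mem_img (Subgroup.subset_closure ⟨_, j.symm.fwd_mem_img hy, rfl⟩)
    rw [himg] at hm
    refine hm.congr fun y hy => ?_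
    rw [← imgTo_autMap hPU] at hy
    obtain ⟨z, hz, rfl⟩ := hy
    show autMap (autCongr j hUS a) (f (autMap (autCongr j hUS a)⁻¹ ((autCongr j hUS a z : _) : Ω'))) =
      j.fwd (autMap a (j.bwd (f (j.fwd (autMap a⁻¹ (j.bwd ((autCongr j hUS a z : _) : Ω')))))))
    rw [← autMap_coe (autCongr j hUS a), ← autMap_mul _ _ z.2, inv_mul_cancel, autMap_coe]
    have hbz : j.bwd (z : Ω') ∈ U := j.bwd_mem_of_mem_img hUS z.2
    have e1 : autMap (autCongr j hUS a) (z : Ω') = j.fwd (autMap a (j.bwd (z : Ω'))) := by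
      conv_lhs => rw [← j.fwd_bwd (z : Ω') (j.img_le hUS z.2)]
      exact autCongr_apply j hUS a hbz
    rw [e1, j.bwd_fwd _ (hUS (autMap_mem a hbz)), ← autMap_mul _ _ hbz, inv_mul_cancel]
    have hone : autMap (1 : MulAut U) (j.bwd (z : Ω')) = j.bwd (z : Ω') := by
      rw [autMap_apply _ hbz]; rfl
    rw [hone, j.fwd_bwd _ (j.img_le hUS z.2)]
    have hfz : f (z : Ω') ∈ j.img U := hf.mem_S hz
    conv_lhs => rw [show ((1 : MulAut (j.img U)) z : Ω') = z from rfl,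
      ← j.fwd_bwd _ (j.img_le hUS hfz)]
    exact autCongr_apply j hUS a (j.bwd_mem_of_mem_img hUS hfz)
  · have hPT : P ≤ T := hP.trans (j.img_le hUS)
    obtain ⟨a, ha, g, hg, he⟩ := h4 _ _ (symm_img_le j hUS hP) (j.hom' P f hf)
    refine ⟨autCongr j hUS a, (autCongr_mem_iff j hUS).2 ha, j.fwd ∘ g ∘ j.bwd, ?_, fun y hy => ?_⟩
    · have := isMap_imgSys j hD.1 hg
      rwa [img_symm_img j hPT] at this
    · have hb : j.bwd y ∈ j.symm.img P := j.symm.fwd_mem_img hy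
      have h := he _ hb
      rw [Function.comp_apply, Function.comp_apply, j.fwd_bwd y (hPT hy)] at h
      show f y = autMap (autCongr j hUS a) (j.fwd (g (j.bwd y)))
      rw [autCongr_apply j hUS a (hg.mem_S hb), ← h, j.fwd_bwd _ (hf.mem_S hy)]

theorem isNormalIn_img [Finite S] {p : ℕ} [Fact p.Prime] (hS : IsPGroup p S)
    (hD : D.IsNormalIn F p) : (imgSys j hD.1.2.2.1).IsNormalIn E p := by
  obtain ⟨⟨hDs, hFs, hinv⟩, hext⟩ := hD
  have hUS : U ≤ S := hinv.2.1.1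
  haveI : Finite U := finite_of_le hUS
  refine ⟨⟨isSaturated_target (restrict j hinv.1) (hS.to_le hUS) hDs, isSaturated_target j hS hFs,
    isInvariantIn_img j hinv⟩, fun α hα => ?_⟩
  obtain ⟨a, rfl⟩ := (autCongr j hUS).surjective α
  have ha : a ∈ D.autGroup U :=
    (autCongr_mem_iff (restrict j hinv.1) (le_refl U)).1 (by exact hα)
  obtain ⟨b, hb, hbe, hbc⟩ := hext a ha
  have hW : U ⊔ centralizerIn S U ≤ S := sup_le hUS centralizerIn_le
  have himg : j.img (U ⊔ centralizerIn S U) = j.img U ⊔ centralizerIn T (j.img U) := by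
    rw [img_sup j hUS centralizerIn_le, img_centralizerIn j hUS]
  obtain ⟨β, hβ, hβe⟩ := exists_aut_cast himg ((autCongr_mem_iff j hW).2 hb)
  refine ⟨β, hβ, fun x => ?_, fun c hc => ?_⟩
  · rw [← autMap_coe β, Subgroup.coe_inclusion, hβe _ (Subgroup.mem_sup_left x.2), ← autMap_coe (autCongr j hUS a)]
    obtain ⟨y, hy, hye⟩ := (j.mem_img hUS).1 x.2
    rw [← hye, autCongr_apply j hW b (Subgroup.mem_sup_left hy), autCongr_apply j hUS a hy]
    congr 1
    have := hbe ⟨y, hy⟩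
    rw [← autMap_coe b, ← autMap_coe a] at this
    simpa using this
  · rw [← autMap_coe β, hβe _ c.2]
    obtain ⟨y, hy, hye⟩ := (j.mem_img centralizerIn_le).1 ((img_centralizerIn j hUS).ge hc)
    rw [← hye, autCongr_apply j hW b (Subgroup.mem_sup_right hy)]
    have h := hbc ⟨y, Subgroup.mem_sup_right hy⟩ hy
    rw [← autMap_coe b] at h
    have hyS : y ∈ S := hy.1
    have hbyS : autMap b y ∈ S := hW (autMap_mem b (Subgroup.mem_sup_right hy))
    rw [← j.fwd_inv hyS, ← j.fwd_mul _ (S.inv_mem hyS) _ hbyS]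
    exact ⟨j.fwd_mem_img h.1, (mem_centralizer_img j hUS (hUS h.1)).2 h.2⟩

/-- Subnormal subsystems are carried to subnormal subsystems. -/
theorem exists_subnormal_img {p : ℕ} (h : D.IsSubnormalIn F p) :
    ∀ {Θ : Type v} [Group Θ] {R : Subgroup Θ} {G : FusionSystem R} (j : SysEquiv F G),
      Fact p.Prime → Finite S → IsPGroup p S →
      ∃ (R' : Subgroup Θ) (G' : FusionSystem R'), G'.IsSubnormalIn G p ∧
        ∃ j' : SysEquiv D G', j'.fwd = j.fwd := by
  induction h with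
  | refl F p => exact fun {Θ} _ {R} {G} j _ _ _ => ⟨R, G, .refl G p, j, rfl⟩
  | @step U₀ S₀ E₀ D₀ F₀ p₀ _ hn ih =>
    intro Θ _ R G j hp hfin hS
    have hUS : U₀ ≤ S₀ := hn.1.2.2.2.1.1
    haveI := hp
    haveI : Finite S₀ := hfin
    obtain ⟨R', G', h', j', hj'⟩ := ih (restrict j hn.1.2.2.1) hp (finite_of_le hUS) (hS.to_le hUS)
    exact ⟨R', G', .step h' (isNormalIn_img j hS hn), j', hj'⟩

theorem subnormal_le {p : ℕ} (h : D.IsSubnormalIn F p) : U ≤ S := by
  induction h with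
  | refl F p => exact le_rfl
  | step _ hn ih => exact ih.trans hn.1.2.2.2.1.1

theorem subnormal_sub {p : ℕ} (h : D.IsSubnormalIn F p) : D.IsSubsystemOf F := by
  induction h with
  | refl F p => exact fun _ _ hx => hx
  | step _ hn ih => exact fun P x hx => hn.1.2.2.1 P (ih P hx)

end Cfsg.Agent.H59.Transp
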