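import Cfsg.Agent.H60.Basic
import Cfsg.Agent.H59.PReduced
import Cfsg.Prelude.Def_LocalStructure

/-!
# Weakly closed p-subgroups
-/

set_option autoImplicit false

namespace Cfsg.Agent.H59

open Subgroup
open scoped Pointwise commutatorElement

variable {G : Type*} [Group G] {p : ℕ}

open H60 (cj cj_cj cj_one cj_inj cj_eq_self_iff cj_le_iff isPGroup_cj)

/-- Mutually normalizing conjugates are equal. -/
def MutualEq (Q : Subgroup G) : Prop :=
  ∀ g : G, ⁅Q, cj Q g⁆ ≤ Q ⊓ cj Q g → cj Q g = Q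

theorem commutator_le_inf_iff {A B : Subgroup G} :
    ⁅A, B⁆ ≤ A ⊓ B ↔ A ≤ normalizer (B : Set G) ∧ B ≤ normalizer (A : Set G) := by
  rw [le_inf_iff, le_normalizer_iff_commutator_le_right, le_normalizer_iff_commutator_le_left, and_comm]

theorem eq_of_isWeaklyClosed [Finite G] [Fact p.Prime] {Q : Subgroup G}
    (h : Cfsg.IsWeaklyClosedSubgroup p Q) {R : Subgroup G} (hR : IsPGroup p R) (hQR : Q ≤ R) {g : G}
    (hg : cj Q g ≤ R) : cj Q g = Q := by
  obtain ⟨T, -, hT⟩ := h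
  obtain ⟨T', hT'⟩ := hR.exists_le_sylow
  obtain ⟨x, hx⟩ := MulAction.exists_smul_eq G T' T
  have hxT : cj (T' : Subgroup G) x = T := by rw [← hx]; rfl
  have h1 := hT x (hxT ▸ H60.cj_mono (hQR.trans hT') x)
  have h2 := hT (x * g) (by rw [← hxT]; change cj Q (x * g) ≤ _; rw [← cj_cj]; exact H60.cj_mono (hg.trans hT') x)
  refine (cj_inj (g := x)).mp ?_
  rw [cj_cj]
  exact h2.trans h1.symm

theorem normalizer_le_of_isWeaklyClosed [Finite G] [Fact p.Prime] {Q : Subgroup G}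
    (h : Cfsg.IsWeaklyClosedSubgroup p Q) {R : Subgroup G} (hR : IsPGroup p R) (hQR : Q ≤ R) :
    normalizer (R : Set G) ≤ normalizer (Q : Set G) := fun g hg =>
  cj_eq_self_iff.mp (eq_of_isWeaklyClosed h hR hQR
    ((H60.cj_mono hQR g).trans (cj_eq_self_iff.mpr hg).le))

theorem mutualEq_of_isWeaklyClosed [Finite G] [Fact p.Prime] {Q : Subgroup G} (hQ : IsPGroup p Q)
    (h : Cfsg.IsWeaklyClosedSubgroup p Q) : MutualEq Q := fun g hg =>
  eq_of_isWeaklyClosed h (hQ.to_sup_of_normal_right' (isPGroup_cj hQ g) (commutator_le_inf_iff.mp hg).1)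
    le_sup_left le_sup_right

theorem le_normalizer_of_mutualEq [Finite G] [Fact p.Prime] {Q : Subgroup G} (h : MutualEq Q)
    {R : Subgroup G} (hR : IsPGroup p R) (hQR : Q ≤ R) : R ≤ normalizer (Q : Set G) := by
  set N := R ⊓ normalizer (Q : Set G) with hN
  rcases eq_or_lt_of_le (inf_le_left : N ≤ R) with he | hlt
  · exact he ▸ inf_le_right
  exfalso
  obtain ⟨x, hxR, hxN, hx⟩ : ∃ x ∈ R, x ∉ N ∧ x ∈ normalizer (N : Set G) := by
    have hne : N.subgroupOf R ≠ ⊤ := fun h => hlt.not_ge (subgroupOf_eq_top.mp h)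
    obtain ⟨x, hx, hxn⟩ := SetLike.exists_of_lt (PGroups.lt_normalizer hR hne)
    exact ⟨x, x.2, hxn, Subgroup.le_normalizer_map R.subtype (mem_map_of_mem R.subtype hx)
      |> fun h' => by rwa [subgroupOf_map_subtype, inf_of_le_left hlt.le] at h'⟩
  have hQN : Q ≤ N := le_inf hQR Subgroup.le_normalizer
  have h1 : cj Q x ≤ N := (H60.cj_mono hQN x).trans (cj_eq_self_iff.mpr hx).le
  have h2 : Q ≤ normalizer (cj Q x : Set G) := by
    rw [← H60.cj_normalizer]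
    refine (H60.le_cj_iff x).mpr ((H60.cj_mono hQN x⁻¹).trans ?_)
    rw [cj_eq_self_iff.mpr (inv_mem hx)]
    exact inf_le_right
  exact hxN ⟨hxR, cj_eq_self_iff.mp (h x (commutator_le_inf_iff.mpr ⟨h2, h1.trans inf_le_right⟩))⟩

theorem mutualEq_cj {Q : Subgroup G} (h : MutualEq Q) (x : G) : MutualEq (cj Q x) := by
  intro g hg
  rw [commutator_le_inf_iff, ← H60.cj_normalizer, ← H60.cj_normalizer, cj_cj, cj_cj] at hg
  rw [cj_cj]
  have h1 := h (x⁻¹ * (g * x)) (commutator_le_inf_iff.mpr ⟨?_, ?_⟩)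
  · have := congrArg (fun A => cj A x) h1
    simpa only [cj_cj, mul_inv_cancel_left] using this
  · have := H60.cj_mono hg.1 x⁻¹
    rw [cj_cj, cj_cj, inv_mul_cancel, cj_one] at this
    rwa [← H60.cj_normalizer]
  · have := H60.cj_mono hg.2 x⁻¹
    rwa [cj_cj, cj_cj, inv_mul_cancel, cj_one] at this

theorem isWeaklyClosed_of_mutualEq [Finite G] [Fact p.Prime] {Q : Subgroup G} (hQ : IsPGroup p Q)
    (h : MutualEq Q) : Cfsg.IsWeaklyClosedSubgroup p Q := by
  obtain ⟨T, hT⟩ := hQ.exists_le_sylow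
  refine ⟨T, hT, fun g hg => h g (commutator_le_inf_iff.mpr ⟨?_, ?_⟩)⟩
  · exact hT.trans (le_normalizer_of_mutualEq (mutualEq_cj h g) T.isPGroup' hg)
  · exact hg.trans (le_normalizer_of_mutualEq h T.isPGroup' hT)

theorem isWeaklyClosed_of_normalizer_le [Finite G] [Fact p.Prime] {Q : Subgroup G} (hQ : IsPGroup p Q)
    (h : ∀ R : Subgroup G, IsPGroup p R → Q ≤ R → normalizer (R : Set G) ≤ normalizer (Q : Set G)) :
    Cfsg.IsWeaklyClosedSubgroup p Q := by
  obtain ⟨T, hT⟩ := hQ.exists_le_sylow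
  refine ⟨T, hT, fun g hg => ?_⟩
  set U := cj (T : Subgroup G) g⁻¹ with hU
  have hQU : Q ≤ U := (H60.le_cj_iff g⁻¹).mpr (by rwa [inv_inv])
  set N := normalizer (Q : Set G) with hN
  have hUN : U ≤ N := Subgroup.le_normalizer.trans (h U (isPGroup_cj T.isPGroup' _) hQU)
  have hTN : (T : Subgroup G) ≤ N := Subgroup.le_normalizer.trans (h _ T.isPGroup' hT)
  obtain ⟨n, hn⟩ := MulAction.exists_smul_eq N (T.subtype hTN) ((g⁻¹ • T).subtype hUN)
  have h1 : cj (T : Subgroup G) (n : G) = U := by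
    have h2 : ((n • T.subtype hTN : Sylow p N) : Subgroup N).map N.subtype = U := by
      rw [hn]
      exact (subgroupOf_map_subtype U N).trans (inf_of_le_left hUN)
    rw [← h2]
    ext y
    constructor
    · rintro ⟨t, ht, rfl⟩
      exact ⟨n * ⟨t, hTN ht⟩ * n⁻¹, ⟨⟨t, hTN ht⟩, ht, rfl⟩, rfl⟩
    · rintro ⟨_, ⟨t, ht, rfl⟩, rfl⟩
      exact ⟨t, ht, rfl⟩
  have h4 : g * n ∈ normalizer ((T : Subgroup G) : Set G) := cj_eq_self_iff.mp (by
    rw [← cj_cj, h1, hU, cj_cj, mul_inv_cancel, cj_one])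
  have := mul_mem (h _ T.isPGroup' hT h4) (inv_mem n.2)
  rw [mul_inv_cancel_right] at this
  exact cj_eq_self_iff.mpr this

theorem isWeaklyClosed_subgroupOf [Finite G] [Fact p.Prime] {Q K : Subgroup G} (hQ : IsPGroup p Q)
    (h : Cfsg.IsWeaklyClosedSubgroup p Q) (hQK : Q ≤ K) :
    Cfsg.IsWeaklyClosedSubgroup p (Q.subgroupOf K) := by
  refine isWeaklyClosed_of_normalizer_le hQ.comap_subtype fun R hR hQR k hk => ?_
  have h1 := normalizer_le_of_isWeaklyClosed h (hR.map K.subtype)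
    (fun q hq => ⟨⟨q, hQK hq⟩, hQR hq, rfl⟩) (Subgroup.le_normalizer_map K.subtype (mem_map_of_mem _ hk))
  exact mem_normalizer_iff.mpr fun x => mem_normalizer_iff.mp h1 x

theorem exists_conj_of_le [Finite G] [Fact p.Prime] {Q K : Subgroup G} (hQ : IsPGroup p Q)
    (h : Cfsg.IsWeaklyClosedSubgroup p Q) (hQK : Q ≤ K) {g : G} (hg : cj Q g ≤ K) :
    ∃ k ∈ K, cj Q g = cj Q k := by
  obtain ⟨P, hP⟩ := (hQ.comap_subtype : IsPGroup p (Q.subgroupOf K)).exists_le_sylow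
  obtain ⟨P', hP'⟩ := ((isPGroup_cj hQ g).comap_subtype :
    IsPGroup p ((cj Q g).subgroupOf K)).exists_le_sylow
  obtain ⟨k, hk⟩ := MulAction.exists_smul_eq K P' P
  refine ⟨(k : G)⁻¹, inv_mem k.2, ?_⟩
  have h1 : cj Q ((k : G) * g) = Q := by
    refine eq_of_isWeaklyClosed h (R := (P : Subgroup K).map K.subtype) (P.isPGroup'.map _)
      (fun q hq => ⟨⟨q, hQK hq⟩, hP hq, rfl⟩) ?_
    rw [← cj_cj]
    rintro _ ⟨y, hy, rfl⟩
    exact ⟨k * ⟨y, hg hy⟩ * k⁻¹, by rw [← hk]; exact ⟨_, hP' hy, rfl⟩, rfl⟩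
  have := congrArg (fun A => cj A (k : G)⁻¹) h1
  simpa only [cj_cj, inv_mul_cancel_left] using this

theorem le_normalizer_sylow [Finite G] [Fact p.Prime] {Q K : Subgroup G} (hQ : IsPGroup p Q)
    (h : Cfsg.IsWeaklyClosedSubgroup p Q) (hQK : Q ≤ K) :
    ∃ P : Sylow p K, (P : Subgroup K).map K.subtype ≤ normalizer (Q : Set G) := by
  obtain ⟨P, hP⟩ := (hQ.comap_subtype : IsPGroup p (Q.subgroupOf K)).exists_le_sylow
  exact ⟨P, Subgroup.le_normalizer.trans (normalizer_le_of_isWeaklyClosed h (P.isPGroup'.map _)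
    fun q hq => ⟨⟨q, hQK hq⟩, hP hq, rfl⟩)⟩

/-- Frattini argument for weakly closed subgroups. -/
theorem exists_mul_mem_commutator [Finite G] [Fact p.Prime] {Q N : Subgroup G} [N.Normal] (hQ : IsPGroup p Q)
    (h : Cfsg.IsWeaklyClosedSubgroup p Q) {n : G} (hn : n ∈ N) :
    ∃ a ∈ N ⊓ normalizer (Q : Set G), ∃ b ∈ ⁅N, Q⁆, n = a * b := by
  set W := ⁅N, Q⁆ with hW
  have hNW : N ≤ normalizer (W : Set G) := normalizer_commutator_ge_left N Q
  have hQW : Q ≤ normalizer (W : Set G) := normalizer_commutator_ge_right N Q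
  have hWN : W ≤ N := Subgroup.commutator_le_left N Q
  have hg : cj Q n ≤ Q ⊔ W := by
    rintro _ ⟨q, hq, rfl⟩
    have := mul_mem (mem_sup_right (S := Q) (commutator_mem_commutator hn hq)) (mem_sup_left (T := W) hq)
    rw [commutatorElement_def, inv_mul_cancel_right] at this
    exact this
  obtain ⟨k, hk, he⟩ := exists_conj_of_le hQ h le_sup_left hg
  rw [← SetLike.mem_coe, sup_comm, Subgroup.coe_mul_of_right_le_normalizer_left W Q hQW] at hk
  obtain ⟨w, hw, q, hq, rfl⟩ := hk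
  have h2 : cj Q (w * q) = cj Q w := by rw [← cj_cj, cj_eq_self_iff.mpr (Subgroup.le_normalizer hq)]
  rw [h2] at he
  have ha : w⁻¹ * n ∈ normalizer (Q : Set G) := cj_eq_self_iff.mp (by
    rw [← cj_cj, he, cj_cj, inv_mul_cancel, cj_one])
  have haN : w⁻¹ * n ∈ N := mul_mem (inv_mem (hWN hw)) hn
  refine ⟨w⁻¹ * n, ⟨haN, ha⟩, (w⁻¹ * n)⁻¹ * w * (w⁻¹ * n)⁻¹⁻¹,
    (mem_normalizer_iff.mp (hNW (inv_mem haN)) w).mp hw, ?_⟩
  group

end Cfsg.Agent.H59
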