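import Cfsg.Agent.H59.PReduced

/-!
# The closure `Z_L` of the central elements of order `p` and `Y_L`
-/

set_option autoImplicit false

namespace Cfsg.Agent.H59

open Subgroup
open scoped Pointwise

variable {G : Type*} [Group G] {p : ℕ}

theorem sylowCenterClosure_le_yOf [Finite G] [Fact p.Prime] {L : Subgroup G}
    (hL : centralizer (Cfsg.pCore p ↥L : Set ↥L) ≤ Cfsg.pCore p ↥L) :
    Cfsg.sylowCenterClosure p L ≤ Cfsg.largestPReducedOf p L := by
  refine iSup_le fun S => (closure_le _).mpr ?_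
  rintro x ⟨⟨⟨s, hs, rfl⟩, hxc⟩, hxp⟩
  have hc : center ↥(S : Subgroup L) ≤ centralizer (center ↥(S : Subgroup L) : Set ↥(S : Subgroup L)) :=
    fun a _ b hb => ((mem_center_iff.mp hb) a).symm
  set X : Subgroup ↥(S : Subgroup L) := omegaAb p (center ↥(S : Subgroup L)) hc with hX
  have hXn : X.Normal := ⟨fun v hv g => ⟨Normal.conj_mem inferInstance v hv.1 g, by
    rw [conj_pow, hv.2, mul_one, mul_inv_cancel]⟩⟩
  have hred : Cfsg.IsPReducedNormal p X :=
    isPReducedNormal_iff.mpr ⟨isElementaryAbelian_omegaAb _ hc,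
      fun N _ _ n _ v hv => ((mem_center_iff.mp hv.1) n).symm⟩
  have hsX : (⟨s, hs⟩ : ↥(S : Subgroup L)) ∈ X := by
    refine ⟨mem_center_iff.mpr fun t => Subtype.ext (Subtype.ext ?_), Subtype.ext (Subtype.ext ?_)⟩
    · exact hxc _ (mem_map_of_mem L.subtype t.2)
    · exact hxp
  have h1 : Cfsg.IsPReducedNormal p
      (normalClosure ((X.map (S : Subgroup L).subtype : Subgroup L) : Set L)) :=
    isPReducedNormal_normalClosure hL S _ le_rfl X hred
  exact ⟨s, le_sSup (α := Subgroup L) h1 (subset_normalClosure (mem_map_of_mem (S : Subgroup L).subtype hsX)), rfl⟩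

theorem omegaOne_center_le_sylowCenterClosure [Finite G] [Fact p.Prime] (T : Sylow p G)
    {L : Subgroup G} (hTL : (T : Subgroup G) ≤ L) :
    Cfsg.omegaOne p ((T : Subgroup G) ⊓ centralizer ((T : Subgroup G) : Set G)) ≤
      Cfsg.sylowCenterClosure p L := by
  refine le_of_eq_of_le ?_ (le_iSup _ (T.subtype hTL))
  rw [Sylow.coe_subtype, subgroupOf_map_subtype, inf_of_le_left hTL]

theorem yOf_le_omegaOne_center_pCoreOf (L : Subgroup G) :
    Cfsg.largestPReducedOf p L ≤
      Cfsg.omegaOne p (Cfsg.pCoreOf p L ⊓ centralizer (Cfsg.pCoreOf p L : Set G)) := fun y hy =>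
  subset_closure ⟨⟨H60.yOf_le_pCoreOf L hy,
    le_centralizer_iff.mp (H60.pCoreOf_le_centralizer_yOf L) hy⟩,
    (H60.isElementaryAbelian_yOf L).2 y hy⟩

theorem pCoreOf_le_sylow [Finite G] [Fact p.Prime] (T : Sylow p G) {L : Subgroup G}
    (hTL : (T : Subgroup G) ≤ L) : Cfsg.pCoreOf p L ≤ T := by
  refine (Subgroup.map_mono (Cores.pCore_le_sylow (T.subtype hTL))).trans ?_
  rw [Sylow.coe_subtype, subgroupOf_map_subtype]
  exact inf_le_left

theorem sylow_inf_centralizer_yOf [Finite G] [Fact p.Prime] (T : Sylow p G) {L : Subgroup G}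
    (hTL : (T : Subgroup G) ≤ L) :
    (T : Subgroup G) ≤ normalizer (centralizer (Cfsg.largestPReducedOf p L : Set G) : Set G) :=
  hTL.trans ((H60.le_normalizer_yOf L).trans (H60.normalizer_le_normalizer_centralizer _))

theorem exists_pow_mul_mem {C : Subgroup G} {a c : G} (ha : a ∈ normalizer (C : Set G))
    (hc : c ∈ C) (m : ℕ) : ∃ c' ∈ C, (a * c) ^ m = a ^ m * c' := by
  induction m with
  | zero => exact ⟨1, one_mem _, by simp⟩
  | succ m ih =>
    obtain ⟨c', hc', h⟩ := ih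
    refine ⟨a⁻¹ * c' * a * c, mul_mem ?_ hc, by rw [pow_succ, h, pow_succ]; group⟩
    simpa using (mem_normalizer_iff.mp (inv_mem ha) c').mp hc'

/-- Two subgroups with the same product with `C(Y_M)`: `Y_M` is p-reduced in both. -/
theorem yOf_le_yOf_of_sup_eq [Finite G] [Fact p.Prime] {L M : Subgroup G}
    (hY : Cfsg.largestPReducedOf p M ≤ L)
    (h : L ⊔ centralizer (Cfsg.largestPReducedOf p M : Set G) =
      M ⊔ centralizer (Cfsg.largestPReducedOf p M : Set G)) :
    Cfsg.largestPReducedOf p M ≤ Cfsg.largestPReducedOf p L := by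
  set Y := Cfsg.largestPReducedOf p M with hYd
  set C := centralizer (Y : Set G) with hC
  have hYn : L ⊔ C ≤ normalizer (Y : Set G) := h.le.trans (H60.sup_centralizer_le_normalizer_yOf M)
  have hLC : L ⊔ C ≤ normalizer (C : Set G) :=
    hYn.trans (H60.normalizer_le_normalizer_centralizer _)
  have hn : (Y.subgroupOf L).Normal :=
    (normal_subgroupOf_iff_le_normalizer hY).mpr (le_sup_left.trans hYn)
  have hel := H60.isElementaryAbelian_yOf (p := p) M
  suffices hred : Cfsg.IsPReducedNormal p (Y.subgroupOf L) from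
    fun y hy => ⟨⟨y, hY hy⟩, le_sSup (α := Subgroup L) hred hy, rfl⟩
  refine isPReducedNormal_iff.mpr ⟨⟨⟨⟨fun a b => Subtype.ext (Subtype.ext ?_)⟩⟩, ?_⟩, ?_⟩
  · exact congrArg (fun z : Y => (z : G))
      (hel.1.is_comm.comm (⟨((a : L) : G), a.2⟩ : Y) ⟨((b : L) : G), b.2⟩)
  · exact fun a ha => Subtype.ext (hel.2 _ ha)
  intro N' hN' hpow
  have hCW : ∀ z : L, z ∈ centralizer (Y.subgroupOf L : Set L) → (z : G) ∈ C := fun z hz w hw =>
    congrArg Subtype.val (hz ⟨w, hY hw⟩ hw)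
  set N₀ := N'.map L.subtype with hN₀
  have hN₀L : N₀ ≤ L := map_subtype_le _
  have hN₀C : N₀ ≤ normalizer (C : Set G) := hN₀L.trans (le_sup_left.trans hLC)
  set X := N₀ ⊔ C with hX
  have hXn : L ⊔ C ≤ normalizer (X : Set G) := by
    refine sup_le (fun g hg => mem_normalizer_of_forall fun u hu => ?_)
      (le_sup_right.trans Subgroup.le_normalizer)
    have h1 : X.map (MulAut.conj g).toMonoidHom ≤ X := by
      rw [hX, Subgroup.map_sup]
      refine sup_le_sup ?_ ?_
      · rintro _ ⟨_, ⟨y, hy, rfl⟩, rfl⟩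
        exact ⟨⟨g, hg⟩ * y * ⟨g, hg⟩⁻¹, hN'.conj_mem y hy _, rfl⟩
      · rintro _ ⟨y, hy, rfl⟩
        exact (mem_normalizer_iff.mp (hLC (mem_sup_left hg)) y).mp hy
    exact h1 (mem_map_of_mem (MulAut.conj g).toMonoidHom hu)
  have hXM : ((X ⊓ M).subgroupOf M).Normal := by
    refine (normal_subgroupOf_iff_le_normalizer inf_le_right).mpr fun g hg => ?_
    refine mem_normalizer_of_forall fun u hu =>
      ⟨(mem_normalizer_iff.mp (hXn (h.ge (mem_sup_left hg))) u).mp hu.1,
        (mul_mem (mul_mem hg hu.2) (inv_mem hg) : g * u * g⁻¹ ∈ M)⟩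
  have hmul : (X : Set G) = (N₀ : Set G) * (C : Set G) :=
    Subgroup.coe_mul_of_left_le_normalizer_right N₀ C hN₀C
  have hM := (isPReducedNormal_iff.mp (H60.isPReducedNormal_largest (p := p) (L := M))).2 _ hXM
    fun x hx => by
      obtain ⟨n, hn, c, hc, hnc⟩ := hmul.le (show ((x : M) : G) ∈ X from hx.1)
      obtain ⟨n', hn', rfl⟩ := hn
      obtain ⟨k, hk⟩ := hpow n' hn'
      obtain ⟨c', hc', hcc⟩ := exists_pow_mul_mem (hN₀C (mem_map_of_mem _ hn')) hc (p ^ k)
      refine ⟨k, fun y hy => Subtype.ext ?_⟩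
      have h1 : ((x : M) : G) ^ p ^ k ∈ C := by
        rw [← hnc]
        simp only at hcc ⊢
        rw [hcc]
        refine mul_mem ?_ hc'
        simpa using hCW _ hk
      simpa using h1 _ (mem_map_of_mem M.subtype hy)
  intro n hn w hw
  refine Subtype.ext ?_
  suffices hnC : (n : G) ∈ C from hnC _ hw
  have hnX : (n : G) ∈ X := mem_sup_left (mem_map_of_mem _ hn)
  obtain ⟨m, hm, c, hc, hmc⟩ := (Subgroup.coe_mul_of_left_le_normalizer_right M C
    (le_sup_left.trans (h.ge.trans hLC))).le (h.le (mem_sup_left (n.2 : (n : G) ∈ L)))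
  simp only at hmc
  have hmX : m ∈ X := by
    rw [show m = n * c⁻¹ by rw [← hmc]; group]
    exact mul_mem hnX (mem_sup_right (inv_mem hc))
  rw [← hmc]
  refine mul_mem ?_ hc
  rintro _ ⟨y, hy, rfl⟩
  exact congrArg Subtype.val (hM (x := (⟨m, hm⟩ : M)) ⟨hmX, hm⟩ y hy)

end Cfsg.Agent.H59
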