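import Cfsg.Agent.H60.Basic
import Cfsg.Agent.H59.PIrred

/-!
# Y-minimal groups
-/

set_option autoImplicit false

namespace Cfsg.Agent.H59

open Subgroup
open scoped Pointwise

variable {G : Type*} [Group G] [Finite G] {p : ℕ} [Fact p.Prime]
  {M Y : Subgroup G}

omit [Fact p.Prime] in
theorem minOver_le (hmin : Cfsg.IsMinimalOver Y) (hM : IsCoatom M) (hYM : Y ≤ M) {K : Subgroup G}
    (hYK : Y ≤ K) (hK : K ≠ ⊤) : K ≤ M := by
  obtain ⟨-, M', -, huniq⟩ := hmin
  obtain ⟨N, hN, hKN⟩ := (eq_top_or_exists_le_coatom K).resolve_left hK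
  rw [huniq M ⟨hM, hYM⟩, ← huniq N ⟨hN, hYK.trans hKN⟩]
  exact hKN

omit [Fact p.Prime] in
theorem minOver_not_le_normal (hmin : Cfsg.IsMinimalOver Y) {N : Subgroup G} [N.Normal] (h : N ≠ ⊤) :
    ¬ Y ≤ N := fun hYN => h (top_le_iff.mp (hmin.1.ge.trans (normalClosure_le_normal hYN)))

theorem minOver_pCore_le (hmin : Cfsg.IsMinimalOver Y) (hM : IsCoatom M) (hYM : Y ≤ M)
    (hY : IsPGroup p Y) : Cfsg.pCore p G ≤ M := by
  by_cases h : Y ⊔ Cfsg.pCore p G = ⊤
  · exfalso
    have hG : IsPGroup p (⊤ : Subgroup G) := h ▸ hY.to_sup_of_normal_right Cores.pCore_isPGroup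
    have hG' : IsPGroup p G := hG.of_equiv Subgroup.topEquiv
    have := PGroups.normal_of_isCoatom hG' hM
    exact minOver_not_le_normal hmin hM.1 hYM
  · exact le_sup_right.trans (minOver_le hmin hM hYM le_sup_left h)

theorem minOver_normalizer_sylow_le (hmin : Cfsg.IsMinimalOver Y) (hM : IsCoatom M) (T : Sylow p M)
    (hYT : Y ≤ (T : Subgroup M).map M.subtype) :
    normalizer (((T : Subgroup M).map M.subtype : Subgroup G) : Set G) ≤ M := by
  refine minOver_le hmin hM (hYT.trans (map_subtype_le _)) (hYT.trans Subgroup.le_normalizer) fun h => ?_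
  have := normalizer_eq_top_iff.mp h
  refine minOver_not_le_normal hmin (fun htop => hM.1 ?_) hYT
  exact top_le_iff.mp (htop.ge.trans (map_subtype_le _))

theorem minOver_exists_sylow (hmin : Cfsg.IsMinimalOver Y) (hM : IsCoatom M) (T : Sylow p M)
    (hYT : Y ≤ (T : Subgroup M).map M.subtype) :
    ∃ P : Sylow p G, (P : Subgroup G) = (T : Subgroup M).map M.subtype := by
  set S := (T : Subgroup M).map M.subtype with hS
  obtain ⟨P, hP⟩ := (T.isPGroup'.map M.subtype).exists_le_sylow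
  refine ⟨P, ?_⟩
  by_contra hne
  obtain ⟨x, hxP, hxS, hxn⟩ : ∃ x ∈ (P : Subgroup G), x ∉ S ∧ x ∈ normalizer (S : Set G) := by
    have h1 : S.subgroupOf P ≠ ⊤ := fun h => hne (le_antisymm (subgroupOf_eq_top.mp h) hP)
    obtain ⟨x, hx, hxn⟩ := SetLike.exists_of_lt (PGroups.lt_normalizer P.isPGroup' h1)
    exact ⟨x, x.2, hxn, Subgroup.le_normalizer_map (P : Subgroup G).subtype (mem_map_of_mem _ hx)
      |> fun h' => by rwa [subgroupOf_map_subtype, inf_of_le_left hP] at h'⟩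
  have hxM : x ∈ M := minOver_normalizer_sylow_le hmin hM T hYT hxn
  have h2 : (T : Subgroup M) ≤ (P : Subgroup G).subgroupOf M := fun t ht => hP (mem_map_of_mem _ ht)
  have h3 := T.3 (P.isPGroup'.comap_subtype) h2
  exact hxS ⟨⟨x, hxM⟩, h3.le (show (⟨x, hxM⟩ : M) ∈ (P : Subgroup G).subgroupOf M from hxP), rfl⟩

omit [Fact p.Prime] in
theorem minOver_normalizer_eq (hmin : Cfsg.IsMinimalOver Y) (hM : IsCoatom M) (hYM : Y ≤ M) :
    normalizer (M : Set G) = M := by
  refine le_antisymm (fun g hg => ?_) Subgroup.le_normalizer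
  by_contra hgM
  have h : normalizer (M : Set G) = ⊤ := hM.2 _
    (lt_of_le_of_ne Subgroup.le_normalizer fun e => hgM (e.symm ▸ hg))
  have := normalizer_eq_top_iff.mp h
  exact minOver_not_le_normal hmin hM.1 hYM

omit [Fact p.Prime] in
theorem minOver_sup_conj (hmin : Cfsg.IsMinimalOver Y) (hM : IsCoatom M) (hYM : Y ≤ M) {g : G}
    (hg : g ∉ M) : Y ⊔ H60.cj Y g = ⊤ := by
  by_contra h
  have h1 : H60.cj Y g ≤ M := le_sup_right.trans (minOver_le hmin hM hYM le_sup_left h)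
  have h2 : Y ≤ H60.cj M g⁻¹ := (H60.cj_le_iff g).mp h1
  have h3 : H60.cj M g⁻¹ ≠ ⊤ := fun e => hM.1 (by
    have := congrArg (fun A => H60.cj A g) e
    simp only [H60.cj_cj, mul_inv_cancel, H60.cj_one] at this
    rw [this, H60.cj]
    exact Subgroup.map_top_of_surjective _ (MulAut.conj g).surjective)
  have h4 : H60.cj M g⁻¹ ≤ M := minOver_le hmin hM hYM h2 h3
  have h5 : H60.cj M g⁻¹ = M := eq_of_le_of_card_ge h4 (H60.card_cj M g⁻¹).ge
  have h6 : g⁻¹ ∈ M := (minOver_normalizer_eq hmin hM hYM).le (H60.cj_eq_self_iff.mp h5)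
  exact hg (inv_inv g ▸ inv_mem h6)

omit [Fact p.Prime] in
theorem minOver_inf_conj (hmin : Cfsg.IsMinimalOver Y) (hM : IsCoatom M) (hYM : Y ≤ M)
    (hY : IsMulCommutative Y) {g : G} (hg : g ∉ M) : Y ⊓ H60.cj Y g = Y ⊓ center G := by
  apply le_antisymm
  · intro z hz
    refine ⟨hz.1, ?_⟩
    have : (⊤ : Subgroup G) ≤ centralizer ({z} : Set G) := by
      rw [← minOver_sup_conj hmin hM hYM hg]
      refine sup_le (fun y hy => ?_) (fun y hy => ?_)
      · rintro _ rfl
        exact (mem_centralizer_iff.mp (le_centralizer_self hY hz.1) y hy).symm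
      · rintro _ rfl
        obtain ⟨u, hu, hu'⟩ := hz.2
        obtain ⟨v, hv, rfl⟩ := hy
        rw [← hu', ← map_mul, ← map_mul, mem_centralizer_iff.mp (le_centralizer_self hY hv) u hu]
    exact mem_center_iff.mpr fun x => (this (mem_top x) z rfl).symm
  · intro z hz
    refine ⟨hz.1, z, hz.1, ?_⟩
    change g * z * g⁻¹ = z
    rw [mem_center_iff.mp hz.2 g, mul_inv_cancel_right]

theorem minOver_isPClosed (hmin : Cfsg.IsMinimalOver Y) (hM : IsCoatom M) (P : Sylow p G)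
    (hYP : Y ≤ P) (hPM : (P : Subgroup G) ≤ M) {N : Subgroup G} [hN : N.Normal] (hNM : N ≤ M) :
    Cfsg.IsPClosed p N ∧ (Cfsg.pCore p N).map N.subtype = (P : Subgroup G) ⊓ N := by
  obtain ⟨R, hR⟩ := exists_sylow_eq_inf P (C := N) le_normalizer_of_normal
  have hfr := Sylow.normalizer_sup_eq_top R
  rw [hR, subgroupOf_map_subtype, inf_of_le_left inf_le_right] at hfr
  have hYn : Y ≤ normalizer (((P : Subgroup G) ⊓ N : Subgroup G) : Set G) :=
    hYP.trans fun t ht => mem_normalizer_of_forall fun u hu =>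
      ⟨(mul_mem (mul_mem ht hu.1) (inv_mem ht) : t * u * t⁻¹ ∈ (P : Subgroup G)), hN.conj_mem u hu.2 t⟩
  have hn : normalizer (((P : Subgroup G) ⊓ N : Subgroup G) : Set G) = ⊤ := by
    by_contra h
    exact hM.1 (top_le_iff.mp (hfr ▸ sup_le (minOver_le hmin hM (hYP.trans hPM) hYn h) hNM))
  have := normalizer_eq_top_iff.mp hn
  have hle := Cores.le_pCore (N := (P : Subgroup G) ⊓ N) (P.isPGroup'.to_le inf_le_left)
  refine ⟨(isPClosed_normal_iff N P).mpr hle, le_antisymm (le_inf ?_ (map_subtype_le _)) ?_⟩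
  · exact (Cores.map_pCore_le_of_normal N).trans (Cores.pCore_le_sylow P)
  · intro x hx
    exact ⟨⟨x, hx.2⟩, Cores.subgroupOf_pCore_le N
      (show (⟨x, hx.2⟩ : N) ∈ (Cfsg.pCore p G).subgroupOf N from hle hx), rfl⟩

end Cfsg.Agent.H59
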