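import Cfsg.Agent.H59.Yoshida
import Mathlib.Algebra.Group.ForwardDiff

/-!
# Iterated commutators in the Wielandt–Yoshida theorem
-/

set_option autoImplicit false

namespace Cfsg.Agent.H59

open Subgroup


universe u

variable {G : Type u} [Group G] {p : ℕ}

theorem isCoatom_of_index_prime [Finite G] {M : Subgroup G} (h : M.index.Prime) : IsCoatom M := by
  refine ⟨fun e => h.ne_one (index_eq_one.mpr e), fun B hB => ?_⟩
  rcases (Nat.dvd_prime h).mp (index_dvd_of_le hB.le) with h1 | h1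
  · exact index_eq_one.mp h1
  · exfalso
    have h2 := relIndex_mul_index hB.le
    rw [h1] at h2
    have h3 : M.relIndex B = 1 := Nat.eq_of_mul_eq_mul_right h.pos (by rw [h2, one_mul])
    exact hB.not_ge (relIndex_eq_one.mp h3)

theorem frattini_le_ker [Finite G] [hp : Fact p.Prime] (f : G →* Multiplicative (ZMod p)) :
    frattini G ≤ f.ker := by
  rcases (Nat.dvd_prime hp.out).mp (by
    simpa using Subgroup.card_subgroup_dvd_card f.range) with h1 | h1
  · intro x _
    have h2 : f.range = ⊥ := Subgroup.eq_bot_of_card_eq _ h1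
    exact (Subgroup.mem_bot.mp (h2 ▸ ⟨x, rfl⟩) : f x = 1)
  · refine frattini_le_coatom (isCoatom_of_index_prime ?_)
    rw [Subgroup.index_ker]
    change (Nat.card f.range).Prime
    rw [show Nat.card f.range = p from h1]
    exact hp.out

theorem choose_pred_cast [hp : Fact p.Prime] : ∀ {k : ℕ}, k < p →
    ((p - 1).choose k : ZMod p) = (-1) ^ k
  | 0, _ => by simp
  | k + 1, hk => by
    have h1 := choose_pred_cast (k := k) (by omega)
    have h2 : ((p.choose (k + 1) : ℕ) : ZMod p) = 0 :=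
      (ZMod.natCast_eq_zero_iff _ _).mpr (hp.out.dvd_choose_self (by omega) hk)
    rw [show p.choose (k + 1) = (p - 1).choose k + (p - 1).choose (k + 1) by
      conv_lhs => rw [show p = p - 1 + 1 by have := hp.out.pos; omega]
      rw [Nat.choose_succ_succ], Nat.cast_add, h1] at h2
    rw [pow_succ, mul_neg_one]
    exact eq_neg_of_add_eq_zero_right h2

/-- `[y, z]` in the convention of the statements. -/
abbrev cstep (z : G) : G → G := fun y => y⁻¹ * z⁻¹ * y * z

section Core

variable {R : Subgroup G} (φ : R →* Multiplicative (ZMod p)) (x z : G)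

open Classical in
/-- `φ` extended by `1`. -/
noncomputable def extVal (g : G) : ZMod p :=
  Multiplicative.toAdd (if h : g ∈ R then φ ⟨g, h⟩ else 1)

/-- The values of `φ` at the conjugates of the iterated commutators. -/
noncomputable def commVal (k i : ℕ) : ZMod p :=
  extVal φ ((z ^ i)⁻¹ * (cstep z)^[k] x * z ^ i)

theorem extVal_eq {g : G} (h : g ∈ R) : extVal φ g = Multiplicative.toAdd (φ ⟨g, h⟩) := by
  rw [extVal, dif_pos h]

theorem extVal_mul {a b : G} (ha : a ∈ R) (hb : b ∈ R) :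
    extVal φ (a * b) = extVal φ a + extVal φ b := by
  rw [extVal_eq φ (mul_mem ha hb), extVal_eq φ ha, extVal_eq φ hb,
    show (⟨a * b, mul_mem ha hb⟩ : R) = ⟨a, ha⟩ * ⟨b, hb⟩ from rfl, map_mul, toAdd_mul]

theorem extVal_inv {a : G} (ha : a ∈ R) : extVal φ a⁻¹ = -extVal φ a := by
  rw [extVal_eq φ (inv_mem ha), extVal_eq φ ha,
    show (⟨a⁻¹, inv_mem ha⟩ : R) = ⟨a, ha⟩⁻¹ from rfl, map_inv, toAdd_inv]

theorem extVal_conj {a b : G} (ha : a ∈ R) (hb : b ∈ R) : extVal φ (b⁻¹ * a * b) = extVal φ a := by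
  rw [extVal_mul φ (mul_mem (inv_mem hb) ha) hb, extVal_mul φ (inv_mem hb) ha, extVal_inv φ hb]
  abel

variable (hz : z ∈ normalizer (R : Set G)) (hx : x ∈ R)

include hz in
theorem conj_pow_mem {y : G} (hy : y ∈ R) (i : ℕ) : (z ^ i)⁻¹ * y * z ^ i ∈ R :=
  (mem_normalizer_iff''.mp (pow_mem hz i) y).mp hy

include hz hx in
theorem iterate_cstep_mem (k : ℕ) : (cstep z)^[k] x ∈ R := by
  induction k with
  | zero => exact hx
  | succ k ih =>
    rw [Function.iterate_succ_apply']
    change ((cstep z)^[k] x)⁻¹ * z⁻¹ * (cstep z)^[k] x * z ∈ R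
    have h := conj_pow_mem z hz ih 1
    rw [pow_one] at h
    simpa [mul_assoc] using mul_mem (inv_mem ih) h

include hz hx in
theorem commVal_succ (k i : ℕ) :
    commVal φ x z (k + 1) i = commVal φ x z k (i + 1) - commVal φ x z k i := by
  have hm := iterate_cstep_mem x z hz hx k
  rw [commVal, commVal, commVal, Function.iterate_succ_apply']
  set y := (cstep z)^[k] x
  rw [show (z ^ i)⁻¹ * cstep z y * z ^ i =
      ((z ^ i)⁻¹ * y * z ^ i)⁻¹ * ((z ^ (i + 1))⁻¹ * y * z ^ (i + 1)) by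
    simp only [cstep, pow_succ']; group,
    extVal_mul φ (inv_mem (conj_pow_mem z hz hm i)) (conj_pow_mem z hz hm (i + 1)),
    extVal_inv φ (conj_pow_mem z hz hm i)]
  abel

include hz hx in
theorem commVal_periodic (hzp : z ^ p ∈ R) (k i : ℕ) :
    commVal φ x z k (i + p) = commVal φ x z k i := by
  have hm := iterate_cstep_mem x z hz hx k
  rw [commVal, commVal, pow_add,
    show (z ^ i * z ^ p)⁻¹ * (cstep z)^[k] x * (z ^ i * z ^ p) =
      (z ^ p)⁻¹ * ((z ^ i)⁻¹ * (cstep z)^[k] x * z ^ i) * z ^ p by group,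
    extVal_conj φ (conj_pow_mem z hz hm i) hzp]

include hz hx in
theorem commVal_eq_fwdDiff (k : ℕ) : commVal φ x z k = (fwdDiff 1)^[k] (commVal φ x z 0) := by
  induction k with
  | zero => rfl
  | succ k ih =>
    rw [Function.iterate_succ_apply', ← ih]
    funext i
    exact commVal_succ φ x z hz hx k i

include hz hx in
theorem commVal_pred [hp : Fact p.Prime] (i : ℕ) :
    commVal φ x z (p - 1) i = ∑ j ∈ Finset.range p, commVal φ x z 0 (i + j) := by
  rw [commVal_eq_fwdDiff φ x z hz hx, fwdDiff_iter_eq_sum_shift,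
    Nat.sub_add_cancel hp.out.one_le]
  refine Finset.sum_congr rfl fun j hj => ?_
  rw [Finset.mem_range] at hj
  have hone : ((-1 : ZMod p) ^ (p - 1 - j)) * ((p - 1).choose j : ZMod p) = 1 := by
    rw [choose_pred_cast hj, ← pow_add, show p - 1 - j + j = p - 1 by omega]
    exact ZMod.pow_card_sub_one_eq_one (neg_ne_zero.mpr one_ne_zero)
  rw [zsmul_eq_mul, smul_eq_mul, mul_one]
  push_cast
  rw [hone, one_mul]

open Classical in
include hz hx in
theorem commVal_pred_zero_ne [hp : Fact p.Prime]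
    (h : (∏ i : Fin p, if h : (z ^ (i : ℕ))⁻¹ * x * z ^ (i : ℕ) ∈ R then φ ⟨_, h⟩ else 1) ≠ 1) :
    commVal φ x z (p - 1) 0 ≠ 0 := by
  intro h0
  apply h
  rw [← toAdd_eq_zero, toAdd_prod, ← h0, commVal_pred φ x z hz hx,
    ← Fin.sum_univ_eq_sum_range (fun j => commVal φ x z 0 (0 + j))]
  exact Finset.sum_congr rfl fun i _ => by simp [commVal, extVal]

end Core

end Cfsg.Agent.H59

namespace Cfsg.Agent.H59

open Subgroup

universe u

variable {G : Type u} [Group G] {p : ℕ}

theorem not_le_of_inf_commutator_ne [Finite G] (S : Sylow p G) (N : Subgroup G)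
    (h : (S : Subgroup G) ⊓ commutator G ≠ (S : Subgroup G) ⊓ ⁅N, N⁆) :
    ¬ commutator G ⊓ (S : Subgroup G) ≤ ⁅N, N⁆ := fun hle => h (le_antisymm
  (le_inf inf_le_left (inf_comm (commutator G) _ ▸ hle))
  (inf_le_inf_left _ (Subgroup.commutator_mono le_top le_top)))

/-- The Wielandt–Yoshida theorem. -/
theorem wielandt_yoshida [Finite G] [hp : Fact p.Prime] (S : Sylow p G) {W : Subgroup G}
    (hW : Cfsg.IsWeaklyClosed W (S : Subgroup G))
    (h : ¬ commutator G ⊓ (S : Subgroup G) ≤ ⁅normalizer (W : Set G), normalizer (W : Set G)⁆) :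
    ∃ x ∈ (S : Subgroup G), ∃ z ∈ W, ∃ W₀ : Subgroup ↥W, IsCoatom W₀ ∧
      (cstep z)^[p - 1] x ∈ W₀.map W.subtype ∧
      (cstep z)^[p - 1] x ∉ ((frattini ↥W₀).map W₀.subtype).map W.subtype := by
  classical
  obtain ⟨T, R, φ, x, z, hTS, hWT, hRT, hind, hTR, hzW, hzR, hx, -, hprod⟩ := yoshida_core S hW h
  have hz : z ∈ normalizer (R : Set G) := hTR (hWT hzW)
  have hxS : x ∈ (S : Subgroup G) := hTS (hRT hx)
  have hne := commVal_pred_zero_ne φ x z hz hx hprod
  have hSW : (S : Subgroup G) ≤ normalizer (W : Set G) := fun s hs => by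
    refine H60.cj_eq_self_iff.mp (hW.2 s ?_)
    exact (H60.cj_mono hW.1 s).trans (H60.cj_le_of_mem hs)
  have hcW : ∀ k, (cstep z)^[k + 1] x ∈ W := by
    intro k
    rw [Function.iterate_succ_apply']
    have hy := hTS (hRT (iterate_cstep_mem x z hz hx k))
    exact mul_mem ((mem_normalizer_iff''.mp (hSW hy) _).mp (inv_mem hzW)) hzW
  have hp1 : p - 1 = p - 2 + 1 := by have := hp.out.two_le; omega
  have hcR := iterate_cstep_mem x z hz hx (p - 1)
  have hcW' : (cstep z)^[p - 1] x ∈ W := hp1 ▸ hcW (p - 2)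
  refine ⟨x, hxS, z, hzW, R.subgroupOf W, isCoatom_of_index_prime ?_, ⟨⟨_, hcW'⟩, hcR, rfl⟩, ?_⟩
  · have h1 : R.relIndex W ≤ p :=
      hind ▸ relIndex_le_of_le_right hWT (by rw [hind]; exact hp.out.ne_zero)
    obtain ⟨n, hn⟩ := ((S.isPGroup'.to_le hW.1).index (R.subgroupOf W))
    have h2 : (R.subgroupOf W).index ≠ 1 := fun e => hzR (relIndex_eq_one.mp e hzW)
    have h3 : n = 1 := by
      rcases n with _ | _ | n
      · exact absurd hn h2
      · rfl
      · exfalso
        change (R.subgroupOf W).index ≤ p at h1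
        rw [hn] at h1
        have h4 : p ^ 1 < p ^ (n + 2) := Nat.pow_lt_pow_right hp.out.one_lt (by omega)
        rw [pow_one] at h4
        exact absurd h1 (not_le.mpr (by simpa [add_assoc] using h4))
    rw [hn, h3, pow_one]; exact hp.out
  · intro hc
    obtain ⟨_, ⟨w, hw, rfl⟩, hwc⟩ := hc
    let ψ : R.subgroupOf W →* Multiplicative (ZMod p) :=
      φ.comp { toFun := fun w => ⟨((w : W) : G), w.2⟩, map_one' := rfl, map_mul' := fun _ _ => rfl }
    have h1 : ψ w = 1 := frattini_le_ker ψ hw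
    apply hne
    rw [commVal, pow_zero, inv_one, one_mul, mul_one, extVal_eq φ hcR, toAdd_eq_zero, ← h1]
    exact congrArg φ (Subtype.ext hwc.symm)

end Cfsg.Agent.H59
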