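import Cfsg.Agent.H59.YoshidaComm
import Mathlib.NumberTheory.Padics.PadicVal.Basic
import Mathlib.GroupTheory.Perm.Basic

/-!
# `C_p ≀ C_p` as a homomorphic image
-/

set_option autoImplicit false

namespace Cfsg.Agent.H59

open Subgroup

universe u

variable {G : Type u} [Group G] {p : ℕ}

theorem card_sylow_perm_sq [hp : Fact p.Prime] (P : Sylow p (Equiv.Perm (Fin (p ^ 2)))) :
    Nat.card P = p ^ (p + 1) := by
  rw [Sylow.card_eq_multiplicity, Nat.card_perm, Nat.card_eq_fintype_card, Fintype.card_fin,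
    Nat.factorization_def _ hp.out, sq, padicValNat_factorial_mul]
  congr 1
  have h := padicValNat_factorial_mul (p := p) 1
  rw [mul_one] at h
  rw [h]
  simp [add_comm]

variable {R : Subgroup G} (φ : R →* Multiplicative (ZMod p)) (x z : G)

theorem extVal_one : extVal φ (1 : G) = 0 := by
  rw [extVal_eq φ (one_mem R), show (⟨1, one_mem R⟩ : R) = 1 from rfl, map_one, toAdd_one]

variable (hz : z ∈ normalizer (R : Set G)) (hx : x ∈ R)

include hz in
/-- The vector of the values of `φ` at the conjugates of an element of `R`. -/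
noncomputable def vecHom : R →* Multiplicative (Fin p → ZMod p) where
  toFun r := Multiplicative.ofAdd fun i => extVal φ ((z ^ (i : ℕ))⁻¹ * r * z ^ (i : ℕ))
  map_one' := by
    rw [← ofAdd_zero]
    refine congrArg _ (funext fun i => ?_)
    simp [extVal_one]
  map_mul' a b := by
    rw [← ofAdd_add]
    refine congrArg _ (funext fun i => ?_)
    rw [Pi.add_apply, ← extVal_mul φ (conj_pow_mem z hz a.2 _) (conj_pow_mem z hz b.2 _)]
    congr 1
    simp only [Subgroup.coe_mul]
    group

include hz hx in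
theorem commVal_eq_zero [hp : Fact p.Prime] (hzp : z ^ p ∈ R) {k : ℕ} (hk : p ≤ k) (i : ℕ) :
    commVal φ x z k i = 0 := by
  induction k, hk using Nat.le_induction generalizing i with
  | base =>
    obtain ⟨q, hq⟩ : ∃ q, p = q + 1 := ⟨p - 1, by have := hp.out.pos; omega⟩
    have h1 := commVal_succ φ x z hz hx (p - 1) i
    rw [Nat.sub_add_cancel hp.out.one_le] at h1
    rw [h1, commVal_pred φ x z hz hx, commVal_pred φ x z hz hx, sub_eq_zero,
      Finset.sum_congr rfl fun j _ => show commVal φ x z 0 (i + 1 + j) = commVal φ x z 0 (i + (j + 1)) by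
        rw [add_comm j 1, ← add_assoc]]
    have h2 := Finset.sum_range_succ' (fun j => commVal φ x z 0 (i + j)) p
    rw [Finset.sum_range_succ] at h2
    simp only [add_zero, commVal_periodic φ x z hz hx hzp 0 i] at h2
    exact (add_right_cancel h2).symm
  | succ k _ ih => rw [commVal_succ φ x z hz hx, ih, ih, sub_self]

include hz hx in
theorem commVal_pred_const [hp : Fact p.Prime] (hzp : z ^ p ∈ R) (i : ℕ) :
    commVal φ x z (p - 1) i = commVal φ x z (p - 1) 0 := by
  induction i with
  | zero => rfl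
  | succ i ih =>
    have h1 := commVal_succ φ x z hz hx (p - 1) i
    rw [Nat.sub_add_cancel hp.out.one_le, commVal_eq_zero φ x z hz hx hzp le_rfl i] at h1
    rw [← ih]
    exact sub_eq_zero.mp h1.symm

include hz hx in
/-- The conjugate values fill the whole of `(ℤ/p)^p`. -/
theorem vecHom_surjective [hp : Fact p.Prime] (hzp : z ^ p ∈ R)
    (hne : commVal φ x z (p - 1) 0 ≠ 0) : Function.Surjective (vecHom φ z hz) := by
  let d : Fin p → R := fun k => ⟨_, iterate_cstep_mem x z hz hx (k : ℕ)⟩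
  let L : (Fin p → ZMod p) →+ (Fin p → ZMod p) :=
    { toFun := fun c i => ∑ k : Fin p, c k * commVal φ x z k i
      map_zero' := by funext i; simp
      map_add' := fun a b => by funext i; simp [add_mul, Finset.sum_add_distrib] }
  have hinj : Function.Injective L := by
    rw [injective_iff_map_eq_zero]
    intro c hc
    have hall : ∀ i : ℕ, ∑ k : Fin p, c k * commVal φ x z k i = 0 := by
      intro i
      induction i using Nat.strong_induction_on with
      | _ i ih =>
        rcases lt_or_ge i p with h | h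
        · exact congrFun hc ⟨i, h⟩
        · rw [← Nat.sub_add_cancel h]
          simp only [commVal_periodic φ x z hz hx hzp]
          exact ih _ (by have := hp.out.pos; omega)
    have hshift : ∀ m i : ℕ, ∑ k : Fin p, c k * commVal φ x z (k + m) i = 0 := by
      intro m
      induction m with
      | zero => simpa using hall
      | succ m ih =>
        intro i
        simp only [← add_assoc, commVal_succ φ x z hz hx, mul_sub, Finset.sum_sub_distrib, ih, sub_self]
    by_contra hcne
    obtain ⟨k₀, hk₀, hmin⟩ := Finset.exists_min_image (Finset.univ.filter fun k => c k ≠ 0) id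
      (by
        obtain ⟨k, hk⟩ := Function.ne_iff.mp hcne
        exact ⟨k, by simpa using hk⟩)
    have hk₀' : c k₀ ≠ 0 := (Finset.mem_filter.mp hk₀).2
    have h1 := hshift (p - 1 - k₀) 0
    rw [Finset.sum_eq_single_of_mem k₀ (Finset.mem_univ _) fun k _ hk => ?_] at h1
    · rw [show (k₀ : ℕ) + (p - 1 - k₀) = p - 1 by omega] at h1
      exact hne ((mul_eq_zero.mp h1).resolve_left hk₀')
    · by_cases hck : c k = 0
      · rw [hck, zero_mul]
      · have hle : k₀ ≤ k := hmin k (by simpa using hck)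
        have hlt : (k₀ : ℕ) < k := lt_of_le_of_ne hle fun e => hk (Fin.ext e.symm)
        rw [commVal_eq_zero φ x z hz hx hzp (by omega), mul_zero]
  have hsurj := Finite.surjective_of_injective hinj
  intro v
  obtain ⟨c, hc⟩ := hsurj (Multiplicative.toAdd v)
  have hv : Multiplicative.toAdd v =
      Multiplicative.toAdd (∏ k : Fin p, vecHom φ z hz (d k) ^ (c k).val) := by
    rw [← hc, toAdd_prod]
    funext i
    change ∑ k : Fin p, c k * commVal φ x z k i = _
    rw [Finset.sum_apply]
    refine Finset.sum_congr rfl fun k _ => ?_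
    rw [toAdd_pow, Pi.smul_apply, nsmul_eq_mul]
    rw [ZMod.natCast_zmod_val]
    rfl
  have hmem : v ∈ (⊤ : Subgroup R).map (vecHom φ z hz) := by
    rw [Multiplicative.toAdd.injective hv]
    exact prod_mem fun k _ => pow_mem (mem_map_of_mem _ (mem_top (d k))) _
  obtain ⟨r, -, hr⟩ := hmem
  exact ⟨r, hr⟩

open Classical in
/-- The wreath product image from a subgroup of index `p` with a suitable homomorphism. -/
theorem wreath_of_core [Finite G] [hp : Fact p.Prime] {S R : Subgroup G} (hSp : IsPGroup p S)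
    (φ : R →* Multiplicative (ZMod p)) (x z : G) (hRT : R ≤ S) (hind : R.relIndex S = p)
    (hTR : S ≤ normalizer (R : Set G)) (hzW : z ∈ S) (hzR : z ∉ R) (hx : x ∈ R) (hzp : z ^ p ∈ R)
    (hprod : (∏ i : Fin p, if h : (z ^ (i : ℕ))⁻¹ * x * z ^ (i : ℕ) ∈ R then φ ⟨_, h⟩ else 1) ≠ 1) :
    ∃ (P : Sylow p (Equiv.Perm (Fin (p ^ 2))))
      (f : ↥S →* ↥(P : Subgroup (Equiv.Perm (Fin (p ^ 2))))), Function.Surjective f := by
  have hz : z ∈ normalizer (R : Set G) := hTR hzW
  have hne := commVal_pred_zero_ne φ x z hz hx hprod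
  have hvec := vecHom_surjective φ x z hz hx hzp hne
  have hφ : Function.Surjective φ := by
    intro m
    obtain ⟨r, hr⟩ := hvec (Multiplicative.ofAdd fun _ => Multiplicative.toAdd m)
    refine ⟨r, ?_⟩
    have h1 := congrFun (congrArg Multiplicative.toAdd hr) ⟨0, hp.out.pos⟩
    simpa [vecHom, extVal_eq φ r.2] using h1
  set K := (φ.ker.map R.subtype).subgroupOf S with hK
  have hKR : φ.ker.map R.subtype ≤ R := map_subtype_le _
  have hKidx : K.index = p ^ 2 := by
    change (φ.ker.map R.subtype).relIndex S = p ^ 2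
    rw [← relIndex_mul_relIndex _ R S hKR hRT, hind, relIndex,
      show (φ.ker.map R.subtype).subgroupOf R = φ.ker from
        comap_map_eq_self_of_injective R.subtype_injective _,
      Subgroup.index_ker, MonoidHom.range_eq_top.mpr hφ, Subgroup.card_top, sq]
    simp
  let e : (↥S ⧸ K) ≃ Fin (p ^ 2) :=
    (Finite.equivFinOfCardEq (by rw [← index_eq_card, hKidx]))
  let f₀ : ↥S →* Equiv.Perm (Fin (p ^ 2)) :=
    e.permCongrHom.toMonoidHom.comp (MulAction.toPermHom ↥S (↥S ⧸ K))
  have hker : f₀.ker ≤ (R.subgroupOf S) ∧ ∀ r : R,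
      (⟨r, hRT r.2⟩ : ↥S) ∈ f₀.ker → vecHom φ z hz r = 1 := by
    have hfix : ∀ s : ↥S, s ∈ f₀.ker → ∀ a : ↥S, a⁻¹ * s * a ∈ K := by
      intro s hs a
      have h1 : MulAction.toPermHom ↥S (↥S ⧸ K) s = 1 :=
        e.permCongrHom.injective (by rw [map_one]; exact hs)
      have h2 : s • (QuotientGroup.mk a : ↥S ⧸ K) = QuotientGroup.mk a :=
        Equiv.congr_fun h1 (QuotientGroup.mk a : ↥S ⧸ K)
      rw [MulAction.Quotient.smul_mk, eq_comm, QuotientGroup.eq] at h2
      simpa [mul_assoc] using h2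
    refine ⟨fun s hs => ?_, fun r hr => ?_⟩
    · have := hfix s hs 1
      rw [inv_one, one_mul, mul_one] at this
      exact hKR this
    · refine Multiplicative.toAdd.injective (funext fun i => ?_)
      have h3 := hfix _ hr ⟨z ^ (i : ℕ), pow_mem hzW _⟩
      obtain ⟨r', hr', he⟩ := h3
      change extVal φ ((z ^ (i : ℕ))⁻¹ * r * z ^ (i : ℕ)) = 0
      rw [show (z ^ (i : ℕ))⁻¹ * (r : G) * z ^ (i : ℕ) = (r' : G) from he.symm, extVal_eq φ r'.2,
        show (⟨(r' : G), r'.2⟩ : R) = r' from rfl, show φ r' = 1 from hr', toAdd_one]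
  obtain ⟨P, hP⟩ := (hSp.of_surjective f₀.rangeRestrict f₀.rangeRestrict_surjective).exists_le_sylow
  have hcard : p ^ (p + 1) ≤ Nat.card f₀.range := by
    set B := (R.subgroupOf S).map f₀ with hB
    have hBle : B ≤ f₀.range := Subgroup.map_le_range _ _
    have hlt : B < f₀.range := by
      refine lt_of_le_of_ne hBle fun e' => hzR ?_
      obtain ⟨r, hr, hrz⟩ := (e'.symm ▸ ⟨⟨z, hzW⟩, rfl⟩ : f₀ ⟨z, hzW⟩ ∈ B)
      have h1 := hker.1 (show r⁻¹ * ⟨z, hzW⟩ ∈ f₀.ker by
        rw [MonoidHom.mem_ker, map_mul, map_inv, hrz, inv_mul_cancel])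
      have h2 := mul_mem hr h1
      rw [mul_inv_cancel_left] at h2
      exact h2
    have hcB : p ^ p ≤ Nat.card B := by
      let g : R → B := fun r => ⟨f₀ ⟨r, hRT r.2⟩, ⟨_, r.2, rfl⟩⟩
      have hfac : ∀ a b : R, g a = g b → vecHom φ z hz a = vecHom φ z hz b := by
        intro a b hab
        have h1 : vecHom φ z hz (a⁻¹ * b) = 1 := hker.2 _ (by
          rw [MonoidHom.mem_ker, show (⟨((a⁻¹ * b : R) : G), hRT (a⁻¹ * b : R).2⟩ : ↥S) =
            ⟨a, hRT a.2⟩⁻¹ * ⟨b, hRT b.2⟩ from rfl, map_mul, map_inv,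
            show f₀ ⟨a, hRT a.2⟩ = f₀ ⟨b, hRT b.2⟩ from congrArg Subtype.val hab, inv_mul_cancel])
        rwa [map_mul, map_inv, inv_mul_eq_one] at h1
      let k : B → Multiplicative (Fin p → ZMod p) := fun b =>
        if hb : ∃ r, g r = b then vecHom φ z hz hb.choose else 1
      have hk : Function.Surjective k := by
        intro v
        obtain ⟨r, hr⟩ := hvec v
        refine ⟨g r, ?_⟩
        simp only [k, dif_pos (show ∃ r', g r' = g r from ⟨r, rfl⟩)]
        rw [← hr]
        exact hfac _ _ (show ∃ r', g r' = g r from ⟨r, rfl⟩).choose_spec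
      have := Nat.card_le_card_of_surjective k hk
      simpa using this
    obtain ⟨n, hn⟩ := (P.isPGroup'.to_le hP).exists_card_eq
    obtain ⟨m, hm⟩ := (P.isPGroup'.to_le (hBle.trans hP)).exists_card_eq
    have h1 : Nat.card B < Nat.card f₀.range :=
      lt_of_le_of_ne (card_le_of_le hBle) fun e' => hlt.ne (eq_of_le_of_card_ge hBle e'.ge)
    rw [hn, hm] at h1
    rw [hm] at hcB
    have hmn := (Nat.pow_lt_pow_iff_right hp.out.one_lt).mp h1
    have hpm := (Nat.pow_le_pow_iff_right hp.out.one_lt).mp hcB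
    rw [hn]
    exact Nat.pow_le_pow_right hp.out.pos (by omega)
  have hPeq : f₀.range = (P : Subgroup (Equiv.Perm (Fin (p ^ 2)))) :=
    eq_of_le_of_card_ge hP ((card_sylow_perm_sq P).le.trans hcard)
  refine ⟨P, f₀.codRestrict _ fun s => hP ⟨s, rfl⟩, fun y => ?_⟩
  obtain ⟨s, hs⟩ := hPeq.ge y.2
  exact ⟨s, Subtype.ext hs⟩

/-- Yoshida: without control of transfer by `N(S)`, `C_p ≀ C_p` is an image of `S`. -/
theorem yoshida_wreath [Finite G] [hp : Fact p.Prime] (S : Sylow p G)
    (h : ¬ commutator G ⊓ (S : Subgroup G) ≤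
      ⁅normalizer ((S : Subgroup G) : Set G), normalizer ((S : Subgroup G) : Set G)⁆) :
    ∃ (P : Sylow p (Equiv.Perm (Fin (p ^ 2))))
      (f : ↥(S : Subgroup G) →* ↥(P : Subgroup (Equiv.Perm (Fin (p ^ 2))))), Function.Surjective f := by
  have hwc : Cfsg.IsWeaklyClosed (S : Subgroup G) (S : Subgroup G) :=
    ⟨le_rfl, fun g hg => eq_of_le_of_card_ge hg (H60.card_cj (S : Subgroup G) g).ge⟩
  obtain ⟨T, R, φ, x, z, hTS, hWT, hRT, hind, hTR, hzW, hzR, hx, hzp, hprod⟩ := yoshida_core S hwc h
  obtain rfl : T = (S : Subgroup G) := le_antisymm hTS hWT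
  exact wreath_of_core S.isPGroup' φ x z hRT hind hTR hzW hzR hx hzp hprod

end Cfsg.Agent.H59
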